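import Mathlib
import Cfsg.Agent.HHShult.Structure

/-!
Coprime action facts used for the general case.
-/

set_option autoImplicit false
set_option linter.style.haveILetI false
set_option linter.unusedSectionVars false

namespace CfsgLib.HHShultGen

open Subgroup CfsgLib.HHShult
open scoped commutatorElement

variable {G : Type*} [Group G] [Finite G]

theorem orderOf_coprime_of_pow {p q : ℕ} [hp : Fact p.Prime] [hq : Fact q.Prime] (hne : p ≠ q) {x y : G}
    (hx : ∃ i, x ^ p ^ i = 1) (hy : ∃ j, y ^ q ^ j = 1) : (orderOf x).Coprime (orderOf y) := by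
  obtain ⟨i, hi⟩ := hx
  obtain ⟨j, hj⟩ := hy
  exact Nat.Coprime.coprime_dvd_left (orderOf_dvd_of_pow_eq_one hi)
    (Nat.Coprime.coprime_dvd_right (orderOf_dvd_of_pow_eq_one hj)
      (((Nat.coprime_primes hp.out hq.out).2 hne).pow i j))

theorem eq_one_of_pow_pow {p q : ℕ} [hp : Fact p.Prime] [hq : Fact q.Prime] (hne : p ≠ q) {x : G}
    (hx : ∃ i, x ^ p ^ i = 1) (hy : ∃ j, x ^ q ^ j = 1) : x = 1 :=
  orderOf_eq_one_iff.1 ((orderOf_coprime_of_pow hne hx hy).eq_one_of_dvd dvd_rfl)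

theorem pow_prime_pow_of_mem {q : ℕ} {Q : Subgroup G} (hQ : IsPGroup q Q) {x : G} (hx : x ∈ Q) :
    ∃ i, x ^ q ^ i = 1 := by
  obtain ⟨i, hi⟩ := hQ ⟨x, hx⟩
  exact ⟨i, congrArg Subtype.val hi⟩

theorem inf_eq_bot_of_isPGroup {p q : ℕ} [Fact p.Prime] [Fact q.Prime] (hne : p ≠ q) {A B : Subgroup G}
    (hA : IsPGroup p A) (hB : IsPGroup q B) {x : G} (hxA : x ∈ A) (hxB : x ∈ B) : x = 1 :=
  eq_one_of_pow_pow hne (pow_prime_pow_of_mem hA hxA) (pow_prime_pow_of_mem hB hxB)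

/-- An element centralising its commutator with another one of coprime order centralises that one. -/
theorem commute_of_commute_comm {w x : G} (hc : Commute w ⁅w, x⁆)
    (hcop : (orderOf w).Coprime (orderOf ⁅w, x⁆)) : Commute w x := by
  have key : ∀ n : ℕ, w ^ n * x * (w ^ n)⁻¹ = ⁅w, x⁆ ^ n * x := by
    intro n
    induction n with
    | zero => simp
    | succ n ih =>
      rw [pow_succ' w, show w * w ^ n * x * (w * w ^ n)⁻¹ = w * (w ^ n * x * (w ^ n)⁻¹) * w⁻¹ by group, ih,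
        ← mul_assoc, (hc.pow_right n).eq, mul_assoc (⁅w, x⁆ ^ n), mul_assoc (⁅w, x⁆ ^ n), pow_succ,
        mul_assoc (⁅w, x⁆ ^ n)]
      simp only [commutatorElement_def]; group
  have h2 := key (orderOf w)
  rw [pow_orderOf_eq_one, one_mul, inv_one, mul_one, right_eq_mul] at h2
  exact commutatorElement_eq_one_iff_mul_comm.1 (orderOf_eq_one_iff.1
    (Nat.eq_one_of_dvd_coprimes hcop.symm dvd_rfl (orderOf_dvd_of_pow_eq_one h2)))

/-- An element of order prime to `p` normalising a `p`-group and centralising a subgroup that contains its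
centraliser centralises the group. -/
theorem commute_of_self_centralizing {p : ℕ} [hp : Fact p.Prime] {N D : Subgroup G} (hN : IsPGroup p N) {w : G}
    (hw : ∀ x ∈ N, w * x * w⁻¹ ∈ N) (hcop : ¬ p ∣ orderOf w) (hDN : D ≤ N) (hwD : ∀ d ∈ D, Commute w d)
    (hC : ∀ x ∈ N, (∀ d ∈ D, Commute x d) → x ∈ D) : ∀ n ∈ N, Commute w n := by
  by_contra hno
  push Not at hno
  obtain ⟨n0, hn0, hn0w⟩ := hno
  let F : Subgroup G := N ⊓ centralizer ({w} : Set G)
  have hFN : F ≤ N := inf_le_left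
  have hne : F.subgroupOf N < ⊤ := lt_top_iff_ne_top.2 fun h => hn0w ((mem_centralizer_singleton_iff.1
    (show n0 ∈ centralizer ({w} : Set G) from ((h ▸ mem_top _ : (⟨n0, hn0⟩ : N) ∈ F.subgroupOf N) : n0 ∈ F).2)).symm)
  haveI := hN.isNilpotent
  obtain ⟨⟨n, hnN⟩, hn, hnF⟩ := SetLike.exists_of_lt (Group.normalizerCondition_of_isNilpotent _ hne)
  refine hnF ⟨hnN, mem_centralizer_singleton_iff.2 ?_⟩
  set f := n⁻¹ * (w * n * w⁻¹) with hf
  have hfN : f ∈ N := mul_mem (inv_mem hnN) (hw n hnN)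
  have hfD : f ∈ D := hC f hfN fun d hd => by
    have hd' : n * d * n⁻¹ ∈ F := ((mem_normalizer_iff.1 hn ⟨d, hDN hd⟩).1
      (show d ∈ F from ⟨hDN hd, mem_centralizer_singleton_iff.2 (hwD d hd).symm.eq⟩) : _)
    have h1 : Commute (n * d * n⁻¹) w := mem_centralizer_singleton_iff.1 hd'.2
    have h2 : Commute (n⁻¹ * w * n) d := by
      show n⁻¹ * w * n * d = d * (n⁻¹ * w * n)
      calc n⁻¹ * w * n * d = n⁻¹ * (w * (n * d * n⁻¹)) * n := by group
        _ = n⁻¹ * ((n * d * n⁻¹) * w) * n := by rw [h1.eq]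
        _ = d * (n⁻¹ * w * n) := by group
    rw [hf, show n⁻¹ * (w * n * w⁻¹) = n⁻¹ * w * n * w⁻¹ by group]
    exact h2.mul_left (hwD d hd).inv_left
  have h3 : ⁅n⁻¹, w⁆ = f := by simp only [hf, commutatorElement_def]; group
  have h4 : Commute w ⁅w, n⁻¹⁆ := by
    rw [← commutatorElement_inv, h3]; exact (hwD f hfD).inv_right
  have h5 : Commute w n⁻¹ := commute_of_commute_comm h4 (by
    rw [← commutatorElement_inv, h3, orderOf_inv]
    obtain ⟨j, hj⟩ := pow_prime_pow_of_mem hN hfN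
    exact Nat.Coprime.coprime_dvd_right (orderOf_dvd_of_pow_eq_one hj)
      ((hp.out.coprime_iff_not_dvd.2 hcop).symm.pow_right j))
  exact (Commute.inv_right_iff.1 h5).symm.eq

variable {σ : MulAut G} {r : ℕ}

/-- A normal stable `q`-subgroup containing every `q`-subgroup normal in a normal stable subgroup. -/
theorem exists_normal_stable_sup {q : ℕ} [Fact q.Prime] {N : Subgroup G} [hNn : N.Normal] (hNs : Stable σ N) :
    ∃ R : Subgroup G, R.Normal ∧ Stable σ R ∧ IsPGroup q R ∧ R ≤ N ∧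
      ∀ A : Subgroup G, A ≤ N → IsPGroup q A → N ≤ normalizer (A : Set G) → A ≤ R := by
  classical
  obtain ⟨R, hR⟩ := (Set.toFinite {R : Subgroup G | R ≤ N ∧ IsPGroup q R ∧ N ≤ normalizer (R : Set G)}).exists_maximal
    ⟨⊥, bot_le, IsPGroup.of_bot, fun g _ => by rw [mem_normalizer_iff]; intro y; simp⟩
  obtain ⟨hRN, hR2, hRn⟩ := hR.prop
  have hsup : ∀ A : Subgroup G, A ≤ N → IsPGroup q A → N ≤ normalizer (A : Set G) → A ≤ R := by
    intro A hAN hA2 hAn
    refine le_sup_left.trans (hR.le_of_ge ⟨sup_le hAN hRN, hA2.to_sup_of_normal_right' hR2 (hAN.trans hRn), ?_⟩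
      le_sup_right)
    exact fun g hg => mem_normalizer_sup (hAn hg) (hRn hg)
  have hconjR : ∀ e : MulAut G, (∀ x ∈ N, e x ∈ N) → R.map e.toMonoidHom ≤ R := by
    intro e he
    have hemap : N.map e.toMonoidHom = N :=
      eq_of_le_of_card_ge (map_le_iff_le_comap.2 he) (card_map_of_injective e.injective).ge
    refine hsup _ ?_ (hR2.map _) ?_
    · rw [← hemap]; exact map_mono hRN
    · rw [← hemap]
      exact (map_mono hRn).trans (le_normalizer_map _)
  exact ⟨R, ⟨fun x hx g => hconjR (MulAut.conj g) (fun y hy => hNn.conj_mem y hy g) ⟨x, hx, rfl⟩⟩,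
    fun x hx => hconjR σ hNs ⟨x, hx, rfl⟩, hR2, hRN, hsup⟩

/-- The displacements of a product with a stable normalised factor. -/
theorem moved_le_sup {H A S : Subgroup G} (hA : Stable σ A) (hS : Stable σ S) (hn : S ≤ normalizer (A : Set G))
    (hprod : ∀ x ∈ H, ∃ a ∈ A, ∃ s ∈ S, x = a * s) : moved σ H ≤ A ⊔ moved σ S := by
  refine moved_le_iff.2 fun x hx => ?_
  obtain ⟨a, ha, s, hs, rfl⟩ := hprod x hx
  rw [map_mul, show (a * s)⁻¹ * (σ a * σ s) = (s⁻¹ * (a⁻¹ * σ a) * s) * (s⁻¹ * σ s) by group]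
  refine mul_mem (mem_sup_left ?_) (mem_sup_right (mem_moved hs))
  have h1 := (mem_normalizer_iff.1 (hn (inv_mem hs)) (a⁻¹ * σ a)).1 (mul_mem (inv_mem ha) (hA a ha))
  rwa [inv_inv] at h1

theorem conj_mem_of_fixed {H : Subgroup G} {c : G} (hc : σ c = c) (hn : c ∈ normalizer (H : Set G)) :
    c ∈ normalizer (moved σ H : Set G) := by
  have key : ∀ d : G, σ d = d → d ∈ normalizer (H : Set G) → ∀ x ∈ moved σ H, d * x * d⁻¹ ∈ moved σ H := by
    intro d hd hdn x hx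
    refine (moved_le_iff (N := (moved σ H).comap (MulAut.conj d).toMonoidHom)).2 (fun y hy => ?_) hx
    show d * (y⁻¹ * σ y) * d⁻¹ ∈ moved σ H
    have h1 := mem_moved (σ := σ) ((mem_normalizer_iff.1 hdn y).1 hy)
    rwa [map_mul, map_mul, map_inv, hd, show (d * y * d⁻¹)⁻¹ * (d * σ y * d⁻¹) = d * (y⁻¹ * σ y) * d⁻¹ by
      group] at h1
  refine mem_normalizer_iff.2 fun x => ⟨key c hc hn x, fun hx => ?_⟩
  have h2 := key c⁻¹ (by rw [map_inv, hc]) (inv_mem hn) _ hx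
  rwa [show c⁻¹ * (c * x * c⁻¹) * c⁻¹⁻¹ = x by group] at h2

theorem stable_conj {H : Subgroup G} (hH : Stable σ H) {c : G} (hc : σ c = c) :
    Stable σ (H.map (MulAut.conj c).toMonoidHom) := by
  rintro _ ⟨x, hx, rfl⟩
  refine ⟨σ x, hH x hx, ?_⟩
  show c * σ x * c⁻¹ = σ (c * x * c⁻¹)
  rw [map_mul, map_mul, map_inv, hc]

theorem exists_orderOf_eq_of_isPGroup {q : ℕ} [hq : Fact q.Prime] {Q : Subgroup G} (hQ : IsPGroup q Q)
    (hne : Q ≠ ⊥) : ∃ x ∈ Q, x ≠ 1 ∧ x ^ q = 1 := by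
  haveI : Nontrivial Q := (Subgroup.nontrivial_iff_ne_bot Q).2 hne
  obtain ⟨n, hn0, hn⟩ := hQ.nontrivial_iff_card.1 inferInstance
  obtain ⟨⟨x, hx⟩, hxo⟩ := exists_prime_orderOf_dvd_card' q (G := Q) (hn ▸ dvd_pow_self q hn0.ne')
  rw [Subgroup.orderOf_mk] at hxo
  refine ⟨x, hx, fun h => hq.out.ne_one (by rw [← hxo, h, orderOf_one]), ?_⟩
  rw [← hxo]; exact pow_orderOf_eq_one x

/-- The part of `A ⊔ S` of order a power of `p`, for `A` a `p`-group normalised by a two-group `S`. -/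
theorem mem_left_of_pow {p : ℕ} [hp : Fact p.Prime] (hp2 : p ≠ 2) {A S : Subgroup G} (hS : IsPGroup 2 S)
    (hn : S ≤ normalizer (A : Set G)) {x : G} (hx : x ∈ A ⊔ S) (hxp : ∃ i, x ^ p ^ i = 1) : x ∈ A := by
  haveI : Fact (Nat.Prime 2) := ⟨Nat.prime_two⟩
  have hle : A ⊔ S ≤ normalizer (A : Set G) := sup_le le_normalizer hn
  haveI : (A.subgroupOf (A ⊔ S)).Normal := (normal_subgroupOf_iff_le_normalizer le_sup_left).2 hle
  set f := QuotientGroup.mk' (A.subgroupOf (A ⊔ S))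
  have hx' : x ∈ ((A ⊔ S : Subgroup G) : Set G) := hx
  rw [coe_mul_of_right_le_normalizer_left _ _ hn] at hx'
  obtain ⟨a, ha, s, hs, e⟩ := hx'
  have e' : f ⟨x, hx⟩ = f ⟨s, mem_sup_right hs⟩ := QuotientGroup.eq.2 (by
    show x⁻¹ * s ∈ A
    rw [← e, show (a * s)⁻¹ * s = s⁻¹ * a⁻¹ * s by group]
    have h2 := (mem_normalizer_iff.1 (hn (inv_mem hs)) a⁻¹).1 (inv_mem ha)
    rwa [inv_inv] at h2)
  have h0 : f ⟨x, hx⟩ = 1 := by
    obtain ⟨i, hi⟩ := hxp
    obtain ⟨j, hj⟩ := pow_prime_pow_of_mem hS hs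
    refine eq_one_of_pow_pow hp2 ⟨i, ?_⟩ ⟨j, ?_⟩
    · rw [← map_pow, show (⟨x, hx⟩ : (A ⊔ S : Subgroup G)) ^ p ^ i = 1 from Subtype.ext hi, map_one]
    · rw [e', ← map_pow, show (⟨s, mem_sup_right hs⟩ : (A ⊔ S : Subgroup G)) ^ 2 ^ j = 1 from Subtype.ext hj,
        map_one]
  exact (QuotientGroup.eq_one_iff (⟨x, hx⟩ : (A ⊔ S : Subgroup G))).1 h0

end CfsgLib.HHShultGen
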