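import Cfsg.Agent.ShultGross.Semiregular
import Mathlib

/-!
In the extremal case of the Hall–Higman bound the commutant commutes with the operator.
-/

set_option autoImplicit false
set_option linter.style.haveILetI false
set_option linter.unusedSectionVars false

namespace CfsgLib.HHShultGen

open Module CfsgLib.PQFpf CfsgLib.ShultGross

variable {k : Type*} [Field k] {W : Type*} [AddCommGroup W] [Module k W]
variable {S : Type*} [Group S] {π : S →* Module.End k W} {R : Subgroup S}

/-- With as many classes as the bound allows, the commutant commutes with the operator. -/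
theorem comm_commute_of_card_eq [IsAlgClosed k] [Finite S] [FiniteDimensional k W] [Nontrivial W]
    (F : FormRep π R) [R.Normal] [Fintype (S ⧸ R)] (hm : (Fintype.card (S ⧸ R) : k) ≠ 0)
    (b : MulAut S) (bq : Equiv.Perm (S ⧸ R)) (hbq : ∀ x : S, bq (x : S ⧸ R) = ((b x : S) : S ⧸ R))
    {ℓ : ℕ} (hℓ : 1 < ℓ) (hℓk : (ℓ : k) ≠ 0) (hbqℓ : bq ^ ℓ = 1)
    (hsemi : ∀ i : ℕ, ¬ ℓ ∣ i → ∀ y : S ⧸ R, (bq ^ i) y = y → y = 1)
    (B : Module.End k W) (hB : B ^ ℓ = 1) (hcompat : ∀ x, B * π x = π (b x) * B)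
    (hsum : ∑ i : Fin ℓ, B ^ (i : ℕ) = 0)
    (hsize : Fintype.card (S ⧸ R) = (ℓ - 1) ^ 2) {X : Module.End k W} (hX : X ∈ F.comm) :
    B * X = X * B := by
  classical
  have hbq1 : bq (1 : S ⧸ R) = 1 := by rw [← QuotientGroup.mk_one, hbq, map_one]
  rcases (Nat.one_le_iff_ne_zero.2 Fintype.card_ne_zero : 1 ≤ Fintype.card (S ⧸ R)).eq_or_lt with hone | hone
  · -- only scalars
    obtain ⟨c, hc⟩ : ∃ c : k, B = c • (1 : Module.End k W) ∨ ℓ = 2 := by
      refine ⟨0, Or.inr ?_⟩
      rw [← hone] at hsize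
      have := (Nat.pow_eq_one.1 hsize.symm).resolve_right two_ne_zero
      omega
    rcases hc with hc | hc
    · rw [hc, smul_mul_assoc, one_mul, mul_smul_comm, mul_one]
    · subst hc
      rw [Fin.sum_univ_two] at hsum
      simp only [Fin.val_zero, pow_zero, Fin.val_one, pow_one] at hsum
      rw [eq_neg_of_add_eq_zero_right hsum, neg_mul, mul_neg, one_mul, mul_one]
  let H := Subgroup.zpowers bq
  haveI : Fintype H := Fintype.ofFinite _
  let Y := Quotient (MulAction.orbitRel H (S ⧸ R))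
  haveI : Fintype Y := Fintype.ofFinite _
  have hcount : ℓ * Fintype.card Y = Fintype.card (S ⧸ R) + (ℓ - 1) :=
    (orbit_count bq 1 hbq1 hℓ hbqℓ hone hsemi).2
  -- the centraliser of `B`
  let Z : Submodule k (Module.End k W) :=
    { carrier := {T | B * T = T * B}
      add_mem' := fun {T U} hT hU => by simp only [Set.mem_ofPred_eq] at hT hU ⊢; rw [mul_add, add_mul, hT, hU]
      zero_mem' := by simp
      smul_mem' := fun c T hT => by simp only [Set.mem_ofPred_eq] at hT ⊢; rw [mul_smul_comm, smul_mul_assoc, hT] }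
  have hstep : ∀ T ∈ Z, ∀ y : S ⧸ R, F.coeff y T = 0 → F.coeff (bq y) T = 0 := by
    intro T hT y hy
    have hBi : B * B ^ (ℓ - 1) = 1 := by rw [← pow_succ', Nat.sub_add_cancel hℓ.le, hB]
    have hu : (b y.out)⁻¹ * (bq y).out ∈ R := by
      rw [← QuotientGroup.eq, QuotientGroup.out_eq', ← hbq, QuotientGroup.out_eq']
    set u := (b y.out)⁻¹ * (bq y).out with hu'
    obtain ⟨c, hc⟩ := F.scalar u⁻¹ (R.inv_mem hu)
    have h : B * F.coeff y T = F.avg (π (b y.out)⁻¹ * T) * B := by
      simp only [FormRep.coeff, LinearMap.coe_mk, AddHom.coe_mk, FormRep.avg, Finset.mul_sum, Finset.sum_mul]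
      refine Fintype.sum_equiv bq _ _ fun z => ?_
      have hz : (b z.out)⁻¹ * (bq z).out ∈ R := by
        rw [← QuotientGroup.eq, QuotientGroup.out_eq', ← hbq, QuotientGroup.out_eq']
      rw [← F.conj_congr hz]
      have hTB : B * T = T * B := hT
      rw [show B * (π z.out * (π y.out⁻¹ * T) * π z.out⁻¹) = B * π z.out * π y.out⁻¹ * T * π z.out⁻¹ by
        simp only [mul_assoc], hcompat, mul_assoc (π (b z.out)) B, hcompat, map_inv b,
        show π (b z.out) * (π (b y.out)⁻¹ * B) * T * π z.out⁻¹ =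
          π (b z.out) * π (b y.out)⁻¹ * (B * T) * π z.out⁻¹ by simp only [mul_assoc], hTB]
      simp only [mul_assoc]
      rw [hcompat, map_inv b]
    rw [hy, mul_zero] at h
    have h2 := congrArg (· * B ^ (ℓ - 1)) h
    simp only [zero_mul, mul_assoc, hBi, mul_one] at h2
    show F.avg (π (bq y).out⁻¹ * T) = 0
    rw [show (bq y).out⁻¹ = u⁻¹ * (b y.out)⁻¹ by rw [hu']; group, map_mul, hc, smul_mul_assoc, one_mul,
      smul_mul_assoc]
    simp only [FormRep.avg, mul_smul_comm, smul_mul_assoc, ← Finset.smul_sum]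
    rw [show (∑ z : S ⧸ R, π z.out * (π (b y.out)⁻¹ * T) * π z.out⁻¹) = 0 by
      simpa only [FormRep.avg] using h2.symm, smul_zero]
  let Φ : Z →ₗ[k] (Y → F.comm) := LinearMap.pi fun y =>
    ((F.coeff (y : Y).out).comp Z.subtype).codRestrict F.comm fun T => F.coeff_mem _ _
  have hΦ : Function.Injective Φ := (injective_iff_map_eq_zero Φ).2 fun T hT => by
    have hall : ∀ y : S ⧸ R, F.coeff y (T : Module.End k W) = 0 := by
      intro y
      have h0 : F.coeff (Quotient.mk (MulAction.orbitRel H (S ⧸ R)) y : Y).out (T : Module.End k W) = 0 :=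
        congrArg Subtype.val (congrFun hT _)
      obtain ⟨g, hg⟩ := (MulAction.orbitRel_apply.1 (Quotient.mk_out (s := MulAction.orbitRel H (S ⧸ R)) y))
      have h1 : ∀ n : ℕ, F.coeff ((bq ^ n) (Quotient.mk (MulAction.orbitRel H (S ⧸ R)) y : Y).out)
          (T : Module.End k W) = 0 := fun n => by
        induction n with
        | zero => exact h0
        | succ n ih => rw [pow_succ', Equiv.Perm.mul_apply]; exact hstep _ T.2 _ ih
      obtain ⟨n, hn⟩ := (Submonoid.mem_powers_iff _ _).1 (mem_powers_iff_mem_zpowers.2 (H.inv_mem g.2))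
      have h2 := h1 n
      rw [← hg, hn] at h2
      simpa [Subgroup.smul_def, Equiv.Perm.smul_def] using h2
    have h := F.sum_coeff (T : Module.End k W)
    rw [Finset.sum_eq_zero fun y _ => by rw [hall y, mul_zero]] at h
    exact Subtype.ext ((smul_eq_zero.1 h.symm).resolve_left hm)
  have hZ : finrank k Z ≤ Fintype.card Y * finrank k F.comm := by
    refine (LinearMap.finrank_le_finrank_of_injective hΦ).trans_eq ?_
    rw [Module.finrank_pi_fintype k (M := fun _ : Y => F.comm), Finset.sum_const, Finset.card_univ, smul_eq_mul]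
  -- eigenspaces of `B`
  haveI : NeZero (ℓ : k) := ⟨hℓk⟩
  obtain ⟨ζ, hζ⟩ := HasEnoughRootsOfUnity.exists_primitiveRoot k ℓ
  have hζ0 : ζ ≠ 0 := hζ.ne_zero (by omega : ℓ ≠ 0)
  let P : Fin ℓ → Module.End k W := fun j => (ℓ : k)⁻¹ • ∑ i : Fin ℓ, (ζ ^ (j : ℕ)) ^ (i : ℕ) • B ^ (i : ℕ)
  have hBP : ∀ j, B * P j = ((ζ ^ (j : ℕ))⁻¹) • P j := by
    intro j
    have hzℓ : (ζ ^ (j : ℕ)) ^ ℓ = 1 := by rw [← pow_mul, mul_comm, pow_mul, hζ.pow_eq_one, one_pow]
    simp only [P, mul_smul_comm, Finset.mul_sum, Finset.smul_sum, smul_smul, ← pow_succ']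
    haveI : NeZero ℓ := ⟨(by omega : ℓ ≠ 0)⟩
    refine Fintype.sum_equiv (Equiv.addRight (1 : Fin ℓ)) _ _ fun i => ?_
    rw [Equiv.coe_addRight, Fin.val_add, Fin.val_one', ← pow_mod_mul_eq hℓ i hzℓ,
      ← pow_mod_mul_eq hℓ i hB]
    congr 1
    rw [pow_succ]
    field_simp
  have hPB : ∀ j, P j * B = ((ζ ^ (j : ℕ))⁻¹) • P j := fun j => by
    rw [← hBP j]
    show ((ℓ : k)⁻¹ • ∑ i : Fin ℓ, (ζ ^ (j : ℕ)) ^ (i : ℕ) • B ^ (i : ℕ)) * B = B * _
    have h : Commute (∑ i : Fin ℓ, (ζ ^ (j : ℕ)) ^ (i : ℕ) • B ^ (i : ℕ)) B :=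
      Commute.sum_left _ _ _ fun i _ => (Commute.pow_self B (i : ℕ)).smul_left ((ζ ^ (j : ℕ)) ^ (i : ℕ))
    exact (h.smul_left (ℓ : k)⁻¹).eq
  have hgeom : ∀ x : k, x ^ ℓ = 1 → x ≠ 1 → ∑ i : Fin ℓ, x ^ (i : ℕ) = 0 := fun x h1 h2 => by
    have h3 := geom_sum_mul x ℓ
    rw [h1, sub_self, mul_eq_zero] at h3
    rw [Fin.sum_univ_eq_sum_range fun i => x ^ i]
    exact h3.resolve_right (sub_ne_zero.2 h2)
  have hBpow : ∀ (n : ℕ) j, B ^ n * P j = ((ζ ^ (j : ℕ))⁻¹) ^ n • P j := fun n j => by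
    induction n with
    | zero => rw [pow_zero, pow_zero, one_mul, one_smul]
    | succ n ih => rw [pow_succ', mul_assoc, ih, mul_smul_comm, hBP, smul_smul, ← pow_succ]
  have hPP : ∀ i j, P i * P j = if i = j then P j else 0 := by
    intro i j
    conv_lhs => rw [show P i = (ℓ : k)⁻¹ • ∑ n : Fin ℓ, (ζ ^ (i : ℕ)) ^ (n : ℕ) • B ^ (n : ℕ) from rfl]
    simp only [smul_mul_assoc, Finset.sum_mul, hBpow, smul_smul, ← mul_pow, ← Finset.sum_smul]
    split_ifs with hij
    · subst hij
      simp only [mul_inv_cancel₀ (pow_ne_zero _ hζ0), one_pow, Finset.sum_const, Finset.card_univ, Fintype.card_fin,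
        nsmul_eq_mul, mul_one, inv_mul_cancel₀ hℓk, one_smul]
    · rw [hgeom, mul_zero, zero_smul]
      · rw [mul_pow, inv_pow, ← pow_mul, ← pow_mul, mul_comm (i : ℕ), mul_comm (j : ℕ), pow_mul, pow_mul,
          hζ.pow_eq_one, one_pow, one_pow, inv_one, mul_one]
      · intro h
        exact hij (Fin.ext (hζ.pow_inj i.2 j.2 ((mul_inv_eq_one₀ (pow_ne_zero _ hζ0)).1 h)))
  have hsumP : ∑ j, P j = 1 := by
    simp only [P, ← Finset.smul_sum]
    rw [Finset.sum_comm]
    simp only [← Finset.sum_smul, ← pow_mul]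
    haveI : NeZero ℓ := ⟨(by omega : ℓ ≠ 0)⟩
    rw [Finset.sum_eq_single (0 : Fin ℓ)]
    · simp [smul_smul, inv_mul_cancel₀ hℓk]
    · intro i _ hi
      rw [show ∑ j : Fin ℓ, ζ ^ ((j : ℕ) * (i : ℕ)) = ∑ j : Fin ℓ, (ζ ^ (i : ℕ)) ^ (j : ℕ) from
        Finset.sum_congr rfl fun j _ => by rw [← pow_mul, mul_comm], hgeom _ (by
          rw [← pow_mul, mul_comm, pow_mul, hζ.pow_eq_one, one_pow])
        (hζ.pow_ne_one_of_pos_of_lt (fun h => hi (Fin.ext h)) i.2), zero_smul]
    · simp
  let E : Fin ℓ → Submodule k W := fun j => LinearMap.range (P j)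
  have hPfix : ∀ j, ∀ w ∈ E j, ∀ i, P i w = if i = j then w else 0 := by
    rintro j _ ⟨w, rfl⟩ i
    rw [← Module.End.mul_apply, hPP]
    split_ifs <;> rfl
  let eqv : W ≃ₗ[k] ((j : Fin ℓ) → E j) :=
    { toFun := fun w j => ⟨P j w, w, rfl⟩
      map_add' := fun v w => funext fun j => Subtype.ext (map_add (P j) v w)
      map_smul' := fun c w => funext fun j => Subtype.ext (map_smul (P j) c w)
      invFun := fun f => ∑ j, (f j : W)
      left_inv := fun w => by
        show ∑ j, P j w = w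
        rw [← LinearMap.sum_apply, hsumP]; rfl
      right_inv := fun f => funext fun j => Subtype.ext (by
        show P j (∑ i, (f i : W)) = f j
        rw [map_sum, Finset.sum_eq_single j]
        · rw [hPfix j _ (f j).2, if_pos rfl]
        · intro i _ hi; rw [hPfix i _ (f i).2, if_neg (Ne.symm hi)]
        · simp) }
  haveI : NeZero ℓ := ⟨(by omega : ℓ ≠ 0)⟩
  have hd : finrank k W = ∑ j ∈ Finset.univ.erase (0 : Fin ℓ), finrank k (E j) := by
    rw [eqv.finrank_eq, Module.finrank_pi_fintype k, ← Finset.add_sum_erase _ _ (Finset.mem_univ (0 : Fin ℓ)),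
      show finrank k (E 0) = 0 from ?_, zero_add]
    rw [Submodule.finrank_eq_zero]
    show LinearMap.range (P 0) = ⊥
    rw [LinearMap.range_eq_bot]
    simp only [P, Fin.val_zero, pow_zero, one_pow, one_smul, hsum, smul_zero]
  have hlow : ∑ j ∈ Finset.univ.erase (0 : Fin ℓ), finrank k (E j) ^ 2 ≤ finrank k Z := by
    refine (Finset.sum_le_univ_sum_of_nonneg (fun j => Nat.zero_le _)).trans ?_
    rw [show ∑ j, finrank k (E j) ^ 2 = finrank k ((j : Fin ℓ) → (E j →ₗ[k] E j)) by
      rw [Module.finrank_pi_fintype k]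
      exact Finset.sum_congr rfl fun j _ => by rw [Module.finrank_linearMap, sq]]
    let Ψ : ((j : Fin ℓ) → (E j →ₗ[k] E j)) →ₗ[k] Z :=
      { toFun := fun f => ⟨∑ j, (E j).subtype ∘ₗ f j ∘ₗ (P j).rangeRestrict, by
          show B * _ = _ * B
          rw [Finset.mul_sum, Finset.sum_mul]
          refine Finset.sum_congr rfl fun j _ => LinearMap.ext fun w => ?_
          obtain ⟨v, hv⟩ := (f j ((P j).rangeRestrict w)).2
          simp only [Module.End.mul_apply, LinearMap.coe_comp, Function.comp_apply, Submodule.coe_subtype]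
          rw [show (P j).rangeRestrict (B w) = ((ζ ^ (j : ℕ))⁻¹) • (P j).rangeRestrict w from
            Subtype.ext (LinearMap.congr_fun (hPB j) w), map_smul, Submodule.coe_smul, ← hv,
            ← Module.End.mul_apply, hBP, LinearMap.smul_apply]⟩
        map_add' := fun f g => Subtype.ext (by
          simp [LinearMap.add_comp, LinearMap.comp_add, Finset.sum_add_distrib])
        map_smul' := fun c f => Subtype.ext (by
          simp [LinearMap.smul_comp, LinearMap.comp_smul, Finset.smul_sum]) }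
    refine LinearMap.finrank_le_finrank_of_injective (f := Ψ) ((injective_iff_map_eq_zero Ψ).2 fun f hf => ?_)
    funext j
    refine LinearMap.ext fun v => Subtype.ext ?_
    have h := LinearMap.congr_fun (congrArg Subtype.val hf) (v : W)
    simp only [Ψ, LinearMap.coe_mk, AddHom.coe_mk, LinearMap.sum_apply, LinearMap.coe_comp, Function.comp_apply,
      Submodule.coe_subtype] at h
    rw [Finset.sum_eq_single j] at h
    · rw [show (P j).rangeRestrict (v : W) = v from Subtype.ext (by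
        show P j v = v
        rw [hPfix j _ v.2, if_pos rfl])] at h
      exact h
    · intro i _ hi
      rw [show (P i).rangeRestrict (v : W) = 0 from Subtype.ext (by
        show P i v = 0
        rw [hPfix j _ v.2, if_neg hi]), map_zero]
      rfl
    · simp
  -- Cauchy–Schwarz
  have hcs := sq_sum_le_card_mul_sum_sq (s := Finset.univ.erase (0 : Fin ℓ)) (f := fun j => finrank k (E j))
  rw [← hd, Finset.card_erase_of_mem (Finset.mem_univ _), Finset.card_univ, Fintype.card_fin, sq,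
    F.finrank_sq hm] at hcs
  have h1 : Fintype.card (S ⧸ R) * finrank k F.comm ≤ ((ℓ - 1) * Fintype.card Y) * finrank k F.comm := by
    rw [mul_assoc]
    exact hcs.trans (Nat.mul_le_mul_left _ (hlow.trans hZ))
  have h2 := Nat.le_of_mul_le_mul_right h1 (Nat.pos_of_ne_zero F.comm_ne_zero)
  set m := Fintype.card (S ⧸ R)
  have hYl : Fintype.card Y = ℓ - 1 := by
    refine Nat.eq_of_mul_eq_mul_left (show 0 < ℓ by omega) ?_
    rw [hcount, show m = (ℓ - 1) ^ 2 from hsize]
    obtain ⟨l, rfl⟩ : ∃ l, ℓ = l + 1 := ⟨ℓ - 1, by omega⟩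
    simp only [Nat.add_sub_cancel]; ring
  have hdim : finrank k Z = finrank k (Y → F.comm) := by
    rw [Module.finrank_pi_fintype k (M := fun _ : Y => F.comm), Finset.sum_const, Finset.card_univ, smul_eq_mul]
    refine le_antisymm hZ ?_
    refine Nat.le_of_mul_le_mul_left ?_ (show 0 < ℓ - 1 by omega)
    rw [← mul_assoc, hYl, ← sq, ← (show m = (ℓ - 1) ^ 2 from hsize)]
    exact hcs.trans (Nat.mul_le_mul_left _ hlow)
  have hsurj : Function.Surjective Φ := (LinearMap.injective_iff_surjective_of_finrank_eq_finrank hdim).1 hΦ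
  let y1 : Y := Quotient.mk (MulAction.orbitRel H (S ⧸ R)) 1
  have hone' : ∀ y : S ⧸ R, (Quotient.mk (MulAction.orbitRel H (S ⧸ R)) y : Y) = y1 → y = 1 := by
    intro y hy
    obtain ⟨g, hg⟩ := MulAction.orbitRel_apply.1 (Quotient.exact hy)
    obtain ⟨n, hn⟩ := (Submonoid.mem_powers_iff _ _).1 (mem_powers_iff_mem_zpowers.2 g.2)
    rw [← hg]
    show (g : Equiv.Perm (S ⧸ R)) 1 = 1
    rw [← hn]
    clear hn
    induction n with
    | zero => rfl
    | succ n ih => rw [pow_succ, Equiv.Perm.mul_apply, hbq1, ih]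
  obtain ⟨⟨T, hT⟩, hTv⟩ := hsurj (fun y => if y = y1 then ⟨X, hX⟩ else 0)
  have hval : ∀ y : Y, F.coeff y.out T = if y = y1 then X else 0 := by
    intro y
    refine (congrArg Subtype.val (congrFun hTv y)).trans ?_
    split_ifs <;> rfl
  have hall : ∀ y : S ⧸ R, y ≠ 1 → F.coeff y T = 0 := by
    intro y hy
    have h0 : F.coeff (Quotient.mk (MulAction.orbitRel H (S ⧸ R)) y : Y).out T = 0 := by
      rw [hval, if_neg fun h => hy (hone' y h)]
    obtain ⟨g, hg⟩ := (MulAction.orbitRel_apply.1 (Quotient.mk_out (s := MulAction.orbitRel H (S ⧸ R)) y))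
    have h1 : ∀ n : ℕ, F.coeff ((bq ^ n) (Quotient.mk (MulAction.orbitRel H (S ⧸ R)) y : Y).out) T = 0 := fun n => by
      induction n with
      | zero => exact h0
      | succ n ih => rw [pow_succ', Equiv.Perm.mul_apply]; exact hstep _ hT _ ih
    obtain ⟨n, hn⟩ := (Submonoid.mem_powers_iff _ _).1 (mem_powers_iff_mem_zpowers.2 (H.inv_mem g.2))
    have h2 := h1 n
    rw [← hg, hn] at h2
    simpa [Subgroup.smul_def, Equiv.Perm.smul_def] using h2
  have hX1 : F.coeff 1 T = X := by
    have h3 := hval y1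
    rw [if_pos rfl, hone' y1.out (Quotient.out_eq y1)] at h3
    exact h3
  have hrec := F.sum_coeff T
  rw [Finset.sum_eq_single (1 : S ⧸ R) (fun y _ hy => by rw [hall y hy, mul_zero])
    (fun h => absurd (Finset.mem_univ _) h), hX1] at hrec
  obtain ⟨c, hc⟩ := F.scalar _ (show ((1 : S ⧸ R).out) ∈ R by
    rw [← QuotientGroup.eq_one_iff, QuotientGroup.out_eq'])
  have hc0 : c ≠ 0 := fun h => by
    have := PQFpf.FormRep.π_mul_inv (π := π) ((1 : S ⧸ R).out)
    rw [hc, h, zero_smul, zero_mul] at this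
    exact zero_ne_one this
  rw [hc, smul_mul_assoc, one_mul] at hrec
  rw [show X = c⁻¹ • ((m : k) • T) by rw [← hrec, smul_smul, inv_mul_cancel₀ hc0, one_smul],
    mul_smul_comm, mul_smul_comm, smul_mul_assoc, smul_mul_assoc, show B * T = T * B from hT]

end CfsgLib.HHShultGen
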