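import Mathlib
import Cfsg.Agent.HHShult.WeightData
import Cfsg.Agent.HHShultGen.Commutant

/-!
Fixed elements stabilising a weight, and the action of the centraliser of a moved two-group on the weight spaces.
-/

set_option autoImplicit false
set_option linter.style.haveILetI false
set_option linter.unusedSectionVars false

namespace CfsgLib.HHShultGen

open Subgroup CfsgLib.HHShult CfsgLib.PQFpf
open scoped commutatorElement

variable {G : Type*} [Group G] [Finite G] {σ : MulAut G} {r q m : ℕ} {W : Subgroup G}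

section Signs

variable (d : SignData σ r m W)

/-- A fixed element of odd prime power order stabilising a non-trivial weight centralises an element outside the
fixed part. -/
theorem exists_commute_not_fixed {e : G} (he : σ e = e) (heW : e ∈ normalizer (W : Set G))
    {μ : fixedPart σ W →* ℤˣ} (hμ : μ ∈ d.Wt) (hμ1 : μ ≠ 1)
    (heμ : ∀ u ∈ fixedPart σ W, ev μ (e * u * e⁻¹) = ev μ u) {ℓ i : ℕ} (hℓ : ℓ.Prime) (hℓ2 : ℓ ≠ 2)
    (hei : e ^ ℓ ^ i = 1) : ∃ v ∈ W, e * v = v * e ∧ v ∉ fixedPart σ W := by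
  classical
  haveI := Fact.mk hℓ
  set R := d.moved.rad μ
  have hWn : W ≤ normalizer (R : Set G) :=
    d.le_normalizer (d.moved.fixedPart_le_rad μ) (d.moved.rad_le μ)
  obtain ⟨v0, hv0, hv0R⟩ : ∃ v ∈ W, v ∉ R := by
    by_contra hno
    push Not at hno
    have h1 := d.index μ hμ hμ1
    rw [relIndex_eq_one.2 hno] at h1
    exact absurd h1.symm (Nat.one_lt_two_pow (by have := d.m_pos; omega)).ne'
  let Ω := {v : G // v ∈ W ∧ v0⁻¹ * v ∈ R}
  haveI : Fintype Ω := Fintype.ofFinite _
  have hmap : ∀ v : Ω, e * v.1 * e⁻¹ ∈ W ∧ v0⁻¹ * (e * v.1 * e⁻¹) ∈ R := by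
    rintro ⟨v, hv, hvR⟩
    refine ⟨(mem_normalizer_iff.1 heW v).1 hv, ?_⟩
    have h1 := (mem_normalizer_iff.1 (hWn (inv_mem hv)) _).1 (d.comm_rad_of_prime_pow he heW hμ heμ hℓ hei hv)
    have h2 := mul_mem hvR h1
    rwa [show v0⁻¹ * v * (v⁻¹ * ⁅e, v⁆ * v⁻¹⁻¹) = v0⁻¹ * (e * v * e⁻¹) by
      simp only [commutatorElement_def]; group] at h2
  let π : Equiv.Perm Ω := Equiv.ofBijective (fun v => ⟨_, hmap v⟩)
    (Finite.injective_iff_bijective.1 fun a b h =>
      Subtype.ext (mul_left_cancel (mul_right_cancel (congrArg Subtype.val h))))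
  have hπn : ∀ (n : ℕ) (v : Ω), ((π ^ n) v).1 = e ^ n * v.1 * (e ^ n)⁻¹ := by
    intro n
    induction n with
    | zero => intro v; simp
    | succ n ih =>
      intro v
      rw [pow_succ', Equiv.Perm.mul_apply]
      show e * ((π ^ n) v).1 * e⁻¹ = _
      rw [ih, pow_succ']; group
  have h1 := Equiv.Perm.card_compl_support_modEq (σ := π) (p := ℓ) (n := i)
    (Equiv.ext fun v => Subtype.ext (by rw [hπn, hei]; simp))
  have hΩ : Fintype.card Ω = Nat.card R := by
    rw [← Nat.card_eq_fintype_card]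
    exact Nat.card_congr
      { toFun := fun v => ⟨v0⁻¹ * v.1, v.2.2⟩
        invFun := fun x => ⟨v0 * x.1, mul_mem hv0 (d.moved.rad_le μ x.2), by rw [inv_mul_cancel_left]; exact x.2⟩
        left_inv := fun v => Subtype.ext (mul_inv_cancel_left v0 v.1)
        right_inv := fun x => Subtype.ext (inv_mul_cancel_left v0 x.1) }
  obtain ⟨v, hv⟩ : (π.supportᶜ).Nonempty := by
    rw [← Finset.card_pos, Nat.pos_iff_ne_zero]
    intro h0
    rw [h0, hΩ] at h1
    haveI : Fact (Nat.Prime 2) := ⟨Nat.prime_two⟩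
    obtain ⟨n, hn⟩ := (d.moved.isP.to_le (d.moved.rad_le μ)).exists_card_eq
    rw [hn] at h1
    have h2 : ℓ ∣ 2 ^ n := Nat.modEq_zero_iff_dvd.1 h1.symm
    exact hℓ2 ((Nat.prime_dvd_prime_iff_eq hℓ Nat.prime_two).1 (hℓ.dvd_of_dvd_pow h2))
  rw [Finset.mem_compl, Equiv.Perm.notMem_support] at hv
  refine ⟨v.1, v.2.1, mul_inv_eq_iff_eq_mul.1 (congrArg Subtype.val hv), fun hvU => hv0R ?_⟩
  have h3 := mul_mem (d.moved.fixedPart_le_rad μ hvU) (inv_mem v.2.2)
  rwa [mul_inv_rev, inv_inv, mul_inv_cancel_left] at h3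

end Signs

variable {k : Type*} [Field k] {V : Type*} [AddCommGroup V] [Module k V] {ρ : G →* Module.End k V}
variable {φ : Module.End k V}

/-- The fixed part acting on the module. -/
def fixedRep (ρ : G →* Module.End k V) (σ : MulAut G) (W : Subgroup G) : fixedPart σ W →* Module.End k V :=
  ρ.comp (fixedPart σ W).subtype

theorem mem_weightSpace_iff {χ : fixedPart σ W →* kˣ} {v : V} :
    v ∈ weightSpace ρ χ ↔ IsWeight (fixedRep ρ σ W) χ v :=
  ⟨fun hv u => by rw [← ev_apply χ u.2]; exact hv u u.2, fun hv u hu => by rw [ev_apply χ hu]; exact hv ⟨u, hu⟩⟩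

/-- The character transported by conjugation. -/
noncomputable def cjHom (g : G) (hg : ∀ u ∈ fixedPart σ W, g⁻¹ * u * g ∈ fixedPart σ W)
    (χ : fixedPart σ W →* kˣ) : fixedPart σ W →* kˣ :=
  χ.comp (MonoidHom.mk' (fun u : fixedPart σ W => (⟨g⁻¹ * u * g, hg u u.2⟩ : fixedPart σ W))
    fun a b => Subtype.ext (show g⁻¹ * ((a : G) * b) * g = g⁻¹ * a * g * (g⁻¹ * b * g) by group))

theorem apply_mem_weightSpace_cj {g : G} (hg : ∀ u ∈ fixedPart σ W, g⁻¹ * u * g ∈ fixedPart σ W)
    {χ : fixedPart σ W →* kˣ} {v : V} (hv : v ∈ weightSpace ρ χ) : ρ g v ∈ weightSpace ρ (cjHom g hg χ) := by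
  intro u hu
  rw [← Module.End.mul_apply, ← map_mul, show u * g = g * (g⁻¹ * u * g) by group, map_mul, Module.End.mul_apply,
    hv _ (hg u hu), map_smul, ev_apply _ (hg u hu), ev_apply _ hu]
  rfl

theorem apply_mem_weightSpace_of_commute {g : G} (hg : ∀ u ∈ fixedPart σ W, g * u = u * g)
    {χ : fixedPart σ W →* kˣ} {v : V} (hv : v ∈ weightSpace ρ χ) : ρ g v ∈ weightSpace ρ χ := by
  intro u hu
  rw [← Module.End.mul_apply, ← map_mul, ← hg u hu, map_mul, Module.End.mul_apply, hv u hu, map_smul]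

variable (h : MovedGroup σ r q W)
include h

theorem fixedRep_comm (u v : fixedPart σ W) : fixedRep ρ σ W (u * v) = fixedRep ρ σ W (v * u) := by
  show ρ ((u : G) * v) = ρ ((v : G) * u)
  rw [h.fixedPart_central u.2 v.2.1]

theorem natCard_fixedPart_ne_zero (hq : (q : k) ≠ 0) : (Nat.card (fixedPart σ W) : k) ≠ 0 := by
  haveI := Fact.mk h.hq
  obtain ⟨n, hn⟩ := IsPGroup.exists_card_eq (G := fixedPart σ W) (h.isP.to_le inf_le_left)
  rw [hn, Nat.cast_pow]; exact pow_ne_zero n hq

variable [IsAlgClosed k]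

/-- Linear maps are determined on the weight spaces. -/
theorem ext_weightSpace (hq : (q : k) ≠ 0) {U : Type*} [AddCommGroup U] [Module k U] (L : V →ₗ[k] U)
    (hL : ∀ (χ : fixedPart σ W →* kˣ), ∀ v ∈ weightSpace ρ χ, L v = 0) : L = 0 :=
  ext_weights (fixedRep ρ σ W) (fixedRep_comm h) (natCard_fixedPart_ne_zero h hq) L
    fun χ v hv => hL χ v (mem_weightSpace_iff.2 hv)

/-- The averaging projection onto the vectors fixed by the fixed part. -/
noncomputable def avgFix (_h : MovedGroup σ r q W) (ρ : G →* Module.End k V) : Module.End k V :=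
  letI := Fintype.ofFinite (fixedPart σ W)
  wproj (fixedRep ρ σ W) 1

theorem avgFix_one (hq : (q : k) ≠ 0) {v : V} (hv : v ∈ weightSpace ρ (1 : fixedPart σ W →* kˣ)) :
    avgFix h ρ v = v := by
  letI := Fintype.ofFinite (fixedPart σ W)
  refine wproj_self ?_ (mem_weightSpace_iff.1 hv)
  rw [← Nat.card_eq_fintype_card]; exact natCard_fixedPart_ne_zero h hq

theorem avgFix_other {χ : fixedPart σ W →* kˣ} (hχ : χ ≠ 1) {v : V} (hv : v ∈ weightSpace ρ χ) :
    avgFix h ρ v = 0 := by
  letI := Fintype.ofFinite (fixedPart σ W)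
  exact wproj_other (mem_weightSpace_iff.1 hv) fun e => hχ e.symm

theorem avgFix_mem (v : V) : avgFix h ρ v ∈ weightSpace ρ (1 : fixedPart σ W →* kˣ) := by
  letI := Fintype.ofFinite (fixedPart σ W)
  exact mem_weightSpace_iff.2 (isWeight_wproj (fixedRep ρ σ W) 1 v)

theorem avgFix_commute {g : G} (hg : ∀ u, u ∈ fixedPart σ W ↔ g * u * g⁻¹ ∈ fixedPart σ W) :
    avgFix h ρ * ρ g = ρ g * avgFix h ρ := by
  letI := Fintype.ofFinite (fixedPart σ W)
  show wproj (fixedRep ρ σ W) 1 * ρ g = ρ g * wproj (fixedRep ρ σ W) 1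
  simp only [wproj, MonoidHom.one_apply, inv_one, Units.val_one, one_smul, smul_mul_assoc, mul_smul_comm,
    Finset.sum_mul, Finset.mul_sum]
  congr 1
  refine (Fintype.sum_equiv
    { toFun := fun u : fixedPart σ W => (⟨g * u * g⁻¹, (hg u).1 u.2⟩ : fixedPart σ W)
      invFun := fun u : fixedPart σ W => (⟨g⁻¹ * u * g, (hg _).2 (by simp [mul_assoc])⟩ : fixedPart σ W)
      left_inv := fun u => Subtype.ext (show g⁻¹ * (g * (u : G) * g⁻¹) * g = u by group)
      right_inv := fun u => Subtype.ext (show g * (g⁻¹ * (u : G) * g) * g⁻¹ = u by group) } _ _ fun u => ?_).symm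
  show ρ g * ρ (u : G) = ρ (g * (u : G) * g⁻¹) * ρ g
  rw [← map_mul, ← map_mul, inv_mul_cancel_right]

variable [FiniteDimensional k V] (F : FixFree σ r ρ φ)
include F

/-- The trivial weight space is fixed by the whole group. -/
theorem apply_weight_one (hq : (q : k) ≠ 0) {v : V} (hv : v ∈ weightSpace ρ (1 : fixedPart σ W →* kˣ)) {w : G}
    (hw : w ∈ W) : ρ w v = v := by
  obtain ⟨c, hc, hwc⟩ := h.rad_scalar F hq (1 : fixedPart σ W →* kˣ) (a := w) ⟨hw, fun y hy => by
    rw [ev_apply _ (h.comm_mem_fixedPart hw hy), MonoidHom.one_apply]⟩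
  rw [hwc v hv, ev_apply _ hc, MonoidHom.one_apply, Units.val_one, one_smul]

/-- An element centralising the group and its image under the automorphism agree on a non-trivial weight
space. -/
theorem apply_map_eq (hq : (q : k) ≠ 0) {χ : fixedPart σ W →* kˣ} (hne : χ ≠ 1) {x : G}
    (hx : ∀ w ∈ W, x * w = w * x) {v : V} (hv : v ∈ weightSpace ρ χ) : ρ (σ x) v = ρ x v := by
  classical
  rcases eq_or_ne v 0 with rfl | hv0
  · rw [map_zero, map_zero]
  have hχ : IsWt ρ χ := (Submodule.ne_bot_iff _).2 ⟨v, hv, hv0⟩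
  haveI := Fact.mk h.hq
  obtain ⟨m, -, hr, hidx, -⟩ := h.rad_index F hq χ hχ hne
  let Vχ : Submodule k V := weightSpace ρ χ
  haveI : Nontrivial Vχ := Submodule.nontrivial_iff_ne_bot.2 hχ
  let π : W →* Module.End k Vχ :=
    { toFun := fun w => (ρ w).restrict (h.mapsTo_weightSpace F χ w.2)
      map_one' := LinearMap.ext fun v => Subtype.ext (by
        show ρ (1 : G) (v : V) = v
        rw [map_one]; rfl)
      map_mul' := fun a b => LinearMap.ext fun v => Subtype.ext (by
        show ρ ((a : G) * b) (v : V) = ρ a (ρ b v)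
        rw [map_mul]; rfl) }
  let R : Subgroup W := (h.rad χ).subgroupOf W
  haveI : R.Normal := h.rad_normal χ
  haveI : Fintype (W ⧸ R) := Fintype.ofFinite _
  let form : W →* (W →* kˣ) := MonoidHom.mk'
    (fun a => MonoidHom.mk' (fun b => ev χ ⁅(a : G), (b : G)⁆) fun b c => h.form_mul_right χ a.2 b.2 c.2)
    fun a b => MonoidHom.ext fun y => h.form_mul_left χ a.2 b.2 y.2
  let F0 : FormRep π R :=
    { χ := form
      scalar := fun u hu => by
        obtain ⟨c, -, hc⟩ := h.rad_scalar F hq χ hu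
        exact ⟨((ev χ c : kˣ) : k), LinearMap.ext fun v => Subtype.ext (hc v v.2)⟩
      rel := fun a b => LinearMap.ext fun v => Subtype.ext (by
        show ρ (a : G) (ρ (b : G) (v : V)) = ((ev χ ⁅(a : G), (b : G)⁆ : kˣ) : k) • ρ (b : G) (ρ (a : G) (v : V))
        rw [← h.mapsTo_weightSpace F χ b.2 _ (h.mapsTo_weightSpace F χ a.2 v v.2) _
          (h.comm_mem_fixedPart a.2 b.2), ← Module.End.mul_apply, ← map_mul, ← Module.End.mul_apply,
          ← Module.End.mul_apply, ← map_mul, ← map_mul]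
        rw [show ⁅(a : G), (b : G)⁆ * (b : G) * a = (a : G) * b by simp only [commutatorElement_def]; group])
      left_rad := fun u hu y => hu.2 y y.2
      right_rad := fun a ha => h.mem_rad_of_right χ a.2 fun y hy => ha ⟨y, hy⟩
      rad_right := fun u hu y => by
        show ev χ ⁅(y : G), (u : G)⁆ = 1
        rw [h.form_symm χ u.2 y.2, (show ev χ ⁅(u : G), (y : G)⁆ = 1 from hu.2 y y.2), inv_one] }
  have hcard : Fintype.card (W ⧸ R) = q ^ (2 * m) := by
    rw [← Nat.card_eq_fintype_card]; exact hidx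
  have hm : (Fintype.card (W ⧸ R) : k) ≠ 0 := by rw [hcard, Nat.cast_pow]; exact pow_ne_zero _ hq
  let τ : MulAut W := MulEquiv.ofBijective
    ((σ.toMonoidHom.comp W.subtype).codRestrict W fun y => h.stable y y.2)
    (Finite.injective_iff_bijective.1 fun a b e => Subtype.ext (σ.injective (congrArg Subtype.val e)))
  have hmap : R ≤ R.comap τ.toMonoidHom := fun a ha => h.stable_rad χ (a : G) ha
  have hτinj : Function.Injective (QuotientGroup.map R R τ.toMonoidHom hmap) := by
    refine (injective_iff_map_eq_one _).2 fun y => QuotientGroup.induction_on y fun a ha => ?_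
    rw [QuotientGroup.map_mk, QuotientGroup.eq_one_iff] at ha
    exact (QuotientGroup.eq_one_iff a).2 ((h.stable_rad χ).mem_iff.1 ha)
  let bq : Equiv.Perm (W ⧸ R) := Equiv.ofBijective _ (Finite.injective_iff_bijective.1 hτinj)
  have hbq : ∀ a : W, bq (a : W ⧸ R) = ((τ a : W) : W ⧸ R) := fun a => rfl
  have hbqn : ∀ (n : ℕ) (a : W), (bq ^ n) (a : W ⧸ R) = (((τ ^ n) a : W) : W ⧸ R) := fun n => by
    induction n with
    | zero => exact fun a => rfl
    | succ n ih => intro a; rw [pow_succ, pow_succ, Equiv.Perm.mul_apply, MulAut.mul_apply, hbq, ih]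
  have hτn : ∀ (n : ℕ) (a : W), (((τ ^ n) a : W) : G) = (σ ^ n) (a : G) := fun n => by
    induction n with
    | zero => exact fun a => rfl
    | succ n ih => intro a; rw [pow_succ, pow_succ, MulAut.mul_apply, MulAut.mul_apply, ih]; rfl
  let B : Module.End k Vχ := φ.restrict (h.op_mapsTo F χ)
  have hB : ∀ (n : ℕ) (v : Vχ), (((B ^ n) v : Vχ) : V) = (φ ^ n) v := fun n => by
    induction n with
    | zero => exact fun v => rfl
    | succ n ih => intro v; rw [pow_succ, pow_succ, Module.End.mul_apply, Module.End.mul_apply, ih]; rfl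
  haveI : Nontrivial V := ⟨⟨v, 0, hv0⟩⟩
  let X : Module.End k Vχ := (ρ x).restrict fun w hw =>
    apply_mem_weightSpace_of_commute (fun u hu => hx u hu.1) hw
  have hX : X ∈ F0.comm := fun w => LinearMap.ext fun z => Subtype.ext (by
    show ρ (w : G) (ρ x (z : V)) = ρ x (ρ (w : G) (z : V))
    rw [← Module.End.mul_apply, ← map_mul, ← hx w w.2, map_mul, Module.End.mul_apply])
  have hBX := comm_commute_of_card_eq F0 hm τ bq hbq h.cop.prime.one_lt
    (natCast_ne_zero_of_fixFree h.cop.prime F.pow_eq F.fixed)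
    (Equiv.ext fun y => QuotientGroup.induction_on y fun a => by
      rw [hbqn, Equiv.Perm.one_apply]
      exact congrArg _ (Subtype.ext (by rw [hτn, h.cop.pow_eq]; rfl)))
    (fun i hi y => QuotientGroup.induction_on y fun a ha => by
      rw [hbqn, QuotientGroup.eq] at ha
      refine (QuotientGroup.eq_one_iff a).2 (h.mem_of_displacement (h.stable_rad χ) (h.rad_le χ)
        (h.fixedPart_le_rad χ) a.2 (h.displacement_of_pow (h.stable_rad χ) hi ?_))
      have h2 := inv_mem (show (((τ ^ i) a)⁻¹ * a : W) ∈ R from ha)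
      rw [mul_inv_rev, inv_inv] at h2
      show (a : G)⁻¹ * (σ ^ i) (a : G) ∈ h.rad χ
      rw [← hτn i a]
      simpa [R, Subgroup.mem_subgroupOf] using h2)
    B (LinearMap.ext fun v => Subtype.ext (by rw [hB, F.pow_eq]; rfl))
    (fun a => LinearMap.ext fun v => Subtype.ext (LinearMap.congr_fun (F.compat a) (v : V)))
    (LinearMap.ext fun v => Subtype.ext (by
      rw [LinearMap.sum_apply, Submodule.coe_sum, Finset.sum_congr rfl fun (i : Fin r) _ => hB (i : ℕ) v,
        Fin.sum_univ_eq_sum_range fun i => (φ ^ i) (v : V), ← LinearMap.sum_apply, F.sum_eq_zero]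
      rfl))
    (by rw [hcard, hr, Nat.add_sub_cancel, ← pow_mul, mul_comm]) hX
  have hinj : Function.Injective B := fun a b e => Subtype.ext (by
    have h1 := congrArg (φ ^ (r - 1)) (congrArg Subtype.val e)
    rwa [show ((B a : Vχ) : V) = φ (a : V) from rfl, show ((B b : Vχ) : V) = φ (b : V) from rfl,
      ← Module.End.mul_apply, ← Module.End.mul_apply, ← pow_succ, Nat.sub_add_cancel h.cop.prime.pos, F.pow_eq,
      Module.End.one_apply, Module.End.one_apply] at h1)
  obtain ⟨w, hw⟩ := LinearMap.injective_iff_surjective.1 hinj ⟨v, hv⟩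
  have e1 : φ (ρ x (w : V)) = ρ x (φ (w : V)) := congrArg Subtype.val (LinearMap.congr_fun hBX w)
  have e2 : φ (ρ x (w : V)) = ρ (σ x) (φ (w : V)) := LinearMap.congr_fun (F.compat x) (w : V)
  have e3 : φ (w : V) = v := congrArg Subtype.val hw
  rw [e3] at e1 e2
  rw [← e2, e1]

/-- A displacement of an element centralising the group fixes the non-trivial weight spaces. -/
theorem apply_displacement_eq (hq : (q : k) ≠ 0) {χ : fixedPart σ W →* kˣ} (hne : χ ≠ 1) {x : G}
    (hx : ∀ w ∈ W, x * w = w * x) {v : V} (hv : v ∈ weightSpace ρ χ) : ρ (x⁻¹ * σ x) v = v := by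
  rw [map_mul, Module.End.mul_apply, apply_map_eq h F hq hne hx hv, ← Module.End.mul_apply, ← map_mul,
    inv_mul_cancel, map_one, Module.End.one_apply]

omit h in
/-- A fixed element centralising the fixed part centralises the group. -/
theorem commute_of_fixed_part (h : MovedGroup σ r 2 W) (hinj : Function.Injective ρ) (h2 : ((2 : ℕ) : k) ≠ 0)
    {e : G} (he : σ e = e) (heW : e ∈ normalizer (W : Set G))
    (heU : ∀ u ∈ fixedPart σ W, Commute e u) {w : G} (hw : w ∈ W) : Commute e w := by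
  rcases eq_or_ne W ⊥ with hb | hb
  · rw [hb, Subgroup.mem_bot] at hw; rw [hw]; exact Commute.one_right e
  obtain ⟨m, d, -, -⟩ := F.exists_signData h hinj h2 hb
  exact d.centralizes he heW (fun u hu => by rw [(heU u hu).eq, mul_inv_cancel_right]) hw

omit h in
/-- Characters of the fixed part are signs. -/
theorem exists_sign (h : MovedGroup σ r 2 W) (h2 : ((2 : ℕ) : k) ≠ 0) (χ : fixedPart σ W →* kˣ) :
    ∃ μ : fixedPart σ W →* ℤˣ, (signUnit k).comp μ = χ := by
  classical
  have hpm : ∀ u, χ u = 1 ∨ χ u = -1 := fun u => by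
    refine Units.eq_or_eq_neg_of_sq_eq_sq _ 1 ?_
    rw [one_pow, ← map_pow, show u ^ 2 = 1 from Subtype.ext (h.pow_eq_one u.2), map_one]
  have hval : ∀ u, signUnit k (if χ u = 1 then 1 else -1) = χ u := fun u => by
    rcases hpm u with e | e
    · rw [if_pos e, map_one, e]
    · rw [if_neg (e ▸ neg_one_ne_one h2), signUnit_neg_one, e]
  exact ⟨MonoidHom.mk' (fun u => if χ u = 1 then 1 else -1) fun u v =>
    signUnit_injective h2 (by rw [map_mul (signUnit k), hval, hval, hval, map_mul]), MonoidHom.ext hval⟩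

omit h in
/-- A fixed element of odd prime power order stabilising a non-trivial weight, on the module. -/
theorem exists_commute_of_weight (h : MovedGroup σ r 2 W) (hinj : Function.Injective ρ) (h2 : ((2 : ℕ) : k) ≠ 0)
    {e : G} (he : σ e = e) (heW : e ∈ normalizer (W : Set G)) {χ : fixedPart σ W →* kˣ} (hχ : IsWt ρ χ)
    (hne : χ ≠ 1) (heχ : ∀ u ∈ fixedPart σ W, ev χ (e * u * e⁻¹) = ev χ u) {ℓ i : ℕ} (hℓ : ℓ.Prime)
    (hℓ2 : ℓ ≠ 2) (hei : e ^ ℓ ^ i = 1) : ∃ v ∈ W, e * v = v * e ∧ v ∉ fixedPart σ W := by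
  have hb : W ≠ ⊥ := fun e0 => hne (MonoidHom.ext fun u => by
    rw [show u = 1 from Subtype.ext (Subgroup.mem_bot.1 (e0 ▸ (u.2.1 : (u : G) ∈ W))), map_one, map_one])
  obtain ⟨m, d, hd, -⟩ := F.exists_signData h hinj h2 hb
  obtain ⟨μ, rfl⟩ := exists_sign F h h2 χ
  refine exists_commute_not_fixed d he heW ((hd μ).2 hχ) (fun e1 => hne ?_) (fun u hu => ?_) hℓ hℓ2 hei
  · rw [e1]; exact MonoidHom.ext fun u => by simp
  · have h1 := heχ u hu
    rw [ev_signUnit, ev_signUnit] at h1
    exact signUnit_injective h2 h1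

end CfsgLib.HHShultGen
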