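import Mathlib
import Cfsg.Agent.HHShult.Local
import Cfsg.Agent.HHShultGen.Helpers
import Cfsg.Agent.HHShultGen.WeightFix

/-!
A smallest counterexample for arbitrary fixed points: every proper stable subgroup has displacements forming a
`p`-group extended by a two-group, the whole group does not.
-/

set_option autoImplicit false
set_option linter.style.haveILetI false
set_option linter.unusedSectionVars false

namespace CfsgLib.HHShultGen

open Subgroup CfsgLib.HHShult
open scoped commutatorElement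

variable {G : Type*} [Group G] [Finite G]

/-- A normal `p`-subgroup with a two-group as quotient. -/
def HasPTwo (p : ℕ) (Y : Subgroup G) : Prop :=
  ∃ A : Subgroup G, A ≤ Y ∧ IsPGroup p A ∧ Y ≤ normalizer (A : Set G) ∧ ∀ x ∈ Y, ∃ i : ℕ, x ^ 2 ^ i ∈ A

variable {k : Type*} [Field k] {V : Type*} [AddCommGroup V] [Module k V]

/-- The smallest counterexample. -/
structure GCex (σ : MulAut G) (r p : ℕ) (ρ : G →* Module.End k V) (φ : Module.End k V) : Prop
    extends Base σ r p ρ φ where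
  sub : ∀ Y : Subgroup G, Stable σ Y → Y ≠ ⊤ → HasPTwo p (moved σ Y)
  notT : ¬ IsPGroup 2 (moved σ (⊤ : Subgroup G))

namespace GCex

variable {σ : MulAut G} {r p : ℕ} [hp' : Fact p.Prime] [CharP k p] [IsAlgClosed k] [FiniteDimensional k V]
variable {ρ : G →* Module.End k V} {φ : Module.End k V} (h : GCex σ r p ρ φ)
include h

theorem p_ne_two : p ≠ 2 := h.toBase.hp

theorem two_cast_ne_zero : ((2 : ℕ) : k) ≠ 0 := h.toBase.card_prime_ne_zero Nat.prime_two h.toBase.two_ne

theorem mem_of_pow_mem {A : Subgroup G} {x : G} (hx : ∃ i, x ^ p ^ i = 1) {j : ℕ} (hj : x ^ 2 ^ j ∈ A) :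
    x ∈ A := by
  obtain ⟨i, hi⟩ := hx
  obtain ⟨n, hn⟩ := exists_pow_eq_self_of_coprime (n := 2 ^ j) (x := x)
    (Nat.Coprime.coprime_dvd_right (orderOf_dvd_of_pow_eq_one hi)
      (((Nat.coprime_primes Nat.prime_two hp'.out).2 h.toBase.two_ne).pow j i))
  rw [← hn]
  exact pow_mem hj n

/-- The `p`-part of the displacements of a proper stable subgroup. -/
theorem exists_part {Y : Subgroup G} (hY : Stable σ Y) (hne : Y ≠ ⊤) :
    ∃ A : Subgroup G, A ≤ moved σ Y ∧ IsPGroup p A ∧ Stable σ A ∧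
      (∀ g ∈ normalizer (moved σ Y : Set G), g ∈ normalizer (A : Set G)) ∧
      (∀ x ∈ moved σ Y, (∃ i, x ^ p ^ i = 1) → x ∈ A) ∧ ∀ x ∈ moved σ Y, ∃ i : ℕ, x ^ 2 ^ i ∈ A := by
  obtain ⟨A, hAY, hA, -, htwo⟩ := h.sub Y hY hne
  have hall : ∀ x ∈ moved σ Y, (∃ i, x ^ p ^ i = 1) → x ∈ A := fun x hx hxp => by
    obtain ⟨j, hj⟩ := htwo x hx
    exact h.mem_of_pow_mem hxp hj
  refine ⟨A, hAY, hA, fun x hx => ?_, fun g hg => ?_, hall, htwo⟩
  · obtain ⟨i, hi⟩ := pow_prime_pow_of_mem hA hx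
    exact hall _ (stable_moved hY x (hAY hx)) ⟨i, by rw [← map_pow, hi, map_one]⟩
  · rw [mem_normalizer_iff]
    refine fun x => ⟨fun hx => ?_, fun hx => ?_⟩
    · obtain ⟨i, hi⟩ := pow_prime_pow_of_mem hA hx
      exact hall _ ((mem_normalizer_iff.1 hg x).1 (hAY hx)) ⟨i, by rw [conj_pow, hi, mul_one, mul_inv_cancel]⟩
    · obtain ⟨i, hi⟩ := pow_prime_pow_of_mem hA hx
      rw [conj_pow, conj_eq_one_iff] at hi
      exact hall _ ((mem_normalizer_iff.1 hg x).2 (hAY hx)) ⟨i, hi⟩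

theorem isPGroup_two_of_part {M A : Subgroup G} (hA : A = ⊥) (htwo : ∀ x ∈ M, ∃ i : ℕ, x ^ 2 ^ i ∈ A) :
    IsPGroup 2 M := fun ⟨x, hx⟩ => by
  obtain ⟨i, hi⟩ := htwo x hx
  rw [hA, Subgroup.mem_bot] at hi
  exact ⟨i, Subtype.ext hi⟩

theorem moved_top : moved σ (⊤ : Subgroup G) = ⊤ := by
  by_contra hne
  set N := moved σ (⊤ : Subgroup G) with hN
  have htop : Stable σ (⊤ : Subgroup G) := fun _ _ => mem_top _
  haveI hNn : N.Normal := normalizer_eq_top_iff.1 (top_le_iff.1 (le_normalizer_moved htop))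
  obtain ⟨A, -, hA, hAs, hAn, -, htwo⟩ := h.exists_part (stable_moved htop) hne
  have hmm : moved σ N = N := h.toBase.cop.moved_moved htop
  haveI : A.Normal := normalizer_eq_top_iff.1 (top_le_iff.1 fun g _ => hAn g (by
    rw [hmm, normalizer_eq_top_iff.2 hNn]; exact mem_top _))
  have htwo' : IsPGroup 2 (moved σ N) := h.isPGroup_two_of_part (h.toBase.eq_bot_of_normal hA hAs) htwo
  rw [hmm] at htwo'
  exact h.notT htwo'

/-- The displacements of a proper normal stable subgroup form a two-group. -/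
theorem normal_moved_two {N : Subgroup G} [hNn : N.Normal] (hNs : Stable σ N) (hne : N ≠ ⊤) :
    IsPGroup 2 (moved σ N) := by
  obtain ⟨A, hAM, hA, -, hAn, -, htwo⟩ := h.exists_part hNs hne
  obtain ⟨R, hRn, hRs, hRp, -, hsup⟩ := exists_normal_stable_sup (σ := σ) (q := p) (N := N) hNs
  haveI := hRn
  have hAR : A ≤ R := hsup A (hAM.trans (moved_le hNs)) hA fun g hg => hAn g (le_normalizer_moved hNs hg)
  exact h.isPGroup_two_of_part (le_bot_iff.1 (hAR.trans (h.toBase.eq_bot_of_normal hRp hRs).le)) htwo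

/-- Some stable Sylow `p`-subgroup is moved. -/
theorem not_fixed (P : Sylow p G) (hP : Stable σ (P : Subgroup G)) : ¬ ∀ x ∈ (P : Subgroup G), σ x = x := by
  intro hfix
  haveI : Fact (Nat.Prime 2) := ⟨Nat.prime_two⟩
  obtain ⟨S, hS⟩ := h.toBase.cop.exists_sylow 2
  have hodd : ∀ q : ℕ, q.Prime → q ∣ Nat.card G → q ≠ 2 → ∀ Q : Subgroup G, IsPGroup q Q → Stable σ Q →
      ∀ x ∈ Q, σ x = x := by
    intro q hq _ hq2 Q hQ hQs x hx
    haveI := Fact.mk hq
    by_cases hqp : q = p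
    · subst hqp
      obtain ⟨P1, hP1, hQP⟩ := h.toBase.cop.le_stable_sylow hQ hQs
      obtain ⟨c, hc, hc'⟩ := h.toBase.cop.sylow_conj P P1 hP hP1
      have h1 := hfix _ ((hc' x).1 (hQP hx))
      rw [map_mul, map_mul, map_inv, hc] at h1
      exact mul_left_cancel (mul_right_cancel h1)
    · exact h.toBase.fixed_of_odd hqp hq2 hQ hQs hx
  refine h.notT (S.isPGroup'.to_le (moved_le_iff.2 fun g _ => ?_))
  obtain ⟨c, hc, hcg⟩ := h.toBase.cop.exists_fixed_sylow_two S hodd g
  have e : g⁻¹ * σ g = (c⁻¹ * g)⁻¹ * σ (c⁻¹ * g) := by rw [map_mul, map_inv, hc]; group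
  rw [e]
  exact mul_mem (inv_mem hcg) (hS _ hcg)

theorem moved_sylow_ne_bot (P : Sylow p G) (hP : Stable σ (P : Subgroup G)) :
    moved σ (P : Subgroup G) ≠ ⊥ := fun e => h.not_fixed P hP (moved_eq_bot.1 e)

theorem dvd_card : p ∣ Nat.card G := by
  obtain ⟨P, hP⟩ := h.toBase.cop.exists_sylow p
  by_contra hd
  refine h.not_fixed P hP fun x hx => ?_
  obtain ⟨i, hi⟩ := pow_prime_pow_of_mem P.isPGroup' hx
  rw [show x = 1 from orderOf_eq_one_iff.1 (Nat.eq_one_of_dvd_coprimes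
    ((hp'.out.coprime_iff_not_dvd.2 hd).pow_left i) (orderOf_dvd_of_pow_eq_one hi) (orderOf_dvd_natCard x)),
    map_one]

theorem prime_ne : r ≠ p := fun e => h.toBase.cop.cop (e ▸ h.dvd_card)

theorem commute_of_fixed_normal {N : Subgroup G} [hNn : N.Normal] (hfix : ∀ x ∈ N, σ x = x) :
    N ≤ center G := fun x hx => mem_center_iff.2 fun g =>
  (commute_of_normalized (W := ⊤) hfix (fun u _ => by rw [normalizer_eq_top_iff.2 hNn]; exact mem_top _)
    (h.moved_top.symm ▸ mem_top g) hx).symm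

theorem center_ne_top : center G ≠ ⊤ := by
  intro e
  obtain ⟨P, hP⟩ := h.toBase.cop.exists_sylow p
  haveI : (P : Subgroup G).Normal := ⟨fun y hy g => by
    rwa [show g * y = y * g from mem_center_iff.1 (e ▸ mem_top y : y ∈ center G) g, mul_inv_cancel_right]⟩
  exact h.not_fixed P hP fun x hx => by
    rw [h.toBase.eq_bot_of_normal P.isPGroup' hP, mem_bot] at hx; rw [hx, map_one]

/-- Normal stable two-subgroups are fixed. -/
theorem fixed_of_normal_two {R : Subgroup G} [hRn : R.Normal] (hR : IsPGroup 2 R) (hRs : Stable σ R) :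
    ∀ x ∈ R, σ x = x := by
  haveI : Fact (Nat.Prime 2) := ⟨Nat.prime_two⟩
  obtain ⟨D0, hD0c, hD0p, hD0z, hD0C⟩ := Kinf.exists_critical (P := R) hR
  haveI := hD0c
  set D : Subgroup G := D0.map R.subtype with hDdef
  haveI hDn : D.Normal := by
    have : (D0.map R.subtype).Normal := inferInstance
    exact this
  have hDs : Stable σ D := by
    rintro _ ⟨x, hx, rfl⟩
    let τ : MulAut R := MulEquiv.ofBijective
      ((σ.toMonoidHom.comp R.subtype).codRestrict R fun y => hRs y y.2)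
      (Finite.injective_iff_bijective.1 fun a b e => Subtype.ext (σ.injective (congrArg Subtype.val e)))
    exact ⟨τ x, Stable.of_char (σ := τ) D0 x hx, rfl⟩
  have hDp : IsPGroup 2 D := hR.to_le (Subgroup.map_subtype_le _)
  have hcent : ∀ x ∈ centralizer (D0 : Set R), ∀ v ∈ D, v * (x : G) = (x : G) * v := by
    rintro x hx _ ⟨v, hv, rfl⟩
    exact congrArg Subtype.val (mem_centralizer_iff.1 hx v hv)
  have hD' : ∀ x ∈ D, ∀ y ∈ D, ⁅x, y⁆ ∈ centralizer (D : Set G) := by
    rintro _ ⟨u, hu, rfl⟩ _ ⟨v, hv, rfl⟩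
    refine mem_centralizer_iff.2 fun w hw => ?_
    exact hcent ⁅u, v⁆ (hD0z (commutator_mem_commutator hu (mem_top v))).2 w hw
  have hsq : ∀ x ∈ D, x ^ 2 ∈ centralizer (D : Set G) := by
    rintro _ ⟨u, hu, rfl⟩
    exact mem_centralizer_iff.2 fun w hw => hcent (u ^ 2) (hD0p u hu) w hw
  haveI hCn : (centralizer (D : Set G)).Normal := by
    refine ⟨fun u hu g => mem_centralizer_iff.2 fun v hv => ?_⟩
    have h1 : g⁻¹ * v * g ∈ D := by simpa using hDn.conj_mem v hv g⁻¹
    calc v * (g * u * g⁻¹) = g * ((g⁻¹ * v * g) * u) * g⁻¹ := by group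
      _ = g * (u * (g⁻¹ * v * g)) * g⁻¹ := by rw [mem_centralizer_iff.1 hu _ h1]
      _ = g * u * g⁻¹ * v := by group
  have hCs : Stable σ (centralizer (D : Set G)) :=
    Stable.centralizer fun v hv w hw => hDs.mem_iff.1 (show σ w ∈ D from hw ▸ hv)
  let Z : Subgroup G := D ⊓ centralizer (D : Set G)
  haveI : Z.Normal := normal_inf_normal _ _
  have hZs : Stable σ Z := hDs.inf hCs
  have hZfix : ∀ u ∈ Z, σ u = u := fun u hu =>
    h.toBase.abelian_fixed hZs (h.toBase.not_dvd_of_isPGroup h.toBase.two_ne (hDp.to_le inf_le_left))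
      (fun u hu v hv => (mem_centralizer_iff.1 hu.2 v hv.1).symm) hu
  have hZc : Z ≤ center G := h.commute_of_fixed_normal hZfix
  obtain ⟨P, hPs⟩ := h.toBase.cop.exists_sylow p
  -- a moved `p`-element centralising `D` suffices
  suffices htop : centralizer (D : Set G) = ⊤ by
    have hall : ∀ g : G, ∀ v ∈ D, v * g = g * v := fun g v hv =>
      mem_centralizer_iff.1 (htop ▸ mem_top g : g ∈ centralizer (D : Set G)) v hv
    intro x hx
    have hxD : (⟨x, hx⟩ : R) ∈ D0 := hD0C (mem_centralizer_iff.2 fun v hv =>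
      Subtype.ext (hall x _ ⟨v, hv, rfl⟩))
    exact hZfix x ⟨⟨⟨x, hx⟩, hxD, rfl⟩, htop ▸ mem_top x⟩
  by_contra hCne
  have hC2 := h.normal_moved_two hCs hCne
  have hzero : ∀ Q : Subgroup G, IsPGroup p Q → Stable σ Q → moved σ Q ≤ centralizer (D : Set G) →
      moved σ Q = ⊥ := fun Q hQ hQs hle => by
    have h2 : moved σ Q ≤ moved σ (centralizer (D : Set G)) :=
      (h.toBase.cop.moved_moved hQs).ge.trans (moved_mono hle)
    exact (Subgroup.eq_bot_iff_forall _).2 fun x hx =>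
      inf_eq_bot_of_isPGroup (fun e => h.toBase.hp e) (hQ.to_le (moved_le hQs)) hC2 hx (h2 hx)
  have hproper : ∀ Q : Subgroup G, IsPGroup p Q → Stable σ Q → Q ⊔ D ≠ ⊤ →
      moved σ Q ≤ centralizer (D : Set G) := by
    intro Q hQ hQs hne a ha
    have hYs : Stable σ (Q ⊔ D) := hQs.sup hDs
    obtain ⟨A, -, hA, -, hAn, hall, -⟩ := h.exists_part hYs hne
    have haA : a ∈ A := hall a (moved_mono le_sup_left ha)
      (pow_prime_pow_of_mem hQ (moved_le hQs ha))
    refine mem_centralizer_iff.2 fun v hv => ?_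
    have hvA : v ∈ normalizer (A : Set G) := hAn v (le_normalizer_moved hYs (mem_sup_right hv))
    have h1 : ⁅a, v⁆ ∈ A := by
      rw [commutatorElement_def, mul_assoc, mul_assoc, ← mul_assoc v]
      exact mul_mem haA ((mem_normalizer_iff.1 hvA _).1 (inv_mem haA))
    have h2 : ⁅a, v⁆ ∈ D := by
      rw [commutatorElement_def]; exact D.mul_mem (hDn.conj_mem v hv a) (D.inv_mem hv)
    exact (commutatorElement_eq_one_iff_mul_comm.1 (inf_eq_bot_of_isPGroup (fun e => h.toBase.hp e) hA hDp h1 h2)).symm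
  by_cases htopPD : (P : Subgroup G) ⊔ D = ⊤
  swap
  · exact h.moved_sylow_ne_bot P hPs (hzero _ P.isPGroup' hPs (hproper _ P.isPGroup' hPs htopPD))
  -- now `G = P D`
  have hsub : ∀ Q : Subgroup G, Q ≤ (P : Subgroup G) → Q ≠ (P : Subgroup G) → Stable σ Q → ∀ x ∈ Q, σ x = x := by
    intro Q hQP hQne hQs
    refine moved_eq_bot.1 (hzero Q (P.isPGroup'.to_le hQP) hQs (hproper Q (P.isPGroup'.to_le hQP) hQs fun e => hQne ?_))
    refine le_antisymm hQP fun x hx => ?_
    have hx' : x ∈ ((Q ⊔ D : Subgroup G) : Set G) := by rw [e]; exact mem_top x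
    rw [coe_mul_of_left_le_normalizer_right Q D (by rw [normalizer_eq_top_iff.2 hDn]; exact le_top)] at hx'
    obtain ⟨y, hy, v, hv, rfl⟩ := hx'
    have hvP : v ∈ (P : Subgroup G) := by
      have := mul_mem (inv_mem (hQP hy)) hx
      rwa [inv_mul_cancel_left] at this
    show y * v ∈ Q
    rw [inf_eq_bot_of_isPGroup (fun e => h.toBase.hp e) P.isPGroup' hDp hvP hv, mul_one]
    exact hy
  have hPm : moved σ (P : Subgroup G) = P := by
    by_contra hne
    exact h.moved_sylow_ne_bot P hPs ((h.toBase.cop.moved_moved hPs).symm.trans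
      (moved_eq_bot.2 (hsub _ (moved_le hPs) hne (stable_moved hPs))))
  let T : Subgroup G := (P : Subgroup G) ⊓ centralizer ((P : Subgroup G) : Set G)
  have hTs : Stable σ T := hPs.inf (Stable.centralizer fun y hy z hz =>
    hPs.mem_iff.1 (show σ z ∈ (P : Subgroup G) from hz ▸ hy))
  by_cases hab : T = (P : Subgroup G)
  · -- abelian: no fixed points
    have hc : ∀ a ∈ (P : Subgroup G), ∀ b ∈ (P : Subgroup G), a * b = b * a := fun a ha b hb =>
      mem_centralizer_iff.1 (hab.ge hb : b ∈ T).2 a ha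
    have hfpf : ∀ x ∈ (P : Subgroup G), σ x = x → x = 1 := by
      intro x hx hfx
      let f : ↥(P : Subgroup G) → ↥(P : Subgroup G) :=
        fun a => ⟨(a : G)⁻¹ * σ (a : G), mul_mem (inv_mem a.2) (hPs (a : G) a.2)⟩
      have hsurj : Function.Surjective f := by
        intro y
        have hy : (y : G) ∈ moved σ (P : Subgroup G) := hPm.symm ▸ y.2
        have hle : moved σ (P : Subgroup G) ≤
            { carrier := {z | ∃ q ∈ (P : Subgroup G), z = q⁻¹ * σ q}
              one_mem' := ⟨1, one_mem _, by simp⟩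
              mul_mem' := by
                rintro _ _ ⟨a, ha, rfl⟩ ⟨b, hb, rfl⟩
                refine ⟨a * b, mul_mem ha hb, ?_⟩
                rw [map_mul, mul_inv_rev, show b⁻¹ * a⁻¹ * (σ a * σ b) = b⁻¹ * (a⁻¹ * σ a) * σ b by group,
                  hc b⁻¹ (inv_mem hb) _ (mul_mem (inv_mem ha) (hPs a ha))]
                group
              inv_mem' := by
                rintro _ ⟨a, ha, rfl⟩
                refine ⟨a⁻¹, inv_mem ha, ?_⟩
                rw [map_inv, inv_inv, mul_inv_rev, inv_inv, hc _ (inv_mem (hPs a ha)) a ha] } :=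
          moved_le_iff.2 fun a ha => ⟨a, ha, rfl⟩
        obtain ⟨a, ha, e⟩ := hle hy
        exact ⟨⟨a, ha⟩, Subtype.ext e.symm⟩
      have h1 : f ⟨x, hx⟩ = f 1 := Subtype.ext (by
        show x⁻¹ * σ x = (1 : G)⁻¹ * σ 1
        rw [hfx, inv_mul_cancel, inv_one, map_one, one_mul])
      exact congrArg Subtype.val (Finite.injective_iff_surjective.2 hsurj h1)
    have key : ∀ a ∈ (P : Subgroup G), ∀ x ∈ D, Commute a x := by
      intro a ha x hx
      refine commute_of_commute_comm ?_ ?_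
      · have hz : ⁅a, x⁆ ∈ Z := ⟨by rw [commutatorElement_def]; exact D.mul_mem (hDn.conj_mem x hx a) (D.inv_mem hx),
          mem_centralizer_iff.2 fun w hw => (commutatorElement_eq_one_iff_mul_comm.1
            (h.toBase.commutator_central_of_abelian hDp hDs P.isPGroup' hPs hc
              (fun u _ => by rw [normalizer_eq_top_iff.2 hDn]; exact mem_top _) hD' hsq hfpf ha hx hw)).symm⟩
        exact mem_center_iff.1 (hZc hz) a
      · obtain ⟨j, hj⟩ := pow_prime_pow_of_mem hDp (show ⁅a, x⁆ ∈ D by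
          rw [commutatorElement_def]; exact D.mul_mem (hDn.conj_mem x hx a) (D.inv_mem hx))
        obtain ⟨i, hi⟩ := pow_prime_pow_of_mem P.isPGroup' ha
        exact orderOf_coprime_of_pow h.toBase.hp ⟨i, hi⟩ ⟨j, hj⟩
    refine h.moved_sylow_ne_bot P hPs (hzero _ P.isPGroup' hPs ((moved_le hPs).trans fun a ha => ?_))
    exact mem_centralizer_iff.2 fun v hv => (key a ha v hv).eq.symm
  · -- nonabelian
    have hTfix := hsub T inf_le_left hab hTs
    obtain ⟨z, hzT, hz1, -⟩ := exists_orderOf_eq_of_isPGroup (P.isPGroup'.to_le (inf_le_left : T ≤ P)) (by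
      haveI : Nontrivial (P : Subgroup G) := (Subgroup.nontrivial_iff_ne_bot _).2 fun e =>
        h.moved_sylow_ne_bot P hPs (by rw [hPm]; exact e)
      haveI := P.isPGroup'.center_nontrivial
      obtain ⟨⟨z, hz⟩, hz1⟩ := exists_ne (1 : center (P : Subgroup G))
      refine fun e => hz1 (Subtype.ext (Subtype.ext ?_))
      have hzT : (z : G) ∈ T := ⟨z.2, mem_centralizer_iff.2 fun v hv =>
        congrArg Subtype.val (mem_center_iff.1 hz ⟨v, hv⟩)⟩
      rw [show T = ⊥ from e, Subgroup.mem_bot] at hzT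
      exact hzT)
    have hzf : σ z = z := hTfix z hzT
    have hzP : ∀ x ∈ (P : Subgroup G), Commute z x := fun x hx => (mem_centralizer_iff.1 hzT.2 x hx).symm
    obtain ⟨i, hi⟩ := pow_prime_pow_of_mem P.isPGroup' hzT.1
    have hcopD : ∀ y ∈ D, (orderOf z).Coprime (orderOf y) := fun y hy =>
      orderOf_coprime_of_pow h.toBase.hp ⟨i, hi⟩ (pow_prime_pow_of_mem hDp hy)
    -- `z` centralises the displacements of `D` modulo `Z`
    set M := moved σ D with hM
    have hMG := h.toBase.movedGroup h.toBase.two_ne hDp hDs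
    have hMD : M ≤ D := moved_le hDs
    have hzD : ∀ y ∈ D, ⁅z, y⁆ ∈ D := fun y hy => by
      rw [commutatorElement_def]; exact D.mul_mem (hDn.conj_mem y hy z) (D.inv_mem hy)
    have hbr : ∀ u ∈ D, ∀ v ∈ D, ∀ v' ∈ D, ⁅u, v * v'⁆ = ⁅u, v⁆ * ⁅u, v'⁆ := fun u hu v hv v' hv' => by
      rw [show ⁅u, v * v'⁆ = ⁅u, v⁆ * (v * ⁅u, v'⁆ * v⁻¹) by simp only [commutatorElement_def]; group,
        mem_centralizer_iff.1 (hD' u hu v' hv') v hv, mul_inv_cancel_right]
    have hcm : ∀ u ∈ D, ∀ v ∈ D, ⁅u, v⁆ ∈ Z := fun u hu v hv => ⟨by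
      rw [commutatorElement_def]
      exact D.mul_mem (D.mul_mem (D.mul_mem hu hv) (D.inv_mem hu)) (D.inv_mem hv), hD' u hu v hv⟩
    have hcW : ∀ c ∈ D, σ c = c → ∀ w ∈ M, ⁅c, w⁆ = 1 := by
      intro c hc hcf w hw
      let Kc : Subgroup G :=
        { carrier := {v | v ∈ D ∧ ⁅c, v⁆ = 1}
          one_mem' := ⟨D.one_mem, commutatorElement_one_right _⟩
          mul_mem' := fun {v v'} hv hv' => ⟨D.mul_mem hv.1 hv'.1, by
            rw [hbr c hc v hv.1 v' hv'.1, hv.2, hv'.2, one_mul]⟩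
          inv_mem' := fun {v} hv => ⟨D.inv_mem hv.1,
            commutatorElement_eq_one_iff_mul_comm.2
              (Commute.inv_right (commutatorElement_eq_one_iff_mul_comm.1 hv.2)).eq⟩ }
      have hle : M ≤ Kc := moved_le_iff.2 fun v hv => ⟨mul_mem (inv_mem hv) (hDs v hv), by
        rw [hbr c hc _ (inv_mem hv) _ (hDs v hv)]
        have h1 : ⁅c, σ v⁆ = ⁅c, v⁆ := by
          conv_lhs => rw [← hcf]
          rw [← map_commutatorElement, hZfix _ (hcm c hc v hv)]
        rw [h1, ← hbr c hc _ (inv_mem hv) v hv, inv_mul_cancel, commutatorElement_one_right]⟩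
      exact (hle hw).2
    have hUZ : fixedPart σ M ≤ Z := fun u hu => by
      refine ⟨hMD hu.1, mem_centralizer_iff.2 fun v hv => ?_⟩
      obtain ⟨c, hc, hcf, hcv⟩ := h.toBase.cop.exists_fixed_mul hDs hv
      have h1 : Commute c u := commutatorElement_eq_one_iff_mul_comm.1 (hcW c hc hcf u hu.1)
      have h2 : Commute (c⁻¹ * v) u := (hMG.fixedPart_central hu hcv).symm
      have h3 := h1.mul_left h2
      rwa [mul_inv_cancel_left] at h3
    have hzM : ∀ w ∈ M, Commute z w := fun w hw =>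
      commute_of_fixed_part h.toBase.ff hMG h.toBase.inj h.two_cast_ne_zero hzf
        (conj_mem_of_fixed hzf (by rw [normalizer_eq_top_iff.2 hDn]; exact mem_top _))
        (fun u hu => mem_center_iff.1 (hZc (hUZ hu)) z) hw
    -- `z` centralises `D`
    let K : Subgroup G :=
      { carrier := {v | v ∈ D ∧ Commute z v}
        one_mem' := ⟨D.one_mem, Commute.one_right z⟩
        mul_mem' := fun {a b} ha hb => ⟨D.mul_mem ha.1 hb.1, ha.2.mul_right hb.2⟩
        inv_mem' := fun {a} ha => ⟨D.inv_mem ha.1, ha.2.inv_right⟩ }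
    have hKP : ∀ x ∈ (P : Subgroup G), ∀ v ∈ K, x * v * x⁻¹ ∈ K := fun x hx v hv =>
      ⟨hDn.conj_mem v hv.1 x, ((hzP x hx).mul_right hv.2).mul_right (hzP x hx).inv_right⟩
    have hMK : M ≤ K := fun w hw => ⟨hMD hw, hzM w hw⟩
    -- `P` centralises `D` modulo `K`
    let L : Subgroup G :=
      { carrier := {x | x ∈ (P : Subgroup G) ∧ ∀ v ∈ D, v⁻¹ * (x * v * x⁻¹) ∈ K}
        one_mem' := ⟨one_mem _, fun v _ => by simp⟩
        mul_mem' := fun {a b} ha hb => ⟨mul_mem ha.1 hb.1, fun v hv => by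
          have h1 := hKP a ha.1 _ (hb.2 v hv)
          have h2 := ha.2 v hv
          have := mul_mem h2 h1
          rwa [show v⁻¹ * (a * v * a⁻¹) * (a * (v⁻¹ * (b * v * b⁻¹)) * a⁻¹) = v⁻¹ * (a * b * v * (a * b)⁻¹) by
            group] at this⟩
        inv_mem' := fun {a} ha => ⟨inv_mem ha.1, fun v hv => by
          have h1 := inv_mem (hKP a⁻¹ (inv_mem ha.1) _ (ha.2 v hv))
          rwa [show (a⁻¹ * (v⁻¹ * (a * v * a⁻¹)) * a⁻¹⁻¹)⁻¹ = v⁻¹ * (a⁻¹ * v * a⁻¹⁻¹) by group] at h1⟩ }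
    have hPL : (P : Subgroup G) ≤ L := hPm.ge.trans (moved_le_iff.2 fun y hy =>
      ⟨mul_mem (inv_mem hy) (hPs y hy), fun v hv => by
        obtain ⟨v, rfl⟩ : ∃ u, y⁻¹ * σ u * y = v :=
          ⟨σ.symm (y * v * y⁻¹), by rw [σ.apply_symm_apply]; group⟩
        have hu : v ∈ D := by
          have h1 : σ v ∈ D := by
            have := hDn.conj_mem _ hv y
            rwa [show y * (y⁻¹ * σ v * y) * y⁻¹ = σ v by group] at this
          exact hDs.mem_iff.1 h1
        -- both sides agree modulo `K`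
        have hd : ∀ u ∈ D, u⁻¹ * σ u ∈ K := fun u hu => hMK (mem_moved hu)
        have hyv : y⁻¹ * v * y ∈ D := by simpa using hDn.conj_mem v hu y⁻¹
        have e1 := hd (y⁻¹ * v * y) hyv
        rw [map_mul, map_mul, map_inv] at e1
        have e3 := hKP y⁻¹ (inv_mem hy) _ (hd v hu)
        rw [inv_inv] at e3
        have e4 := inv_mem e3
        have e5 := hKP ((σ y)⁻¹ * y)⁻¹ (inv_mem (mul_mem (inv_mem (hPs y hy)) hy))
          _ (mul_mem e4 e1)
        rw [show ((σ y)⁻¹ * y)⁻¹ * ((y⁻¹ * (v⁻¹ * σ v) * y)⁻¹ * ((y⁻¹ * v * y)⁻¹ * ((σ y)⁻¹ * σ v * σ y))) *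
            ((σ y)⁻¹ * y)⁻¹⁻¹ = y⁻¹ * σ y * (y⁻¹ * σ v * y)⁻¹ * (σ y)⁻¹ * σ v * y by group] at e5
        have e6 := inv_mem e5
        rw [show (y⁻¹ * σ y * (y⁻¹ * σ v * y)⁻¹ * (σ y)⁻¹ * σ v * y)⁻¹ =
          (y⁻¹ * σ v * y)⁻¹ * ((y⁻¹ * σ y) * (y⁻¹ * σ v * y) * (y⁻¹ * σ y)⁻¹) by group] at e6
        exact e6⟩)
    have hzall : ∀ v ∈ D, Commute z v := fun v hv => by
      have h2 : v⁻¹ * (z * v * z⁻¹) ∈ K := (hPL hzT.1).2 v hv
      have h1 : ⁅z, v⁆ ∈ K := by
        have h3 : Commute z (v⁻¹ * (z * v * z⁻¹)) := h2.2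
        refine ⟨hzD v hv, ?_⟩
        have h6 : ⁅z, v⁆ = ⁅v, v⁻¹ * (z * v * z⁻¹)⁆ * (v⁻¹ * (z * v * z⁻¹)) := by
          simp only [commutatorElement_def]; group
        rw [h6]
        exact (show Commute z _ from mem_center_iff.1 (hZc (hcm v hv _ h2.1)) z).mul_right h3
      exact commute_of_commute_comm h1.2 (hcopD _ h1.1)
    have hzc : z ∈ center G := by
      have hle : (P : Subgroup G) ⊔ D ≤ centralizer ({z} : Set G) := sup_le
        (fun x hx => mem_centralizer_singleton_iff.2 (hzP x hx).eq.symm)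
        fun v hv => mem_centralizer_singleton_iff.2 (hzall v hv).eq.symm
      refine mem_center_iff.2 fun g => ?_
      exact mem_centralizer_singleton_iff.1 (hle (htopPD ▸ mem_top g))
    let Q : Subgroup G := zpowers z
    haveI : Q.Normal := ⟨fun y hy g => by
      have hyc : y ∈ center G := (zpowers_le.2 hzc) hy
      rwa [mem_center_iff.1 hyc g, mul_inv_cancel_right]⟩
    have hQp : IsPGroup p Q := P.isPGroup'.to_le (zpowers_le.2 hzT.1)
    have hQs : Stable σ Q := by
      rintro _ ⟨j, rfl⟩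
      exact ⟨j, by show z ^ j = σ (z ^ j); rw [map_zpow, hzf]⟩
    exact hz1 ((Subgroup.eq_bot_iff_forall Q).1 (h.toBase.eq_bot_of_normal hQp hQs) z (mem_zpowers z))

end GCex

end CfsgLib.HHShultGen
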