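import Mathlib
import Cfsg.Agent.HHShultGen.Minimal

/-!
Proper normal subgroups are central; the displacements of a proper stable subgroup split; a stable subgroup
carrying the whole index of the fixed points is everything.
-/

set_option autoImplicit false
set_option linter.style.haveILetI false
set_option linter.unusedSectionVars false

namespace CfsgLib.HHShultGen

open Subgroup CfsgLib.HHShult
open scoped commutatorElement

variable {G : Type*} [Group G] [Finite G] {σ : MulAut G} {r : ℕ}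

theorem relIndex_fixed_of_moved_le (hcop : CopAut σ r) {H K : Subgroup G} (hH : Stable σ H) (hKH : K ≤ H)
    (hm : moved σ H ≤ K) : (fixedSubgroup σ).relIndex H = (fixedSubgroup σ).relIndex K := by
  set C := fixedSubgroup σ
  let f : K ⧸ C.subgroupOf K → H ⧸ C.subgroupOf H :=
    Quotient.map' (fun w => ⟨w, hKH w.2⟩) fun a b hab => by
      rw [QuotientGroup.leftRel_apply] at hab ⊢
      exact hab
  refine (Nat.card_eq_of_bijective f ⟨?_, ?_⟩).symm
  · exact fun a b => QuotientGroup.induction_on a fun a => QuotientGroup.induction_on b fun b e =>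
      QuotientGroup.eq.2 ((QuotientGroup.eq (s := C.subgroupOf H)).1 e : _)
  · intro y
    induction y using QuotientGroup.induction_on with
    | _ s =>
      obtain ⟨c, hc, hcf, hcs⟩ := hcop.exists_fixed_mul hH (inv_mem s.2)
      have hk : (c⁻¹ * (s : G)⁻¹)⁻¹ ∈ K := inv_mem (hm hcs)
      refine ⟨((⟨(c⁻¹ * (s : G)⁻¹)⁻¹, hk⟩ : K) : K ⧸ C.subgroupOf K), ?_⟩
      show ((⟨(c⁻¹ * (s : G)⁻¹)⁻¹, hKH hk⟩ : H) : H ⧸ C.subgroupOf H) = s
      refine QuotientGroup.eq.2 ?_
      show ((c⁻¹ * (s : G)⁻¹)⁻¹)⁻¹ * (s : G) ∈ C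
      rw [inv_inv, mul_assoc, inv_mul_cancel, mul_one]
      exact inv_mem hcf

/-- The cardinality of a product of two subgroups meeting trivially. -/
theorem card_of_product {M A B : Subgroup G} (hA : A ≤ M) (hB : B ≤ M) (hd : ∀ x ∈ A, x ∈ B → x = 1)
    (hs : ∀ x ∈ M, ∃ a ∈ A, ∃ b ∈ B, x = a * b) : Nat.card M = Nat.card A * Nat.card B := by
  rw [← Nat.card_prod]
  refine (Nat.card_eq_of_bijective (fun q : A × B => (⟨(q.1 : G) * q.2, mul_mem (hA q.1.2) (hB q.2.2)⟩ : M))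
    ⟨fun x y e => ?_, fun x => ?_⟩).symm
  · have e' : (x.1 : G) * x.2 = y.1 * y.2 := congrArg Subtype.val e
    have h1 : (y.1 : G)⁻¹ * x.1 = y.2 * (x.2 : G)⁻¹ := by
      rw [inv_mul_eq_iff_eq_mul, ← mul_assoc, eq_mul_inv_iff_mul_eq]; exact e'
    have h2 := hd _ (mul_mem (inv_mem y.1.2) x.1.2) (h1 ▸ mul_mem y.2.2 (inv_mem x.2.2))
    have e1 : (y.1 : G) = x.1 := inv_mul_eq_one.1 h2
    rw [h2] at h1
    exact Prod.ext (Subtype.ext e1.symm) (Subtype.ext (mul_inv_eq_one.1 h1.symm).symm)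
  · obtain ⟨a, ha, b, hb, e⟩ := hs x x.2
    exact ⟨⟨⟨a, ha⟩, ⟨b, hb⟩⟩, Subtype.ext e.symm⟩

theorem relIndex_fixed_sup {A B : Subgroup G} (hA : Stable σ A) (hB : Stable σ B) (hn : B ≤ normalizer (A : Set G))
    (hd : ∀ x ∈ A, x ∈ B → x = 1) :
    (fixedSubgroup σ).relIndex (A ⊔ B) = (fixedSubgroup σ).relIndex A * (fixedSubgroup σ).relIndex B := by
  set C := fixedSubgroup σ
  have hmem : ∀ x ∈ A ⊔ B, ∃ a ∈ A, ∃ b ∈ B, x = a * b := by
    intro x hx
    have hx' : x ∈ ((A ⊔ B : Subgroup G) : Set G) := hx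
    rw [coe_mul_of_right_le_normalizer_left _ _ hn] at hx'
    obtain ⟨a, ha, b, hb, e⟩ := hx'
    exact ⟨a, ha, b, hb, e.symm⟩
  have h1 := card_of_product le_sup_left le_sup_right hd hmem
  have h2 : Nat.card ↥(C ⊓ (A ⊔ B)) = Nat.card ↥(C ⊓ A) * Nat.card ↥(C ⊓ B) := by
    refine card_of_product (inf_le_inf_left C le_sup_left) (inf_le_inf_left C le_sup_right)
      (fun x hx hx' => hd x hx.2 hx'.2) fun x hx => ?_
    obtain ⟨a, ha, b, hb, rfl⟩ := hmem x hx.2
    have hfix : σ a * σ b = a * b := by rw [← map_mul]; exact hx.1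
    have e : a⁻¹ * σ a = b * (σ b)⁻¹ := by
      rw [inv_mul_eq_iff_eq_mul, ← mul_assoc, eq_mul_inv_iff_mul_eq]; exact hfix
    have e1 : σ a = a := (inv_mul_eq_one.1 (hd _ (mul_mem (inv_mem ha) (hA a ha))
      (e ▸ mul_mem hb (inv_mem (hB b hb))))).symm
    rw [e1, mul_right_inj] at hfix
    exact ⟨a, ⟨e1, ha⟩, b, ⟨hfix, hb⟩, rfl⟩
  have hcard : ∀ H : Subgroup G, Nat.card ↥(C ⊓ H) * C.relIndex H = Nat.card H := fun H => by
    rw [← inf_relIndex_right]; exact card_mul_relIndex inf_le_right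
  have h3 := hcard (A ⊔ B)
  rw [h1, ← hcard A, ← hcard B, h2] at h3
  refine Nat.eq_of_mul_eq_mul_left (Nat.mul_pos (Nat.card_pos (α := ↥(C ⊓ A))) (Nat.card_pos (α := ↥(C ⊓ B)))) ?_
  rw [h3]; ring

/-- A power of `q` dividing the index of the fixed points divides their index in a Sylow `q`-subgroup. -/
theorem pow_dvd_relIndex {q : ℕ} [Fact q.Prime] (Q : Sylow q G) (C : Subgroup G) {i : ℕ} (hi : q ^ i ∣ C.index) :
    q ^ i ∣ C.relIndex (Q : Subgroup G) := by
  have h1 : q ^ i * Nat.card (C ⊓ Q : Subgroup G) ∣ Nat.card G := by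
    rw [← C.card_mul_index, mul_comm (Nat.card C)]
    exact mul_dvd_mul hi (Subgroup.card_dvd_of_le inf_le_left)
  obtain ⟨n, hn⟩ := (Q.isPGroup'.to_le (inf_le_right : C ⊓ Q ≤ Q)).exists_card_eq
  rw [hn, ← pow_add] at h1
  have h2 := Q.pow_dvd_card_of_pow_dvd_card h1
  rw [← card_mul_relIndex (inf_le_right : C ⊓ Q ≤ (Q : Subgroup G)), inf_relIndex_right, hn, pow_add,
    mul_comm (q ^ i)] at h2
  exact Nat.dvd_of_mul_dvd_mul_left (pow_pos (Fact.out : q.Prime).pos n) h2

/-- A stable Sylow subgroup of a stable subgroup, above a given stable `q`-subgroup. -/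
theorem exists_sylow_of_le (hcop : CopAut σ r) {q : ℕ} [hq : Fact q.Prime] {M Q : Subgroup G} (hM : Stable σ M)
    (hQ : IsPGroup q Q) (hQs : Stable σ Q) (hQM : Q ≤ M) :
    ∃ S0 : Subgroup G, S0 ≤ M ∧ IsPGroup q S0 ∧ Stable σ S0 ∧ Q ≤ S0 ∧ ¬ q ∣ S0.relIndex M := by
  let τ : MulAut M := MulEquiv.ofBijective
    ((σ.toMonoidHom.comp M.subtype).codRestrict M fun y => hM y y.2)
    (Finite.injective_iff_bijective.1 fun a b e => Subtype.ext (σ.injective (congrArg Subtype.val e)))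
  obtain ⟨S, hS, hQS⟩ := (hcop.restrict M τ fun x => rfl).le_stable_sylow (p := q) (Q := Q.subgroupOf M)
    (hQ.of_equiv (Subgroup.subgroupOfEquivOfLe hQM).symm) fun x hx => hQs _ hx
  refine ⟨(S : Subgroup M).map M.subtype, map_subtype_le _, S.isPGroup'.map _, ?_, ?_, ?_⟩
  · rintro _ ⟨x, hx, rfl⟩
    exact ⟨τ x, hS x hx, rfl⟩
  · exact fun x hx => ⟨⟨x, hQM hx⟩, hQS hx, rfl⟩
  · have e : ((S : Subgroup M).map M.subtype).subgroupOf M = (S : Subgroup M) :=
      comap_map_eq_self_of_injective M.subtype_injective _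
    rw [relIndex, e]
    exact S.not_dvd_index

variable {k : Type*} [Field k] {V : Type*} [AddCommGroup V] [Module k V]

namespace GCex

variable {p : ℕ} [hp' : Fact p.Prime] [CharP k p] [IsAlgClosed k] [FiniteDimensional k V]
variable {ρ : G →* Module.End k V} {φ : Module.End k V} (h : GCex σ r p ρ φ)
include h

theorem cop : CopAut σ r := h.toBase.cop

theorem eq_top_of_index_dvd {M : Subgroup G} (hM : Stable σ M)
    (hdvd : (fixedSubgroup σ).index ∣ (fixedSubgroup σ).relIndex M) : M = ⊤ := by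
  set C := fixedSubgroup σ
  let f : M ⧸ C.subgroupOf M → G ⧸ C :=
    Quotient.map' (fun w => (w : G)) fun a b hab => by
      rw [QuotientGroup.leftRel_apply] at hab ⊢
      exact hab
  have hinj : Function.Injective f := fun a b => QuotientGroup.induction_on a fun a =>
    QuotientGroup.induction_on b fun b e => QuotientGroup.eq.2 ((QuotientGroup.eq (s := C)).1 e : _)
  have hle : Nat.card (G ⧸ C) ≤ Nat.card (M ⧸ C.subgroupOf M) :=
    Nat.le_of_dvd (Nat.pos_of_ne_zero fun h0 => index_ne_zero_of_finite (H := C.subgroupOf M) h0) hdvd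
  rw [← top_le_iff, ← h.moved_top]
  refine moved_le_iff.2 fun g _ => ?_
  obtain ⟨y, hy⟩ := (hinj.bijective_of_nat_card_le hle).surjective ((g⁻¹ : G) : G ⧸ C)
  obtain ⟨m, rfl⟩ := QuotientGroup.mk_surjective y
  have hc : (m : G)⁻¹ * g⁻¹ ∈ C := (QuotientGroup.eq (s := C)).1 hy
  have e : g⁻¹ * σ g = (m : G) * σ ((m : G)⁻¹) := by
    have hc' : σ ((m : G)⁻¹ * g⁻¹) = (m : G)⁻¹ * g⁻¹ := hc
    rw [map_mul, map_inv, map_inv] at hc'
    have e2 : (σ g)⁻¹ = σ (m : G) * ((m : G)⁻¹ * g⁻¹) := by rw [← hc', mul_inv_cancel_left]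
    rw [← inv_inv (σ g), e2, map_inv]
    group
  rw [e]
  exact mul_mem m.2 (hM _ (inv_mem m.2))

/-- The index of the fixed points is carried by a Sylow `p`-subgroup and a Sylow two-subgroup. -/
theorem index_dvd_rel (P : Sylow p G) (S : Sylow 2 G) :
    (fixedSubgroup σ).index ∣
      (fixedSubgroup σ).relIndex (P : Subgroup G) * (fixedSubgroup σ).relIndex (S : Subgroup G) := by
  rw [Nat.dvd_iff_prime_pow_dvd_dvd]
  intro q i hq hqi
  haveI := Fact.mk hq
  rcases Nat.eq_zero_or_pos i with rfl | hi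
  · simp
  haveI : Fact (Nat.Prime 2) := ⟨Nat.prime_two⟩
  by_cases hqp : q = p
  · subst hqp
    exact (pow_dvd_relIndex P _ hqi).mul_right _
  by_cases hq2 : q = 2
  · subst hq2
    exact (pow_dvd_relIndex S _ hqi).mul_left _
  · exfalso
    obtain ⟨Q, hQ⟩ := h.cop.exists_sylow q
    have hle : (Q : Subgroup G) ≤ fixedSubgroup σ := fun x hx => h.toBase.fixed_of_odd hqp hq2 Q.isPGroup' hQ hx
    exact Q.not_dvd_index (((dvd_pow_self q hi.ne').trans hqi).trans (Subgroup.index_dvd_of_le hle))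

/-- Proper normal stable subgroups are central. -/
theorem normal_le_center {N : Subgroup G} [hNn : N.Normal] (hNs : Stable σ N) (hne : N ≠ ⊤) : N ≤ center G := by
  haveI : Fact (Nat.Prime 2) := ⟨Nat.prime_two⟩
  obtain ⟨R, hRn, hRs, hRp, -, hsup⟩ := exists_normal_stable_sup (σ := σ) (q := 2) (N := N) hNs
  haveI := hRn
  have hle : moved σ N ≤ R := hsup _ (moved_le hNs) (h.normal_moved_two hNs hne) (le_normalizer_moved hNs)
  refine h.commute_of_fixed_normal (moved_eq_bot.1 ?_)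
  rw [← h.cop.moved_moved hNs, moved_eq_bot]
  exact fun x hx => h.fixed_of_normal_two hRp hRs x (hle hx)

theorem center_fixed {z : G} (hz : z ∈ center G) : σ z = z := by
  haveI : Fact (Nat.Prime 2) := ⟨Nat.prime_two⟩
  have hs : Stable σ (center G) := Stable.of_char (center G)
  refine moved_eq_bot.1 ?_ z hz
  rw [← h.cop.moved_moved hs, moved_eq_bot]
  exact fun x hx => h.toBase.abelian_fixed (stable_moved hs)
    (h.toBase.not_dvd_of_isPGroup h.toBase.two_ne (h.normal_moved_two hs h.center_ne_top))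
    (fun a ha b _ => (mem_center_iff.1 (moved_le hs ha) b).symm) hx

variable (S : Sylow 2 G) (hS : Stable σ (S : Subgroup G))
include hS

theorem moved_two_le_conj {Q : Subgroup G} (hQ : IsPGroup 2 Q) (hQs : Stable σ Q) :
    ∃ c : G, σ c = c ∧ moved σ Q ≤ (moved σ (S : Subgroup G)).map (MulAut.conj c).toMonoidHom := by
  haveI : Fact (Nat.Prime 2) := ⟨Nat.prime_two⟩
  obtain ⟨S', hS's, hS'⟩ := h.cop.le_stable_sylow hQ hQs
  obtain ⟨c, hc, hc'⟩ := h.cop.sylow_conj S S' hS hS's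
  refine ⟨c, hc, (moved_mono hS').trans (moved_le_iff.2 fun x hx => ?_)⟩
  refine ⟨_, mem_moved ((hc' x).1 hx), ?_⟩
  show c * ((c⁻¹ * x * c)⁻¹ * σ (c⁻¹ * x * c)) * c⁻¹ = x⁻¹ * σ x
  rw [map_mul, map_mul, map_inv, hc]
  group

omit hS in
/-- The displacements of a proper stable subgroup split. -/
theorem exists_split {Y : Subgroup G} (hY : Stable σ Y) (hne : Y ≠ ⊤) {Q : Subgroup G} (hQ : IsPGroup 2 Q)
    (hQs : Stable σ Q) (hQY : Q ≤ moved σ Y) (hQm : moved σ Q = Q) :
    ∃ A T : Subgroup G, IsPGroup p A ∧ Stable σ A ∧ IsPGroup 2 T ∧ Stable σ T ∧ moved σ T = T ∧ Q ≤ T ∧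
      T ≤ normalizer (A : Set G) ∧ moved σ Y = A ⊔ T ∧
      (∀ g ∈ normalizer (moved σ Y : Set G), g ∈ normalizer (A : Set G)) ∧
      ∀ x ∈ moved σ Y, (∃ i, x ^ p ^ i = 1) → x ∈ A := by
  haveI : Fact (Nat.Prime 2) := ⟨Nat.prime_two⟩
  obtain ⟨A, hAM, hA, hAs, hAn, hall, htwo⟩ := h.exists_part hY hne
  obtain ⟨S0, hS0M, hS0, hS0s, hQS0, hS0i⟩ := exists_sylow_of_le h.cop (stable_moved hY) hQ hQs hQY
  set M := moved σ Y
  have hMA : M ≤ normalizer (A : Set G) := fun g hg => hAn g (le_normalizer hg)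
  have hsup : A ⊔ S0 = M := by
    refine le_antisymm (sup_le hAM hS0M) (relIndex_eq_one.1 ?_)
    haveI : (A.subgroupOf M).Normal := (normal_subgroupOf_iff_le_normalizer hAM).2 hMA
    have hq : IsPGroup 2 (M ⧸ A.subgroupOf M) := fun y => by
      induction y using QuotientGroup.induction_on with
      | _ y =>
        obtain ⟨i, hi⟩ := htwo y y.2
        exact ⟨i, by rw [← QuotientGroup.mk_pow, QuotientGroup.eq_one_iff]; exact hi⟩
    obtain ⟨n, hn⟩ := hq.exists_card_eq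
    have h1 : (A ⊔ S0).relIndex M ∣ 2 ^ n := hn ▸ relIndex_dvd_of_le_left M le_sup_left
    obtain ⟨j, -, hj⟩ := (Nat.dvd_prime_pow Nat.prime_two).1 h1
    rcases Nat.eq_zero_or_pos j with rfl | hj0
    · rw [hj, pow_zero]
    · exact absurd ((hj ▸ dvd_pow_self 2 hj0.ne').trans (relIndex_dvd_of_le_left M le_sup_right)) hS0i
  have hn : S0 ≤ normalizer (A : Set G) := hS0M.trans hMA
  refine ⟨A, moved σ S0, hA, hAs, hS0.to_le (moved_le hS0s), stable_moved hS0s, h.cop.moved_moved hS0s,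
    hQm.ge.trans (moved_mono hQS0), (moved_le hS0s).trans hn, ?_, hAn, hall⟩
  refine le_antisymm ?_ (sup_le hAM ((moved_le hS0s).trans hS0M))
  have e : moved σ M = M := h.cop.moved_moved hY
  rw [← e]
  refine moved_le_sup hAs hS0s hn fun x hx => ?_
  have hx' : x ∈ ((A ⊔ S0 : Subgroup G) : Set G) := hsup.ge hx
  rw [coe_mul_of_right_le_normalizer_left _ _ hn] at hx'
  obtain ⟨a, ha, b, hb, e⟩ := hx'
  exact ⟨a, ha, b, hb, e.symm⟩

/-- The displacements of a proper stable subgroup over `W`. -/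
theorem exists_split_over {Y : Subgroup G} (hY : Stable σ Y) (hne : Y ≠ ⊤)
    (hWY : moved σ (S : Subgroup G) ≤ Y) :
    ∃ A : Subgroup G, IsPGroup p A ∧ Stable σ A ∧ moved σ (S : Subgroup G) ≤ normalizer (A : Set G) ∧
      moved σ Y = A ⊔ moved σ (S : Subgroup G) ∧
      (∀ g ∈ normalizer (moved σ Y : Set G), g ∈ normalizer (A : Set G)) ∧
      ∀ x ∈ moved σ Y, (∃ i, x ^ p ^ i = 1) → x ∈ A := by
  obtain ⟨A, T, hA, hAs, hT, hTs, hTm, hWT, hTn, hsup, hAn, hall⟩ := h.exists_split hY hne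
    (S.isPGroup'.to_le (moved_le hS)) (stable_moved hS)
    ((h.cop.moved_moved hS).ge.trans (moved_mono hWY)) (h.cop.moved_moved hS)
  obtain ⟨c, hc, hle⟩ := h.moved_two_le_conj S hS hT hTs
  rw [hTm] at hle
  have e : moved σ (S : Subgroup G) = T := eq_of_le_of_card_ge hWT ((Subgroup.card_le_of_le hle).trans
    (card_map_of_injective (MulAut.conj c).injective).le)
  rw [e]
  exact ⟨A, hA, hAs, hTn, hsup, hAn, hall⟩

/-- Two-groups are moved. -/
theorem moved_ne_bot : moved σ (S : Subgroup G) ≠ ⊥ := by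
  intro e
  obtain ⟨P, hP⟩ := h.cop.exists_sylow p
  have hS1 : (fixedSubgroup σ).relIndex (S : Subgroup G) = 1 := relIndex_eq_one.2 (moved_eq_bot.1 e)
  have h1 := h.index_dvd_rel P S
  rw [hS1, mul_one] at h1
  have htop := h.eq_top_of_index_dvd hP h1
  haveI : (P : Subgroup G).Normal := by rw [htop]; infer_instance
  exact h.moved_sylow_ne_bot P hP (by
    rw [h.toBase.eq_bot_of_normal P.isPGroup' hP]
    exact moved_eq_bot.2 fun x hx => by rw [Subgroup.mem_bot.1 hx, map_one])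

/-- A proper stable subgroup over `W` contains no stable Sylow `p`-subgroup. -/
theorem eq_top_of_sylow_le {Y : Subgroup G} (hY : Stable σ Y) (hWY : moved σ (S : Subgroup G) ≤ Y)
    (P : Sylow p G) (hP : Stable σ (P : Subgroup G)) (hPY : (P : Subgroup G) ≤ Y) : Y = ⊤ := by
  haveI : Fact (Nat.Prime 2) := ⟨Nat.prime_two⟩
  by_contra hne
  obtain ⟨A, hA, hAs, hWn, hsup, hAn, hall⟩ := h.exists_split_over S hS hY hne hWY
  set W := moved σ (S : Subgroup G)
  have hd : ∀ x ∈ A, x ∈ W → x = 1 := fun x hx hx' =>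
    inf_eq_bot_of_isPGroup (fun e => h.toBase.hp e) hA (S.isPGroup'.to_le (moved_le hS)) hx hx'
  have hAY : A ≤ Y := (hsup.ge.trans (moved_le hY)) |> le_sup_left.trans
  have hPA : moved σ (P : Subgroup G) ≤ A := fun x hx =>
    hall x (moved_mono hPY hx) (pow_prime_pow_of_mem P.isPGroup' (moved_le hP hx))
  have hPn : (P : Subgroup G) ≤ normalizer (A : Set G) := fun g hg => hAn g (le_normalizer_moved hY (hPY hg))
  have hAP : A ≤ (P : Subgroup G) := by
    have h1 : IsPGroup p ((P : Subgroup G) ⊔ A : Subgroup G) := P.isPGroup'.to_sup_of_normal_right' hA hPn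
    exact le_sup_right.trans (P.is_maximal' h1 le_sup_left).le
  have e1 : (fixedSubgroup σ).relIndex (P : Subgroup G) = (fixedSubgroup σ).relIndex A :=
    relIndex_fixed_of_moved_le h.cop hP hAP hPA
  have e2 : (fixedSubgroup σ).relIndex (S : Subgroup G) = (fixedSubgroup σ).relIndex W :=
    relIndex_fixed_of_moved_le h.cop hS (moved_le hS) le_rfl
  have h1 := h.index_dvd_rel P S
  rw [e1, e2, ← relIndex_fixed_sup hAs (stable_moved hS) hWn hd] at h1
  exact hne (top_le_iff.1 ((h.eq_top_of_index_dvd (hAs.sup (stable_moved hS)) h1).ge.trans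
    (hsup.ge.trans (moved_le hY))))

end GCex

end CfsgLib.HHShultGen
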