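import Mathlib
import Cfsg.Agent.HHShultGen.Split
import Cfsg.Agent.Solvable.PGroupBasic

/-!
The configuration of a largest moved stable `p`-subgroup generating a proper subgroup with `W`: first case, the
centraliser of its normal part in `W` is moved.
-/

set_option autoImplicit false
set_option linter.style.haveILetI false
set_option linter.unusedSectionVars false

namespace CfsgLib.HHShultGen

open Subgroup CfsgLib.HHShult CfsgLib.PQFpf
open scoped commutatorElement

variable {G : Type*} [Group G] [Finite G] {σ : MulAut G} {r p : ℕ}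

/-- A two-element of `A ⊔ W` centralising `A` lies in `W`. -/
theorem mem_right_of_commute [Fact p.Prime] (hp2 : p ≠ 2) {A W : Subgroup G} (hA : IsPGroup p A) (hW : IsPGroup 2 W)
    (hn : W ≤ normalizer (A : Set G)) {x : G} (hx : x ∈ A ⊔ W) (hc : ∀ a ∈ A, Commute x a)
    (hx2 : ∃ j, x ^ 2 ^ j = 1) : x ∈ W := by
  haveI : Fact (Nat.Prime 2) := ⟨Nat.prime_two⟩
  have hx' : x ∈ ((A ⊔ W : Subgroup G) : Set G) := hx
  rw [coe_mul_of_right_le_normalizer_left _ _ hn] at hx'
  obtain ⟨a, ha, w, hw, e⟩ := hx'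
  have e' : w = a⁻¹ * x := by rw [← e]; simp
  obtain ⟨i, hi⟩ := hx2
  obtain ⟨j, hj⟩ := pow_prime_pow_of_mem hW hw
  have h1 : a⁻¹ ^ 2 ^ (i + j) = 1 := by
    have h2 : w ^ 2 ^ (i + j) = 1 := by rw [add_comm, pow_add, pow_mul, hj, one_pow]
    rw [e', (hc a ha).symm.inv_left.mul_pow, pow_add, pow_mul x, hi, one_pow, mul_one, ← pow_add] at h2
    exact h2
  have ha1 : a⁻¹ = 1 := eq_one_of_pow_pow hp2 (pow_prime_pow_of_mem hA (inv_mem ha)) ⟨_, h1⟩
  rw [inv_eq_one] at ha1
  rw [← e, ha1]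
  show (1 : G) * w ∈ W
  rw [one_mul]; exact hw

/-- What normalises `A` and `A ⊔ W` normalises the centraliser of `A` in `W`. -/
theorem mem_normalizer_inf_centralizer [Fact p.Prime] (hp2 : p ≠ 2) {A W : Subgroup G} (hA : IsPGroup p A)
    (hW : IsPGroup 2 W) (hn : W ≤ normalizer (A : Set G)) {g : G} (hgA : g ∈ normalizer (A : Set G))
    (hgM : g ∈ normalizer ((A ⊔ W : Subgroup G) : Set G)) :
    g ∈ normalizer ((W ⊓ centralizer (A : Set G) : Subgroup G) : Set G) := by
  haveI : Fact (Nat.Prime 2) := ⟨Nat.prime_two⟩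
  have key : ∀ d : G, d ∈ normalizer (A : Set G) → d ∈ normalizer ((A ⊔ W : Subgroup G) : Set G) →
      ∀ x ∈ W ⊓ centralizer (A : Set G), d * x * d⁻¹ ∈ W ⊓ centralizer (A : Set G) := by
    intro d hdA hdM x hx
    have hc : ∀ a ∈ A, Commute (d * x * d⁻¹) a := fun a ha => by
      have h1 : d⁻¹ * a * d ∈ A := by simpa using (mem_normalizer_iff.1 (inv_mem hdA) a).1 ha
      have h2 : (d⁻¹ * a * d) * x = x * (d⁻¹ * a * d) := mem_centralizer_iff.1 hx.2 _ h1
      show d * x * d⁻¹ * a = a * (d * x * d⁻¹)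
      calc d * x * d⁻¹ * a = d * (x * (d⁻¹ * a * d)) * d⁻¹ := by group
        _ = d * ((d⁻¹ * a * d) * x) * d⁻¹ := by rw [h2]
        _ = a * (d * x * d⁻¹) := by group
    refine ⟨mem_right_of_commute hp2 hA hW hn ((mem_normalizer_iff.1 hdM x).1 (mem_sup_right hx.1)) hc ?_,
      mem_centralizer_iff.2 fun a ha => (hc a ha).eq.symm⟩
    obtain ⟨j, hj⟩ := pow_prime_pow_of_mem hW hx.1
    exact ⟨j, by rw [conj_pow, hj, mul_one, mul_inv_cancel]⟩
  refine mem_normalizer_iff.2 fun x => ⟨key g hgA hgM x, fun hx => ?_⟩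
  have h2 := key g⁻¹ (inv_mem hgA) (inv_mem hgM) _ hx
  rwa [show g⁻¹ * (g * x * g⁻¹) * g⁻¹⁻¹ = x by group] at h2

theorem mem_normalizer_inf_centralizer_self {T : Subgroup G} {g : G} (hg : g ∈ normalizer (T : Set G)) :
    g ∈ normalizer ((T ⊓ centralizer (T : Set G) : Subgroup G) : Set G) := by
  have key : ∀ d : G, d ∈ normalizer (T : Set G) → ∀ x ∈ T ⊓ centralizer (T : Set G),
      d * x * d⁻¹ ∈ T ⊓ centralizer (T : Set G) := by
    intro d hd x hx
    refine ⟨(mem_normalizer_iff.1 hd x).1 hx.1, mem_centralizer_iff.2 fun t ht => ?_⟩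
    have h1 : d⁻¹ * t * d ∈ T := by simpa using (mem_normalizer_iff.1 (inv_mem hd) t).1 ht
    calc t * (d * x * d⁻¹) = d * ((d⁻¹ * t * d) * x) * d⁻¹ := by group
      _ = d * (x * (d⁻¹ * t * d)) * d⁻¹ := by rw [mem_centralizer_iff.1 hx.2 _ h1]
      _ = d * x * d⁻¹ * t := by group
  refine mem_normalizer_iff.2 fun x => ⟨key g hg x, fun hx => ?_⟩
  have h2 := key g⁻¹ (inv_mem hg) _ hx
  rwa [show g⁻¹ * (g * x * g⁻¹) * g⁻¹⁻¹ = x by group] at h2

theorem mem_normalizer_fixedPart {H : Subgroup G} {c : G} (hc : σ c = c) (hn : c ∈ normalizer (H : Set G)) :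
    c ∈ normalizer (fixedPart σ H : Set G) := by
  refine mem_normalizer_iff.2 fun x => ?_
  refine and_congr (mem_normalizer_iff.1 hn x) ⟨fun hx => ?_, fun hx => ?_⟩
  · show σ (c * x * c⁻¹) = c * x * c⁻¹
    rw [map_mul, map_mul, map_inv, hc, show σ x = x from hx]
  · have h1 : σ (c * x * c⁻¹) = c * x * c⁻¹ := hx
    rw [map_mul, map_mul, map_inv, hc] at h1
    exact mul_left_cancel (mul_right_cancel h1)

theorem commute_of_mem_centralizer {H : Subgroup G} {x a : G} (hx : x ∈ centralizer (H : Set G)) (ha : a ∈ H) :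
    Commute x a := (mem_centralizer_iff.1 hx a ha).symm

theorem fixedPart_ne_bot {q : ℕ} {W : Subgroup G} (hM : MovedGroup σ r q W) (hW : W ≠ ⊥) :
    fixedPart σ W ≠ ⊥ := by
  intro e
  refine hW ?_
  rw [← hM.mvd, moved_eq_bot]
  refine fun x hx => hM.central_fixed hx fun w hw => ?_
  rw [← commutatorElement_eq_one_iff_mul_comm, ← Subgroup.mem_bot, ← e]
  exact hM.comm_mem_fixedPart hx hw

variable {k : Type*} [Field k] {V : Type*} [AddCommGroup V] [Module k V]

/-- The configuration of a largest moved stable `p`-subgroup `T` generating a proper subgroup with `W`. -/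
structure Crux (σ : MulAut G) (r p : ℕ) (ρ : G →* Module.End k V) (φ : Module.End k V) (W T A : Subgroup G) :
    Prop where
  gcex : GCex σ r p ρ φ
  wmg : MovedGroup σ r 2 W
  conjW : ∀ Q : Subgroup G, IsPGroup 2 Q → Stable σ Q →
    ∃ c : G, σ c = c ∧ moved σ Q ≤ W.map (MulAut.conj c).toMonoidHom
  tp : IsPGroup p T
  ts : Stable σ T
  tmoved : moved σ T ≠ ⊥
  tW : T ⊔ W ≠ ⊤
  tmax : ∀ T' : Subgroup G, IsPGroup p T' → Stable σ T' → moved σ T' ≠ ⊥ → T' ⊔ W ≠ ⊤ → Nat.card T' ≤ Nat.card T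
  apg : IsPGroup p A
  as : Stable σ A
  aT : A ≤ T
  tA : T ≤ normalizer (A : Set G)
  wA : W ≤ normalizer (A : Set G)
  movedT : moved σ T ≤ A
  normA : ∀ g ∈ normalizer (A : Set G), g ∈ normalizer ((A ⊔ W : Subgroup G) : Set G)
  up : ∃ R : Subgroup G, IsPGroup p R ∧ Stable σ R ∧ T < R ∧ R ≤ normalizer (T : Set G)

/-- The centraliser of `A` in `W`. -/
def wzero (W A : Subgroup G) : Subgroup G := W ⊓ centralizer (A : Set G)

namespace Crux

variable [hp' : Fact p.Prime] [CharP k p] [IsAlgClosed k] [FiniteDimensional k V]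
variable {ρ : G →* Module.End k V} {φ : Module.End k V} {W T A : Subgroup G} (c : Crux σ r p ρ φ W T A)
include c

theorem wzero_two : IsPGroup 2 (wzero W A) := c.wmg.isP.to_le inf_le_left

theorem stable_wzero : Stable σ (wzero W A) :=
  c.wmg.stable.inf (Stable.centralizer fun _ hy z hz => c.as.mem_iff.1 (show σ z ∈ A from hz ▸ hy))

theorem wone_le : moved σ (wzero W A) ≤ wzero W A := moved_le c.stable_wzero

theorem wone_movedGroup : MovedGroup σ r 2 (moved σ (wzero W A)) := by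
  haveI : Fact (Nat.Prime 2) := ⟨Nat.prime_two⟩
  exact c.gcex.toBase.movedGroup c.gcex.toBase.two_ne c.wzero_two c.stable_wzero

theorem commute_wone {w a : G} (hw : w ∈ moved σ (wzero W A)) (ha : a ∈ A) : Commute w a :=
  commute_of_mem_centralizer (c.wone_le hw).2 ha

theorem normalizer_le_wzero {g : G} (hg : g ∈ normalizer (A : Set G)) :
    g ∈ normalizer (wzero W A : Set G) :=
  mem_normalizer_inf_centralizer c.gcex.toBase.hp c.apg c.wmg.isP c.wA hg (c.normA g hg)

/-- A stable `p`-subgroup centralised by moved elements of `W` centralising `A` has no normalising `p`-subgroup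
larger than `T`. -/
theorem tool {X R' W2 : Subgroup G} (hX : IsPGroup p X) (hXs : Stable σ X) (hX1 : X ≠ ⊥) (hR : IsPGroup p R')
    (hRs : Stable σ R') (hTR : T < R') (hRX : R' ≤ normalizer (X : Set G)) (hW2 : W2 ≤ moved σ (wzero W A))
    (hW2s : Stable σ W2) (hW2m : moved σ W2 = W2) (hW21 : W2 ≠ ⊥) (hcomm : ∀ w ∈ W2, ∀ x ∈ X, Commute w x) :
    False := by
  haveI : Fact (Nat.Prime 2) := ⟨Nat.prime_two⟩
  have hg := c.gcex
  have hp2 : p ≠ 2 := hg.toBase.hp
  set N := normalizer (X : Set G)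
  have hN : N ≠ ⊤ := fun e => by
    haveI : X.Normal := normalizer_eq_top_iff.1 e
    exact hX1 (hg.toBase.eq_bot_of_normal hX hXs)
  have hNs : Stable σ N := hXs.normalizer
  have hW2N : W2 ≤ N := fun w hw => mem_normalizer_iff.2 fun x => by
    refine ⟨fun hx => ?_, fun hx => ?_⟩
    · rwa [(hcomm w hw x hx).eq, mul_inv_cancel_right]
    · have h1 := (hcomm w hw _ hx).eq
      rw [show w * (w * x * w⁻¹) = (w * x * w⁻¹) * w ↔ w * x * w⁻¹ = x from
        ⟨fun e => by
          calc w * x * w⁻¹ = w⁻¹ * (w * (w * x * w⁻¹)) := by group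
            _ = w⁻¹ * (w * x * w⁻¹ * w) := by rw [e]
            _ = x := by group,
        fun e => by rw [e, ← mul_inv_eq_iff_eq_mul]; exact e⟩] at h1
      rwa [h1] at hx
  have hW22 : IsPGroup 2 W2 := c.wzero_two.to_le (hW2.trans c.wone_le)
  obtain ⟨A', S', hA', hA's, hS', hS's, hS'm, hW2S, hS'n, hsup, hA'n, hall⟩ :=
    hg.exists_split hNs hN hW22 hW2s (hW2m.ge.trans (moved_mono hW2N)) hW2m
  have hRA' : R' ≤ normalizer (A' : Set G) := fun g hgR => hA'n g (le_normalizer_moved hNs (hRX hgR))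
  have hTA' : T ≤ normalizer (A' : Set G) := hTR.le.trans hRA'
  -- `W2` centralises `A'`
  have hcA' : ∀ w ∈ W2, ∀ y ∈ A', Commute w y := by
    intro w hw y hy
    have hwS := hW2S hw
    have hB : IsPGroup p (A ⊔ A' : Subgroup G) := c.apg.to_sup_of_normal_right' hA' (c.aT.trans hTA')
    have hwc : ∀ a ∈ A, Commute w a := fun a ha => c.commute_wone (hW2 hw) ha
    have hwB : w ∈ normalizer ((A ⊔ A' : Subgroup G) : Set G) :=
      mem_normalizer_sup (c.wA (c.wone_le (hW2 hw)).1) (hS'n hwS)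
    refine commute_of_self_centralizing (D := (A ⊔ A') ⊓ normalizer (A : Set G)) hB
      (fun x hx => (mem_normalizer_iff.1 hwB x).1 hx) ?_ inf_le_left ?_ ?_ y (mem_sup_right hy)
    · intro hd
      obtain ⟨j, hj⟩ := pow_prime_pow_of_mem hW22 hw
      exact hp2 ((Nat.prime_dvd_prime_iff_eq hp'.out Nat.prime_two).1
        (hp'.out.dvd_of_dvd_pow (hd.trans (orderOf_dvd_of_pow_eq_one hj))))
    · intro d hd
      have hd' : d ∈ ((A ⊔ A' : Subgroup G) : Set G) := hd.1
      rw [coe_mul_of_left_le_normalizer_right _ _ (c.aT.trans hTA')] at hd'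
      obtain ⟨a, ha, a', ha', rfl⟩ := hd'
      have ha'n : a' ∈ normalizer (A : Set G) := by
        have := mul_mem (inv_mem (le_normalizer ha)) hd.2
        rwa [inv_mul_cancel_left] at this
      refine (hwc a ha).mul_right ?_
      have h1 : a' * w * a'⁻¹ * w⁻¹ ∈ W :=
        mul_mem ((mem_normalizer_iff.1 (c.normalizer_le_wzero ha'n) w).1 (c.wone_le (hW2 hw))).1
          (inv_mem (c.wone_le (hW2 hw)).1)
      have h2 : a' * w * a'⁻¹ * w⁻¹ ∈ A' := by
        rw [show a' * w * a'⁻¹ * w⁻¹ = a' * (w * a'⁻¹ * w⁻¹) by group]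
        exact mul_mem ha' ((mem_normalizer_iff.1 (hS'n hwS) _).1 (inv_mem ha'))
      exact (commutatorElement_eq_one_iff_mul_comm.1
        (inf_eq_bot_of_isPGroup hp2 hA' c.wmg.isP h2 h1)).symm
    · intro x hx hxD
      refine ⟨hx, mem_normalizer_iff.2 fun a => ⟨fun ha => ?_, fun ha => ?_⟩⟩
      · rwa [(hxD a ⟨mem_sup_left ha, le_normalizer ha⟩).eq, mul_inv_cancel_right]
      · have h1 := (hxD _ ⟨mem_sup_left ha, le_normalizer ha⟩).eq
        have e : x * a * x⁻¹ = a := by
          calc x * a * x⁻¹ = x⁻¹ * (x * (x * a * x⁻¹)) := by group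
            _ = x⁻¹ * (x * a * x⁻¹ * x) := by rw [h1]
            _ = a := by group
        rwa [e] at ha
  set S0 := S' ⊓ centralizer (A' : Set G)
  have hS0s : Stable σ S0 :=
    hS's.inf (Stable.centralizer fun _ hy z hz => hA's.mem_iff.1 (show σ z ∈ A' from hz ▸ hy))
  have hW2S0 : W2 ≤ S0 := fun w hw => ⟨hW2S hw, mem_centralizer_iff.2 fun y hy => ((hcA' w hw y hy).eq).symm⟩
  set U0 := fixedPart σ S0
  -- normalisers of `U0`
  have hRU : R' ≤ normalizer (U0 : Set G) := by
    intro g hgR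
    obtain ⟨e, heR, he, heg⟩ := hg.cop.exists_fixed_mul hRs hgR
    have h1 : e ∈ normalizer (U0 : Set G) := by
      refine mem_normalizer_fixedPart he (mem_normalizer_inf_centralizer hp2 hA' hS' hS'n (hRA' heR) ?_)
      rw [← hsup]; exact le_normalizer_moved hNs (hRX heR)
    have h2 : e⁻¹ * g ∈ A' := hall _ (moved_mono hRX heg) (pow_prime_pow_of_mem hR (moved_le hRs heg))
    have h3 : e⁻¹ * g ∈ normalizer (U0 : Set G) := mem_normalizer_iff.2 fun u => by
      refine ⟨fun hu => ?_, fun hu => ?_⟩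
      · rwa [(commute_of_mem_centralizer hu.1.2 h2).symm.eq, mul_inv_cancel_right]
      · have h4 : Commute (e⁻¹ * g) (e⁻¹ * g * u * (e⁻¹ * g)⁻¹) := (commute_of_mem_centralizer hu.1.2 h2).symm
        have h5 : e⁻¹ * g * u * (e⁻¹ * g)⁻¹ = u := by
          calc e⁻¹ * g * u * (e⁻¹ * g)⁻¹ = (e⁻¹ * g)⁻¹ * ((e⁻¹ * g) * (e⁻¹ * g * u * (e⁻¹ * g)⁻¹)) := by group
            _ = (e⁻¹ * g)⁻¹ * ((e⁻¹ * g * u * (e⁻¹ * g)⁻¹) * (e⁻¹ * g)) := by rw [h4.eq]
            _ = u := by group
        rwa [h5] at hu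
    have h4 := mul_mem h1 h3
    rwa [mul_inv_cancel_left] at h4
  obtain ⟨e, he, hle⟩ := c.conjW S' hS' hS's
  rw [hS'm] at hle
  have hWU : W.map (MulAut.conj e).toMonoidHom ≤ normalizer (U0 : Set G) := by
    refine le_trans (fun x hx => mem_centralizer_iff.2 fun u hu => ?_) (centralizer_le_normalizer (U0 : Set G))
    obtain ⟨w, hw, rfl⟩ := hx
    obtain ⟨v, hv, hvu⟩ := hle hu.1.1
    have hvu' : e * v * e⁻¹ = u := hvu
    have hvf : σ v = v := by
      have h1 : σ u = u := hu.2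
      rw [← hvu', map_mul, map_mul, map_inv, he] at h1
      exact mul_left_cancel (mul_right_cancel h1)
    show u * (e * w * e⁻¹) = e * w * e⁻¹ * u
    rw [← hvu']
    calc e * v * e⁻¹ * (e * w * e⁻¹) = e * (v * w) * e⁻¹ := by group
      _ = e * (w * v) * e⁻¹ := by rw [c.wmg.fixed_central hv hvf hw]
      _ = e * w * e⁻¹ * (e * v * e⁻¹) := by group
  have hU0top : normalizer (U0 : Set G) = ⊤ := by
    by_contra hne
    have he' : σ e⁻¹ = e⁻¹ := by rw [map_inv, he]
    set R'' := R'.map (MulAut.conj e⁻¹).toMonoidHom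
    have hback : R''.map (MulAut.conj e).toMonoidHom = R' := by
      rw [Subgroup.map_map]
      have : ((MulAut.conj e).toMonoidHom.comp (MulAut.conj e⁻¹).toMonoidHom) = MonoidHom.id G :=
        MonoidHom.ext fun x => show e * (e⁻¹ * x * e⁻¹⁻¹) * e⁻¹ = x by group
      rw [this, Subgroup.map_id]
    have hlt : Nat.card T < Nat.card R'' := by
      rw [card_map_of_injective (MulAut.conj e⁻¹).injective]
      exact Solvable.card_lt_of_lt hTR
    refine absurd (c.tmax R'' (hR.map _) (stable_conj hRs he') ?_ ?_) (not_le.2 hlt)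
    · intro hb
      refine c.tmoved (moved_eq_bot.2 fun x hx => ?_)
      have h1 := (moved_eq_bot.1 hb) (e⁻¹ * x * e⁻¹⁻¹) ⟨x, hTR.le hx, rfl⟩
      rw [map_mul, map_mul, inv_inv, he', he] at h1
      exact mul_left_cancel (mul_right_cancel h1)
    · intro htop
      refine hne (top_le_iff.1 ?_)
      have h1 := congrArg (Subgroup.map (MulAut.conj e).toMonoidHom) htop
      rw [Subgroup.map_sup, hback, Subgroup.map_top_of_surjective _ (MulAut.conj e).surjective] at h1
      rw [← h1]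
      exact sup_le hRU hWU
  haveI : U0.Normal := normalizer_eq_top_iff.1 hU0top
  have hUc : U0 ≤ center G := hg.commute_of_fixed_normal fun x hx => hx.2
  have hW2mg : MovedGroup σ r 2 W2 := hW2m ▸ hg.toBase.movedGroup hg.toBase.two_ne hW22 hW2s
  set U2 := fixedPart σ W2
  have hU2 : U2 ≤ center G := fun u hu => hUc ⟨hW2S0 hu.1, hu.2⟩
  -- no vector is fixed by `U2`
  let E : Submodule k V :=
    { carrier := {v | ∀ u ∈ U2, ρ u v = v}
      add_mem' := fun {a b} ha hb u hu => by rw [map_add, ha u hu, hb u hu]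
      zero_mem' := fun u _ => map_zero _
      smul_mem' := fun t v hv u hu => by rw [map_smul, hv u hu] }
  have hE : E = ⊥ := by
    refine (hg.toBase.irr E (fun x v hv u hu => ?_) (fun v hv u hu => ?_)).resolve_right fun etop => ?_
    · rw [← Module.End.mul_apply, ← map_mul, ← mem_center_iff.1 (hU2 hu) x, map_mul, Module.End.mul_apply, hv u hu]
    · have h1 := LinearMap.congr_fun (hg.toBase.ff.compat u) v
      rw [Module.End.mul_apply, Module.End.mul_apply, hu.2, hv u hu] at h1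
      exact h1.symm
    · refine fixedPart_ne_bot hW2mg hW21 ((Subgroup.eq_bot_iff_forall _).2 fun u hu => hg.toBase.inj ?_)
      rw [map_one]
      exact LinearMap.ext fun v => (show v ∈ E by rw [etop]; exact Submodule.mem_top) u hu
  have h1 := c.wone_movedGroup
  have h2k := hg.two_cast_ne_zero
  have hAfix : ∀ x ∈ A, σ x = x := by
    intro x hx
    have hL : ρ (x⁻¹ * σ x) - 1 = 0 := ext_weightSpace h1 h2k _ fun χ v hv => by
      rw [LinearMap.sub_apply, Module.End.one_apply, sub_eq_zero]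
      by_cases hχ : χ = 1
      · subst hχ
        have hv0 : v ∈ E := fun u hu => by
          rw [hv u ⟨hW2 hu.1, hu.2⟩, ev_apply _ (⟨hW2 hu.1, hu.2⟩ : u ∈ fixedPart σ (moved σ (wzero W A))),
            MonoidHom.one_apply, Units.val_one, one_smul]
        rw [hE, Submodule.mem_bot] at hv0
        rw [hv0, map_zero]
      · exact apply_displacement_eq h1 hg.toBase.ff h2k hχ (fun w hw => ((c.commute_wone hw hx).symm).eq) hv
    have h3 : x⁻¹ * σ x = 1 := hg.toBase.inj (by rw [map_one]; exact sub_eq_zero.1 hL)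
    exact (inv_mul_eq_one.1 h3).symm
  refine c.tmoved ?_
  rw [← hg.cop.moved_moved c.ts, moved_eq_bot]
  exact fun x hx => hAfix x (c.movedT hx)

end Crux

end CfsgLib.HHShultGen
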