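import Mathlib
import Cfsg.Agent.HHShultGen.Crux

/-!
The first case of the crux: the centraliser of `A` in `W` is moved.
-/

set_option autoImplicit false
set_option linter.style.haveILetI false
set_option linter.unusedSectionVars false

namespace CfsgLib.HHShultGen

open Subgroup CfsgLib.HHShult CfsgLib.PQFpf
open scoped commutatorElement

variable {G : Type*} [Group G] [Finite G] {σ : MulAut G} {r p : ℕ}
variable {k : Type*} [Field k] {V : Type*} [AddCommGroup V] [Module k V]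
variable {ρ : G →* Module.End k V} {φ : Module.End k V}

theorem pow_apply_map (F : FixFree σ r ρ φ) (g : G) (n : ℕ) (v : V) :
    (φ ^ n) (ρ g v) = ρ ((σ ^ n) g) ((φ ^ n) v) := by
  induction n with
  | zero => rfl
  | succ n ih =>
    rw [pow_succ' φ, Module.End.mul_apply, ih, ← Module.End.mul_apply, F.compat, Module.End.mul_apply, pow_succ',
      MulAut.mul_apply, Module.End.mul_apply]

theorem pow_op_mapsTo {W : Subgroup G} (h : MovedGroup σ r 2 W) (F : FixFree σ r ρ φ) {χ : fixedPart σ W →* kˣ}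
    {v : V} (hv : v ∈ weightSpace ρ χ) (n : ℕ) : (φ ^ n) v ∈ weightSpace ρ χ := by
  induction n with
  | zero => exact hv
  | succ n ih => rw [pow_succ', Module.End.mul_apply]; exact h.op_mapsTo F χ _ ih

/-- A sum over a `p`-group of operators at a vector fixed by one non-trivial element vanishes. -/
theorem sum_apply_eq_zero [CharP k p] {D : Subgroup G} [Fintype D] {d : G} (hd : d ∈ D)
    (hdp : p ∣ orderOf d) {z : V} (hz : ρ d z = z) : ∑ δ : D, ρ (δ : G) z = 0 := by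
  classical
  let H : Subgroup D := zpowers (⟨d, hd⟩ : D)
  haveI : Fintype H := Fintype.ofFinite _
  haveI : Fintype (D ⧸ H) := Fintype.ofFinite _
  have hH : ∀ h : H, ρ ((h : D) : G) z = z := by
    rintro ⟨x, hx⟩
    obtain ⟨n, hn⟩ := (Submonoid.mem_powers_iff _ _).1 (mem_powers_iff_mem_zpowers.2 hx)
    subst hn
    show ρ (((⟨d, hd⟩ : D) ^ n : D) : G) z = z
    rw [SubmonoidClass.coe_pow]
    clear hx
    induction n with
    | zero => rw [pow_zero, map_one]; rfl
    | succ n ih => rw [pow_succ, map_mul, Module.End.mul_apply, hz]; exact ih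
  have e : ∑ δ : D, ρ (δ : G) z = ∑ x : (D ⧸ H) × H, ρ ((x.1.out * x.2 : D) : G) z := by
    refine (Fintype.sum_bijective (fun x : (D ⧸ H) × H => x.1.out * (x.2 : D)) ⟨fun a b e => ?_, fun y => ?_⟩ _ _
      fun x => rfl).symm
    · have e1 : a.1 = b.1 := by
        have h2 := congrArg (QuotientGroup.mk : D → D ⧸ H) e
        simp only at h2
        rwa [QuotientGroup.mk_mul_of_mem _ a.2.2, QuotientGroup.mk_mul_of_mem _ b.2.2, QuotientGroup.out_eq',
          QuotientGroup.out_eq'] at h2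
      simp only [e1, mul_right_inj] at e
      exact Prod.ext e1 (Subtype.ext e)
    · obtain ⟨h, hh⟩ := QuotientGroup.mk_out_eq_mul H y
      exact ⟨((y : D ⧸ H), h⁻¹), by
        show (y : D ⧸ H).out * ((h⁻¹ : H) : D) = y
        rw [hh, InvMemClass.coe_inv, mul_inv_cancel_right]⟩
  rw [e, Fintype.sum_prod_type]
  refine Finset.sum_eq_zero fun q _ => ?_
  have hterm : ∀ h : H, ρ ((q.out * h : D) : G) z = ρ ((q.out : D) : G) z := fun h => by
    rw [Subgroup.coe_mul, map_mul, Module.End.mul_apply, hH]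
  rw [Finset.sum_congr rfl fun h _ => hterm h, Finset.sum_const, Finset.card_univ, ← Nat.card_eq_fintype_card,
    ← Nat.cast_smul_eq_nsmul k, show Nat.card H = orderOf d by rw [Nat.card_zpowers, Subgroup.orderOf_mk],
    (CharP.cast_eq_zero_iff k p _).2 hdp, zero_smul]

namespace Crux

variable [hp' : Fact p.Prime] [CharP k p] [IsAlgClosed k] [FiniteDimensional k V]
variable {W T A : Subgroup G} (c : Crux σ r p ρ φ W T A)
include c

theorem caseOne (hW1 : moved σ (wzero W A) ≠ ⊥) : False := by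
  classical
  haveI : Fact (Nat.Prime 2) := ⟨Nat.prime_two⟩
  have hg := c.gcex
  have hp2 : p ≠ 2 := hg.toBase.hp
  obtain ⟨R, hRp, hRs, hTR, hRn⟩ := c.up
  set W1 := moved σ (wzero W A)
  have hW1mg : MovedGroup σ r 2 W1 := c.wone_movedGroup
  have hRT : ¬ moved σ R ≤ T := by
    intro hle
    refine c.tool (c.tp.to_le (moved_le c.ts)) (stable_moved c.ts) c.tmoved hRp hRs hTR (fun g hgR => ?_) le_rfl
      hW1mg.stable hW1mg.mvd hW1 fun w hw x hx => c.commute_wone hw (c.movedT hx)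
    obtain ⟨e, heR, he, heg⟩ := hg.cop.exists_fixed_mul hRs hgR
    have h1 := mul_mem (conj_mem_of_fixed he (hRn heR)) (le_normalizer_moved c.ts (hle heg))
    rwa [mul_inv_cancel_left] at h1
  set R' := T ⊔ moved σ R
  have hR'R : R' ≤ R := sup_le hTR.le (moved_le hRs)
  have hR'p : IsPGroup p R' := hRp.to_le hR'R
  have hR's : Stable σ R' := c.ts.sup (stable_moved hRs)
  have hTR' : T < R' := lt_of_le_of_ne le_sup_left fun e => hRT (e ▸ le_sup_right)
  have hmR : moved σ R ≤ moved σ R' := (hg.cop.moved_moved hRs).ge.trans (moved_mono le_sup_right)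
  set D0 := T ⊓ centralizer (R' : Set G)
  have hD0s : Stable σ D0 :=
    c.ts.inf (Stable.centralizer fun _ hy z hz => hR's.mem_iff.1 (show σ z ∈ R' from hz ▸ hy))
  have hD0A : D0 ⊓ A = ⊥ := by
    by_contra hne
    refine c.tool (c.apg.to_le inf_le_right) (hD0s.inf c.as) hne hR'p hR's hTR' (fun g hgR => ?_) le_rfl
      hW1mg.stable hW1mg.mvd hW1 fun w hw x hx => c.commute_wone hw hx.2
    refine centralizer_le_normalizer _ (mem_centralizer_iff.2 fun x hx => ?_)
    exact (mem_centralizer_iff.1 hx.1.2 g hgR).symm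
  have hD0fix : ∀ x ∈ D0, σ x = x := by
    refine moved_eq_bot.1 (le_bot_iff.1 ?_)
    rw [← hD0A]
    exact le_inf (moved_le hD0s) ((moved_mono inf_le_left).trans c.movedT)
  have hD0c : ∀ x ∈ D0, ∀ y ∈ R', Commute x y := fun x hx y hy => commute_of_mem_centralizer hx.2 hy
  -- the centre of `T`
  set Z := T ⊓ centralizer (T : Set G)
  have hZs : Stable σ Z :=
    c.ts.inf (Stable.centralizer fun _ hy z hz => c.ts.mem_iff.1 (show σ z ∈ T from hz ▸ hy))
  have hD0Z : D0 ≤ Z := fun x hx =>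
    ⟨hx.1, mem_centralizer_iff.2 fun t ht => mem_centralizer_iff.1 hx.2 t (mem_sup_left ht)⟩
  have hRZ : R ≤ normalizer (Z : Set G) := fun g hgR => mem_normalizer_inf_centralizer_self (hRn hgR)
  have hZA : Z ⊓ A ≠ ⊥ := by
    haveI := c.tp.isNilpotent
    haveI : (A.subgroupOf T).Normal := (normal_subgroupOf_iff_le_normalizer c.aT).2 c.tA
    have hne : A.subgroupOf T ≠ ⊥ := fun e => c.tmoved (le_bot_iff.1 (c.movedT.trans (by
      intro x hx
      have : (⟨x, c.aT hx⟩ : T) ∈ A.subgroupOf T := hx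
      rw [e, Subgroup.mem_bot] at this
      exact Subgroup.mem_bot.2 (congrArg Subtype.val this))))
    intro e
    refine CfsgLib.PGroupBasic.inf_center_ne_bot (A.subgroupOf T) hne ((Subgroup.eq_bot_iff_forall _).2 ?_)
    rintro ⟨x, hxT⟩ ⟨hxA, hxc⟩
    have hx : x ∈ Z ⊓ A := ⟨⟨hxT, mem_centralizer_iff.2 fun t ht =>
      congrArg Subtype.val (mem_center_iff.1 hxc ⟨t, ht⟩)⟩, hxA⟩
    rw [e, Subgroup.mem_bot] at hx
    exact Subtype.ext hx
  let D2 : Subgroup G :=
    { carrier := {x | x ∈ Z ∧ ∀ y ∈ R', ⁅x, y⁆ ∈ D0}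
      one_mem' := ⟨Z.one_mem, fun y _ => by rw [commutatorElement_one_left]; exact D0.one_mem⟩
      mul_mem' := fun {a b} ha hb => ⟨Z.mul_mem ha.1 hb.1, fun y hy => by
        rw [show ⁅a * b, y⁆ = a * ⁅b, y⁆ * a⁻¹ * ⁅a, y⁆ by simp only [commutatorElement_def]; group,
          ← (hD0c _ (hb.2 y hy) a (mem_sup_left ha.1.1)).eq, mul_inv_cancel_right]
        exact D0.mul_mem (hb.2 y hy) (ha.2 y hy)⟩
      inv_mem' := fun {a} ha => ⟨Z.inv_mem ha.1, fun y hy => by
        rw [show ⁅a⁻¹, y⁆ = a⁻¹ * ⁅a, y⁆⁻¹ * a by simp only [commutatorElement_def]; group,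
          ← ((hD0c _ (ha.2 y hy) a (mem_sup_left ha.1.1)).inv_inv).eq, inv_mul_cancel_right]
        exact D0.inv_mem (ha.2 y hy)⟩ }
  have hD2s : Stable σ D2 := fun x hx => ⟨hZs x hx.1, fun y hy => by
    obtain ⟨y, rfl⟩ := σ.surjective y
    rw [← map_commutatorElement]
    exact hD0s _ (hx.2 y (hR's.mem_iff.1 hy))⟩
  obtain ⟨x0, hx0, hx0D⟩ : ∃ x ∈ D2, x ∉ D0 := by
    obtain ⟨z, hz, hzD⟩ : ∃ z ∈ Z, z ∉ D0 := by
      by_contra hno
      push Not at hno
      refine hZA (le_bot_iff.1 ?_)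
      rw [← hD0A]
      exact inf_le_inf_right A hno
    haveI := hR'p.isNilpotent
    obtain ⟨n, hn⟩ := Group.IsNilpotent.nilpotent' (G := R')
    have hex : ∃ j, ∃ x : R', x ∈ Subgroup.upperCentralSeries R' j ∧ (x : G) ∈ Z ∧ (x : G) ∉ D0 :=
      ⟨n, ⟨z, mem_sup_left hz.1⟩, by rw [hn]; exact mem_top _, hz, hzD⟩
    obtain ⟨x, hxj, hxZ, hxD⟩ := Nat.find_spec hex
    refine ⟨x, ⟨hxZ, fun y hy => ?_⟩, hxD⟩
    obtain ⟨j, hj⟩ : ∃ j, Nat.find hex = j + 1 := ⟨Nat.find hex - 1, by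
      have : Nat.find hex ≠ 0 := fun e => by
        rw [e, Subgroup.upperCentralSeries_zero, Subgroup.mem_bot] at hxj
        exact hxD (by rw [hxj]; exact D0.one_mem)
      omega⟩
    rw [hj] at hxj
    have h1 := Subgroup.mem_upperCentralSeries_succ_iff.1 hxj ⟨y, hy⟩
    have hZ : ⁅(x : G), y⁆ ∈ Z := by
      rw [show ⁅(x : G), y⁆ = (x : G) * (y * (x : G)⁻¹ * y⁻¹) by simp only [commutatorElement_def]; group]
      exact Z.mul_mem hxZ ((mem_normalizer_iff.1 (hRZ (hR'R hy)) _).1 (Z.inv_mem hxZ))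
    by_contra hno
    exact Nat.find_min hex (show j < Nat.find hex by omega)
      ⟨x * ⟨y, hy⟩ * x⁻¹ * (⟨y, hy⟩ : R')⁻¹, h1, hZ, hno⟩
  set E := moved σ D2 with hEdef
  have hED2 : E ≤ D2 := moved_le hD2s
  have hEA : E ≤ A := (moved_mono (show D2 ≤ T from fun x hx => hx.1.1)).trans c.movedT
  have hEm : moved σ E = E := hg.cop.moved_moved hD2s
  have hEs : Stable σ E := stable_moved hD2s
  obtain ⟨ε0, hε0, hε0ne⟩ : ∃ ε ∈ E, ε ≠ 1 := by
    by_contra hno
    push Not at hno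
    have hfix : ∀ x ∈ D2, σ x = x := moved_eq_bot.1 ((Subgroup.eq_bot_iff_forall _).2 hno)
    refine hx0D ⟨hx0.1.1, mem_centralizer_iff.2 fun y hy => ?_⟩
    have hmem : ∀ g ∈ R', ∀ x ∈ D2, g * x * g⁻¹ ∈ D2 := fun g hgR x hx => by
      rw [show g * x * g⁻¹ = ⁅x, g⁆⁻¹ * x by simp only [commutatorElement_def]; group]
      exact D2.mul_mem (D2.inv_mem ⟨hD0Z (hx.2 g hgR), fun y hy => by
        rw [commutatorElement_eq_one_iff_mul_comm.2 (hD0c _ (hx.2 g hgR) y hy).eq]; exact D0.one_mem⟩) hx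
    have hn : R' ≤ normalizer (D2 : Set G) := fun g hgR => mem_normalizer_iff.2 fun x =>
      ⟨hmem g hgR x, fun hx => by
        have h2 := hmem g⁻¹ (inv_mem hgR) _ hx
        rwa [show g⁻¹ * (g * x * g⁻¹) * g⁻¹⁻¹ = x by group] at h2⟩
    have hle : R' ≤ centralizer ({x0} : Set G) := sup_le
      (fun t ht => mem_centralizer_singleton_iff.2 (mem_centralizer_iff.1 hx0.1.2 t ht))
      fun t ht => mem_centralizer_singleton_iff.2 (commute_of_normalized hfix hn (hmR ht) hx0).symm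
    exact mem_centralizer_singleton_iff.1 (hle hy)
  have hεD : ε0 ∉ D0 := fun hD => hε0ne (by
    have : ε0 ∈ D0 ⊓ A := ⟨hD, hEA hε0⟩
    rwa [hD0A, Subgroup.mem_bot] at this)
  obtain ⟨y, hyR, hy⟩ : ∃ y ∈ R', ⁅ε0, y⁆ ≠ 1 := by
    by_contra hno
    push Not at hno
    exact hεD ⟨(hED2 hε0).1.1, mem_centralizer_iff.2 fun y hy =>
      (commutatorElement_eq_one_iff_mul_comm.1 (hno y hy)).symm⟩
  have hη : ∀ i, (y⁻¹ * (σ ^ i) y) ∈ R' := fun i => mul_mem (inv_mem hyR) (hR's.pow_mem i hyR)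
  -- no power of `σ` outside the identity centralises
  have hcom : ∀ i, 0 < i → i < r → ∃ ε ∈ E, ¬ Commute ε (y⁻¹ * (σ ^ i) y) := by
    intro i hi0 hir
    by_contra hno
    push Not at hno
    let K : Subgroup G :=
      { carrier := {v | v ∈ E ∧ Commute v y}
        one_mem' := ⟨E.one_mem, Commute.one_left y⟩
        mul_mem' := fun {a b} ha hb => ⟨E.mul_mem ha.1 hb.1, ha.2.mul_left hb.2⟩
        inv_mem' := fun {a} ha => ⟨E.inv_mem ha.1, ha.2.inv_left⟩ }
    have h1 : ∀ e ∈ E, e⁻¹ * (σ ^ i) e ∈ K := by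
      intro e he
      refine ⟨mul_mem (inv_mem he) (hEs.pow_mem i he), ?_⟩
      set f := (σ ^ i) e
      have hf : f ∈ E := hEs.pow_mem i he
      have h2 : f * (σ ^ i) y * f⁻¹ * ((σ ^ i) y)⁻¹ = e * y * e⁻¹ * y⁻¹ := by
        have h3 : (σ ^ i) ⁅e, y⁆ = ⁅e, y⁆ := pow_apply_fixed (hD0fix _ ((hED2 he).2 y hyR)) i
        rw [map_commutatorElement, commutatorElement_def, commutatorElement_def] at h3
        exact h3
      have h4 : f * (σ ^ i) y * f⁻¹ * ((σ ^ i) y)⁻¹ = f * y * f⁻¹ * y⁻¹ := by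
        have hc := (hno f hf).eq
        calc f * (σ ^ i) y * f⁻¹ * ((σ ^ i) y)⁻¹
            = f * y * ((y⁻¹ * (σ ^ i) y) * f⁻¹) * ((σ ^ i) y)⁻¹ := by group
          _ = f * y * (f⁻¹ * (f * (y⁻¹ * (σ ^ i) y)) * f⁻¹) * ((σ ^ i) y)⁻¹ := by group
          _ = f * y * (f⁻¹ * ((y⁻¹ * (σ ^ i) y) * f) * f⁻¹) * ((σ ^ i) y)⁻¹ := by rw [hc]
          _ = f * y * f⁻¹ * y⁻¹ := by group
      rw [h4] at h2
      have h5 : f * y * f⁻¹ = e * y * e⁻¹ := mul_right_cancel h2
      show e⁻¹ * f * y = y * (e⁻¹ * f)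
      calc e⁻¹ * f * y = e⁻¹ * (f * y * f⁻¹) * f := by group
        _ = e⁻¹ * (e * y * e⁻¹) * f := by rw [h5]
        _ = y * (e⁻¹ * f) := by group
    have h2 : ∀ n, ∀ e ∈ E, e⁻¹ * (σ ^ (i * n)) e ∈ K := by
      intro n
      induction n with
      | zero => intro e he; simp
      | succ n ih =>
        intro e he
        rw [Nat.mul_succ, pow_add, MulAut.mul_apply]
        have := mul_mem (h1 e he) (ih _ (hEs.pow_mem i he))
        rwa [show e⁻¹ * (σ ^ i) e * (((σ ^ i) e)⁻¹ * (σ ^ (i * n)) ((σ ^ i) e)) =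
          e⁻¹ * (σ ^ (i * n)) ((σ ^ i) e) by group] at this
    have hc : Nat.gcd i r = 1 :=
      Nat.Coprime.symm (hg.cop.prime.coprime_iff_not_dvd.2 (Nat.not_dvd_of_pos_of_lt hi0 hir))
    obtain ⟨t, -, ht⟩ := Nat.exists_mul_mod_eq_gcd (n := i) (k := r) (by rw [hc]; exact hg.cop.prime.one_lt)
    have hle : E ≤ K := hEm.ge.trans (moved_le_iff.2 fun e he => by
      have h3 := h2 t e he
      rw [← Nat.div_add_mod (i * t) r, ht, hc, pow_add, pow_mul, hg.cop.pow_eq, one_pow, one_mul, pow_one] at h3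
      exact h3)
    exact hy (commutatorElement_eq_one_iff_mul_comm.2 (hle hε0).2.eq)
  -- weights of `W1`
  have h2k := hg.two_cast_ne_zero
  have hF := hg.toBase.ff
  set U1 := fixedPart σ W1
  have hnW0 : ∀ x ∈ D0, x ∈ normalizer (W1 : Set G) := fun x hx =>
    conj_mem_of_fixed (hD0fix x hx) (c.normalizer_le_wzero (c.tA hx.1))
  have hnU1 : ∀ x ∈ D0, ∀ u, u ∈ U1 ↔ x * u * x⁻¹ ∈ U1 := fun x hx =>
    mem_normalizer_iff.1 (mem_normalizer_fixedPart (hD0fix x hx) (hnW0 x hx))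
  have hnU1' : ∀ x ∈ D0, ∀ u ∈ U1, x⁻¹ * u * x ∈ U1 := fun x hx u hu =>
    (hnU1 x hx _).2 (by rwa [show x * (x⁻¹ * u * x) * x⁻¹ = u by group])
  obtain ⟨χ, hχ, m, hm, hm0⟩ : ∃ χ : U1 →* kˣ, χ ≠ 1 ∧ ∃ m ∈ weightSpace ρ χ, m ≠ 0 := by
    by_contra hno
    push Not at hno
    refine fixedPart_ne_bot hW1mg hW1 ((Subgroup.eq_bot_iff_forall _).2 fun u hu => hg.toBase.inj ?_)
    rw [map_one, ← sub_eq_zero]
    refine ext_weightSpace (ρ := ρ) hW1mg h2k _ fun ξ v hv => ?_
    rw [LinearMap.sub_apply, Module.End.one_apply, sub_eq_zero]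
    by_cases hξ : ξ = 1
    · subst hξ
      rw [hv u hu, ev_apply _ hu, MonoidHom.one_apply, Units.val_one, one_smul]
    · rw [hno ξ hξ v hv, map_zero]
  have hwt : IsWt ρ χ := (Submodule.ne_bot_iff _).2 ⟨m, hm, hm0⟩
  have hsemi : ∀ x (hx : x ∈ D0), cjHom x (hnU1' x hx) χ = χ → x = 1 := by
    intro x hx he
    by_contra hx1
    have heχ : ∀ u ∈ U1, ev χ (x * u * x⁻¹) = ev χ u := fun u hu => by
      have h1 := DFunLike.congr_fun he ⟨x * u * x⁻¹, (hnU1 x hx u).1 hu⟩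
      rw [ev_apply χ ((hnU1 x hx u).1 hu), ev_apply χ hu, ← h1]
      show χ ⟨x⁻¹ * (x * u * x⁻¹) * x, _⟩ = χ ⟨u, hu⟩
      exact congrArg χ (Subtype.ext (by group))
    obtain ⟨i, hi⟩ := pow_prime_pow_of_mem c.tp hx.1
    obtain ⟨v, hv, hxv, hvU⟩ := exists_commute_of_weight hF hW1mg hg.toBase.inj h2k (hD0fix x hx) (hnW0 x hx)
      hwt hχ heχ hp'.out hp2 hi
    set K := W1 ⊓ centralizer ({x} : Set G)
    have hKs : Stable σ K := hW1mg.stable.inf (Stable.centralizer fun y hy z hz => by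
      rw [Set.mem_singleton_iff] at hy ⊢
      exact σ.injective (by rw [hz, hy, hD0fix x hx]))
    have hXs : Stable σ (zpowers x) := by
      rintro _ ⟨j, rfl⟩
      exact ⟨j, by show x ^ j = σ (x ^ j); rw [map_zpow, hD0fix x hx]⟩
    refine c.tool (W2 := moved σ K) (c.tp.to_le (zpowers_le.2 hx.1)) hXs
      (fun e => hx1 (zpowers_eq_bot.1 e)) hR'p hR's hTR' (fun g hgR => ?_) ((moved_le hKs).trans inf_le_left)
      (stable_moved hKs) (hg.cop.moved_moved hKs) (fun e => hvU ⟨hv, moved_eq_bot.1 e v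
        ⟨hv, mem_centralizer_singleton_iff.2 hxv.symm⟩⟩) fun w hw z hz => ?_
    · refine centralizer_le_normalizer _ (mem_centralizer_iff.2 fun z hz => ?_)
      obtain ⟨j, rfl⟩ := hz
      exact ((hD0c x hx g hgR).zpow_left j).eq
    · obtain ⟨j, rfl⟩ := hz
      have h1 : Commute x w := (mem_centralizer_singleton_iff.1 (moved_le hKs hw).2).symm
      exact (h1.zpow_left j).symm
  -- the vector
  haveI : Fintype D0 := Fintype.ofFinite _
  set x := ∑ δ : D0, ρ (δ : G) m with hxdef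
  haveI : Fintype U1 := Fintype.ofFinite _
  have hcard : (Fintype.card U1 : k) ≠ 0 := by
    rw [← Nat.card_eq_fintype_card]; exact natCard_fixedPart_ne_zero hW1mg h2k
  have hδ1 : ∀ δ : D0, cjHom (δ : G) (hnU1' δ δ.2) χ ≠ 1 := fun δ e => hχ (MonoidHom.ext fun u => by
    have h1 := DFunLike.congr_fun e ⟨(δ : G) * u * (δ : G)⁻¹, (hnU1 δ δ.2 u).1 u.2⟩
    rw [MonoidHom.one_apply] at h1
    rw [MonoidHom.one_apply, ← h1]
    exact congrArg χ (Subtype.ext (show (u : G) = (δ : G)⁻¹ * ((δ : G) * u * (δ : G)⁻¹) * δ by group)))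
  have hxne : x ≠ 0 := by
    intro e
    have h1 : wproj (fixedRep ρ σ W1) χ x = m := by
      rw [hxdef, map_sum, Finset.sum_eq_single (1 : D0)]
      · rw [OneMemClass.coe_one, map_one, Module.End.one_apply]
        exact wproj_self hcard (mem_weightSpace_iff.1 hm)
      · intro δ _ hδ
        refine wproj_other (mem_weightSpace_iff.1 (apply_mem_weightSpace_cj (hnU1' δ δ.2) hm)) fun e' => hδ ?_
        exact Subtype.ext (hsemi δ δ.2 e'.symm)
      · exact fun hn => absurd (Finset.mem_univ _) hn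
    rw [e, map_zero] at h1
    exact hm0 h1.symm
  set P1 : Module.End k V := 1 - avgFix hW1mg ρ with hP1
  have hP1w : ∀ (ξ : U1 →* kˣ), ξ ≠ 1 → ∀ v ∈ weightSpace ρ ξ, P1 v = v := fun ξ hξ v hv => by
    rw [hP1, LinearMap.sub_apply, Module.End.one_apply, avgFix_other hW1mg hξ hv, sub_zero]
  have hP1x : P1 x = x := by
    rw [hxdef, map_sum]
    exact Finset.sum_congr rfl fun δ _ => hP1w _ (hδ1 δ) _ (apply_mem_weightSpace_cj (hnU1' δ δ.2) hm)
  -- `E` is trivial on the non-trivial weights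
  let KE : Subgroup G :=
    { carrier := {g | ∀ (ξ : U1 →* kˣ), ξ ≠ 1 → ∀ v ∈ weightSpace ρ ξ, ρ g v = v}
      one_mem' := fun ξ _ v _ => by rw [map_one]; rfl
      mul_mem' := fun {a b} ha hb ξ hξ v hv => by rw [map_mul, Module.End.mul_apply, hb ξ hξ v hv, ha ξ hξ v hv]
      inv_mem' := fun {a} ha ξ hξ v hv => by
        conv_lhs => rw [← ha ξ hξ v hv]
        rw [← Module.End.mul_apply, ← map_mul, inv_mul_cancel, map_one]; rfl }
  have hEK : E ≤ KE := hEm.ge.trans (moved_le_iff.2 fun e he ξ hξ v hv =>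
    apply_displacement_eq hW1mg hF h2k hξ (fun w hw => (c.commute_wone hw (hEA he)).symm.eq) hv)
  have hAcom : ∀ ε ∈ E, ∀ u, u ∈ U1 ↔ ε * u * ε⁻¹ ∈ U1 := by
    intro ε hε u
    constructor
    · intro hu
      rwa [(c.commute_wone hu.1 (hEA hε)).symm.eq, mul_inv_cancel_right]
    · intro hu
      have h1 := (c.commute_wone hu.1 (hEA hε)).eq
      rw [inv_mul_cancel_right] at h1
      rwa [← mul_left_cancel h1] at hu
  have hzero : ∀ i ∈ Finset.range r, i ≠ 0 → P1 (ρ (y⁻¹ * (σ ^ i) y) ((φ ^ i) x)) = 0 := by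
    intro i hi hi0
    obtain ⟨ε, hε, hne⟩ := hcom i (Nat.pos_of_ne_zero hi0) (Finset.mem_range.1 hi)
    set η := y⁻¹ * (σ ^ i) y
    set d := ⁅ε, η⁆ with hd
    have hd0 : d ∈ D0 := (hED2 hε).2 η (hη i)
    have hd1 : d ≠ 1 := fun e => hne (commutatorElement_eq_one_iff_mul_comm.1 e)
    set u := (φ ^ i) m
    have hu : u ∈ weightSpace ρ χ := pow_op_mapsTo hW1mg hF hm i
    set z := P1 (ρ η u)
    have hεu : ρ ε u = u := hEK hε χ hχ u hu
    have hcomP : ∀ g : G, (∀ u, u ∈ U1 ↔ g * u * g⁻¹ ∈ U1) → ∀ v, P1 (ρ g v) = ρ g (P1 v) := by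
      intro g hgU v
      have h1 := LinearMap.congr_fun (avgFix_commute (ρ := ρ) hW1mg hgU) v
      rw [Module.End.mul_apply, Module.End.mul_apply] at h1
      rw [hP1, LinearMap.sub_apply, LinearMap.sub_apply, Module.End.one_apply, Module.End.one_apply, h1, map_sub]
    have hεz : ρ ε z = z := by
      have hL : (ρ ε - 1) * P1 = 0 := ext_weightSpace hW1mg h2k _ fun ξ v hv => by
        by_cases hξ : ξ = 1
        · subst hξ
          rw [Module.End.mul_apply, hP1, LinearMap.sub_apply (1 : Module.End k V), Module.End.one_apply,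
            avgFix_one hW1mg h2k hv, sub_self, map_zero]
        · rw [Module.End.mul_apply, hP1w ξ hξ v hv, LinearMap.sub_apply, Module.End.one_apply, hEK hε ξ hξ v hv,
            sub_self]
      have h1 := LinearMap.congr_fun hL (ρ η u)
      rw [Module.End.mul_apply, LinearMap.sub_apply, Module.End.one_apply, LinearMap.zero_apply, sub_eq_zero] at h1
      exact h1
    have hdz : ρ d z = z := by
      have h1 : ρ ε z = P1 (ρ (d * η * ε) u) := by
        rw [show z = P1 (ρ η u) from rfl, ← hcomP ε (hAcom ε hε), ← Module.End.mul_apply (ρ ε) (ρ η), ← map_mul,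
          show d * η * ε = ε * η by rw [hd]; simp only [commutatorElement_def]; group]
      rw [hεz, map_mul, map_mul, Module.End.mul_apply, Module.End.mul_apply, hεu, hcomP d (hnU1 d hd0)] at h1
      exact h1.symm
    have hφx : (φ ^ i) x = ∑ δ : D0, ρ (δ : G) u := by
      rw [hxdef, map_sum]
      exact Finset.sum_congr rfl fun δ _ => by rw [pow_apply_map hF, pow_apply_fixed (hD0fix δ δ.2)]
    rw [hφx, map_sum, map_sum, Finset.sum_congr rfl fun (δ : D0) _ => by
      rw [← Module.End.mul_apply (ρ η), ← map_mul, ← (hD0c δ δ.2 η (hη i)).eq, map_mul, Module.End.mul_apply,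
        hcomP δ (hnU1 δ δ.2)]]
    refine sum_apply_eq_zero hd0 ?_ hdz
    obtain ⟨j, hj⟩ := pow_prime_pow_of_mem c.tp hd0.1
    obtain ⟨l, -, hl⟩ := (Nat.dvd_prime_pow hp'.out).1 (orderOf_dvd_of_pow_eq_one hj)
    rcases Nat.eq_zero_or_pos l with rfl | hl0
    · rw [pow_zero, orderOf_eq_one_iff] at hl; exact absurd hl hd1
    · exact hl ▸ dvd_pow_self p hl0.ne'
  refine hxne ?_
  have hsum : ∑ i ∈ Finset.range r, P1 (ρ (y⁻¹ * (σ ^ i) y) ((φ ^ i) x)) = 0 := by
    rw [Finset.sum_congr rfl fun i _ => by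
      rw [map_mul, Module.End.mul_apply, ← pow_apply_map hF], ← map_sum, ← map_sum, ← LinearMap.sum_apply,
      hF.sum_eq_zero, LinearMap.zero_apply, map_zero, map_zero]
  rw [Finset.sum_eq_single_of_mem 0 (Finset.mem_range.2 hg.cop.prime.pos) hzero, pow_zero, pow_zero,
    MulAut.one_apply, inv_mul_cancel, map_one, Module.End.one_apply, Module.End.one_apply, hP1x] at hsum
  exact hsum

end Crux

end CfsgLib.HHShultGen
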