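import Mathlib
import Cfsg.Agent.HHShult.Basic

/-!
A quadratic operator normalising a two-group moved by a coprime automorphism of prime order centralises it
modulo the kernel.
-/

set_option autoImplicit false
set_option linter.style.haveILetI false
set_option linter.unusedSectionVars false

namespace CfsgLib.HHShultGen

open Subgroup CfsgLib.HHShult
open scoped commutatorElement

universe u v w

/-- A two-group moved by `τ`, with its fixed part `U`. -/
structure CoreData {W : Type u} [Group W] (τ : MulAut W) (r : ℕ) (U : Subgroup W) : Prop where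
  cop : CopAut τ r
  two : IsPGroup 2 W
  fixed_mem : ∀ x, τ x = x → x ∈ U
  fix : ∀ x ∈ U, τ x = x
  central : ∀ x ∈ U, ∀ y, x * y = y * x
  sq : ∀ x ∈ U, x ^ 2 = 1
  sq_mem : ∀ x : W, x ^ 2 ∈ U
  comm_mem : ∀ x y : W, ⁅x, y⁆ ∈ U

variable {W : Type u} [Group W] [Finite W] {τ : MulAut W} {r : ℕ} {U : Subgroup W}
variable {k : Type w} [Field k] {p : ℕ} [hp' : Fact p.Prime] [CharP k p]

section

variable {M : Type v} [AddCommGroup M] [Module k M]

theorem pow_char_of_sq_zero {e : Module.End k M} (he : (e - 1) * (e - 1) = 0) : e ^ p = 1 := by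
  rcases subsingleton_or_nontrivial M with hM | hM
  · exact LinearMap.ext fun v => Subsingleton.elim _ _
  haveI : CharP (Module.End k M) p :=
    charP_of_injective_algebraMap (algebraMap k (Module.End k M)).injective p
  have h1 : (e - 1) ^ p = 0 := pow_eq_zero_of_le hp'.out.two_le (by rw [pow_two]; exact he)
  rw [sub_pow_char_of_commute (p := p) (Commute.one_right e), one_pow, sub_eq_zero] at h1
  exact h1

/-- A high enough power of the characteristic fixes the elements of order dividing `n`. -/
theorem exists_frobenius {n : ℕ} (hn : ¬ p ∣ n) :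
    ∃ s : ℕ, 0 < s ∧ ∀ x : Module.End k M, x ^ n = 1 → x ^ p ^ s = x := by
  have hn0 : n ≠ 0 := fun h => hn (h ▸ dvd_zero p)
  refine ⟨n.totient, Nat.totient_pos.2 (Nat.pos_of_ne_zero hn0), fun x hx => ?_⟩
  have h1 : p ^ n.totient ≡ 1 [MOD n] := Nat.ModEq.pow_totient (hp'.out.coprime_iff_not_dvd.2 hn)
  have h2 : 1 ≤ p ^ n.totient := Nat.one_le_pow _ _ hp'.out.pos
  obtain ⟨c, hc⟩ := (Nat.modEq_iff_dvd' h2).1 h1.symm
  rw [show p ^ n.totient = n * c + 1 by omega, pow_succ, pow_mul, hx, one_pow, one_mul]

end

theorem two_unit (hp : p ≠ 2) : (2 : k) ≠ 0 := by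
  intro h0
  have h0' : ((2 : ℕ) : k) = 0 := by exact_mod_cast h0
  exact hp ((Nat.prime_dvd_prime_iff_eq hp'.out Nat.prime_two).1 ((CharP.cast_eq_zero_iff k p 2).1 h0'))

theorem ne_two_of_nontrivial (d : CoreData τ r U) {x : W} (hx : x ≠ 1) : r ≠ 2 := fun e => d.cop.cop (by
  obtain ⟨n, hn⟩ := d.two.exists_card_eq
  rw [e, hn]
  refine dvd_pow_self 2 fun h0 => hx ?_
  rw [h0, pow_zero] at hn
  haveI : Subsingleton W := (Nat.card_eq_one_iff_unique.1 hn).1
  exact Subsingleton.elim _ _)

variable (hp : p ≠ 2) (hrp : r ≠ p) (d : CoreData τ r U) (α : MulAut W) (hατ : ∀ x, α (τ x) = τ (α x))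
include hp hrp d hατ

/-- The irreducible case. -/
theorem quad_trivial_irr {M : Type v} [AddCommGroup M] [Module k M] [FiniteDimensional k M] [Nontrivial M]
    (π : W →* Module.End k M) (e S : Module.End k M) (he : (e - 1) * (e - 1) = 0)
    (heπ : ∀ x, e * π x = π (α x) * e) (hS : Function.Injective S) (hSπ : ∀ x, S * π x = π (τ x) * S)
    (heS : e * S = S * e)
    (hirr : ∀ Z : Submodule k M, (∀ x, ∀ v ∈ Z, π x v ∈ Z) → (∀ v ∈ Z, e v ∈ Z) → (∀ v ∈ Z, S v ∈ Z) →
      Z = ⊥ ∨ Z = ⊤) :
    ∀ x, π (α x) = π x := by
  classical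
  haveI : CharP (Module.End k M) p :=
    charP_of_injective_algebraMap (algebraMap k (Module.End k M)).injective p
  have h2k : (2 : k) ≠ 0 := two_unit (k := k) hp
  have hcard : ¬ p ∣ Nat.card W := by
    obtain ⟨n, hn⟩ := d.two.exists_card_eq
    rw [hn]
    exact fun hd => hp ((Nat.prime_dvd_prime_iff_eq hp'.out Nat.prime_two).1 (hp'.out.dvd_of_dvd_pow hd))
  obtain ⟨s, hs, hfrob⟩ := exists_frobenius (k := k) (p := p) (M := M) hcard
  have hfx : ∀ x : W, π x ^ p ^ s = π x := fun x => hfrob _ (by rw [← map_pow, pow_card_eq_one', map_one])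
  set N : Module.End k M := e - 1 with hN
  have hNN : N * N = 0 := he
  have he1 : e = 1 + N := by rw [hN]; abel
  have hinv : e * (1 - N) = 1 := by
    rw [he1, add_mul, one_mul, mul_sub, mul_one, hNN, sub_zero, sub_add_cancel]
  let T : Module.End k M → Module.End k M := fun Z => N * Z - Z * N - N * Z * N
  have hα : ∀ x, π (α x) = π x + T (π x) := fun x => by
    have h1 : π (α x) = e * π x * (1 - N) := by rw [heπ, mul_assoc, hinv, mul_one]
    rw [h1, he1]
    show (1 + N) * π x * (1 - N) = π x + (N * π x - π x * N - N * π x * N)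
    noncomm_ring
  have hTT : ∀ Z, T (T Z) = -(2 : k) • (N * Z * N) := fun Z => by
    show N * (N * Z - Z * N - N * Z * N) - (N * Z - Z * N - N * Z * N) * N -
      N * (N * Z - Z * N - N * Z * N) * N = _
    have e1 : N * (N * Z - Z * N - N * Z * N) = -(N * Z * N) := by
      rw [mul_sub, mul_sub, ← mul_assoc N N Z, hNN, zero_mul, ← mul_assoc N (N * Z) N, ← mul_assoc N N Z, hNN,
        zero_mul, zero_mul, sub_zero, zero_sub, mul_assoc]
    have e2 : (N * Z - Z * N - N * Z * N) * N = N * Z * N := by
      rw [sub_mul, sub_mul, mul_assoc Z N N, hNN, mul_zero, mul_assoc (N * Z) N N, hNN, mul_zero, sub_zero,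
        sub_zero]
    rw [e1, e2, neg_mul, mul_assoc (N * Z) N N, hNN, mul_zero, neg_zero, sub_zero, neg_smul, two_smul]
    abel
  have hα2 : ∀ x, π (α (α x)) = π x + T (π x) + T (π x) + T (T (π x)) := fun x => by
    rw [hα (α x), hα x]
    show π x + T (π x) + (N * (π x + T (π x)) - (π x + T (π x)) * N - N * (π x + T (π x)) * N) = _
    simp only [T]
    noncomm_ring
  -- abelian parts are centralised
  have habel : ∀ H : Subgroup W, (∀ x ∈ H, α x ∈ H) →
      (∀ x ∈ H, ∀ y ∈ H, π x * π y = π y * π x) → ∀ x ∈ H, π (α x) = π x := by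
    intro H hH hc
    have hY : ∀ x ∈ H, N * π x * N = 0 := by
      intro x hx
      set Y := N * π x * N
      have h1 : -(2 : k) • Y = π (α (α x)) - π (α x) - (π (α x) - π x) := by
        rw [hα2, hα, ← hTT]; abel
      have c1 : Commute (π (α (α x))) (π (α x)) := hc _ (hH _ (hH _ hx)) _ (hH _ hx)
      have c2 : Commute (π (α x)) (π x) := hc _ (hH _ hx) _ hx
      have c3 : Commute (π (α (α x)) - π (α x)) (π (α x) - π x) := by
        refine (Commute.sub_right c1 ?_).sub_left (Commute.sub_right (Commute.refl _) c2)
        exact hc _ (hH _ (hH _ hx)) _ hx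
      have h2 : (-(2 : k) • Y) ^ p ^ s = -(2 : k) • Y := by
        rw [h1, sub_pow_char_pow_of_commute (p := p) _ c3, sub_pow_char_pow_of_commute (p := p) _ c1,
          sub_pow_char_pow_of_commute (p := p) _ c2, hfx, hfx, hfx]
      have hY2 : Y * Y = 0 := by
        show N * π x * N * (N * π x * N) = 0
        rw [show N * π x * N * (N * π x * N) = N * π x * (N * N) * (π x * N) by noncomm_ring, hNN]
        simp
      rw [pow_eq_zero_of_le (Nat.le_self_pow hs.ne' p |>.trans' hp'.out.two_le)
        (by rw [pow_two, smul_mul_smul_comm, hY2, smul_zero])] at h2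
      exact (smul_eq_zero.1 h2.symm).resolve_left (neg_ne_zero.2 h2k)
    intro x hx
    have h1 : π (α x) = π x + (N * π x - π x * N) := by
      rw [hα x]; show π x + (N * π x - π x * N - N * π x * N) = _; rw [hY x hx, sub_zero]
    have hX2 : (N * π x - π x * N) * (N * π x - π x * N) = 0 := by
      rw [show (N * π x - π x * N) * (N * π x - π x * N) = N * π x * N * π x - N * (π x * π x) * N -
        π x * (N * N) * π x + π x * (N * π x * N) by noncomm_ring, hY x hx, hNN, ← map_mul,
        hY (x * x) (mul_mem hx hx)]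
      simp
    have h2 : (π (α x) - π x) ^ p ^ s = π (α x) - π x := by
      rw [sub_pow_char_pow_of_commute (p := p) _ (hc _ (hH _ hx) _ hx : Commute _ _), hfx, hfx]
    have e1 : π (α x) - π x = N * π x - π x * N := by rw [h1, add_sub_cancel_left]
    rw [e1] at h2
    rw [pow_eq_zero_of_le (Nat.le_self_pow hs.ne' p |>.trans' hp'.out.two_le) (by rw [pow_two, hX2])] at h2
    rw [h1, ← h2, add_zero]
  -- the fixed part acts by signs
  have hUa : ∀ x ∈ U, α x ∈ U := fun x hx => d.fixed_mem _ (by rw [← hατ, d.fix x hx])
  have hUc : ∀ x ∈ U, π (α x) = π x := habel U hUa fun x hx y _ => by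
    rw [← map_mul, d.central x hx y, map_mul]
  have hsign : ∀ u ∈ U, π u = 1 ∨ π u = -1 := by
    intro u hu
    let Z : Submodule k M := LinearMap.ker (π u - 1)
    have hmem : ∀ v, v ∈ Z ↔ π u v = v := fun v => by
      simp only [Z, LinearMap.mem_ker, LinearMap.sub_apply, Module.End.one_apply, sub_eq_zero]
    rcases hirr Z (fun x v hv => (hmem _).2 (by
        rw [← Module.End.mul_apply, ← map_mul, d.central u hu x, map_mul, Module.End.mul_apply, (hmem v).1 hv]))
      (fun v hv => (hmem _).2 (by
        have h1 := LinearMap.congr_fun (heπ u) v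
        rw [hUc u hu, Module.End.mul_apply, Module.End.mul_apply, (hmem v).1 hv] at h1
        exact h1.symm))
      (fun v hv => (hmem _).2 (by
        have h1 := LinearMap.congr_fun (hSπ u) v
        rw [d.fix u hu, Module.End.mul_apply, Module.End.mul_apply, (hmem v).1 hv] at h1
        exact h1.symm)) with h | h
    · right
      refine LinearMap.ext fun v => ?_
      have h1 : π u v + v ∈ Z := (hmem _).2 (by
        rw [map_add, ← Module.End.mul_apply, ← map_mul, ← pow_two, d.sq u hu, map_one, Module.End.one_apply,
          add_comm])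
      rw [h, Submodule.mem_bot] at h1
      rw [eq_neg_of_add_eq_zero_left h1, LinearMap.neg_apply, Module.End.one_apply]
    · left
      exact LinearMap.ext fun v => (hmem v).1 (h ▸ Submodule.mem_top)
  -- the radical
  let R : Subgroup W :=
    { carrier := {a | ∀ v, π ⁅a, v⁆ = 1}
      one_mem' := fun v => by rw [commutatorElement_one_left, map_one]
      mul_mem' := fun {a b} ha hb v => by
        rw [show ⁅a * b, v⁆ = a * ⁅b, v⁆ * a⁻¹ * ⁅a, v⁆ by simp only [commutatorElement_def]; group, map_mul,
          ← d.central _ (d.comm_mem b v) a, mul_inv_cancel_right, hb v, ha v, one_mul]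
      inv_mem' := fun {a} ha v => by
        rw [show ⁅a⁻¹, v⁆ = a⁻¹ * ⁅a, v⁆⁻¹ * a by simp only [commutatorElement_def]; group,
          ← d.central _ (inv_mem (d.comm_mem a v)) a⁻¹, inv_mul_cancel_right]
        calc π ⁅a, v⁆⁻¹ = π ⁅a, v⁆⁻¹ * π ⁅a, v⁆ := by rw [ha v, mul_one]
          _ = 1 := by rw [← map_mul, inv_mul_cancel, map_one] }
  have hUR : U ≤ R := fun u hu v => by
    rw [commutatorElement_eq_one_iff_mul_comm.2 (d.central u hu v), map_one]
  have hRα : ∀ a ∈ R, α a ∈ R := fun a ha v => by
    obtain ⟨v, rfl⟩ := α.surjective v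
    rw [← map_commutatorElement, hUc _ (d.comm_mem a v), ha v]
  have hSsurj : Function.Surjective S := LinearMap.injective_iff_surjective.1 hS
  have hRτ : Stable τ R := fun a ha v => by
    obtain ⟨v, rfl⟩ := τ.surjective v
    rw [← map_commutatorElement, d.fix _ (d.comm_mem a v), ha v]
  have hRc : ∀ a ∈ R, ∀ v, π a * π v = π v * π a := fun a ha v => by
    rw [← map_mul, ← map_mul, show a * v = ⁅a, v⁆ * (v * a) by simp only [commutatorElement_def]; group,
      map_mul, ha v, one_mul]
  have hRfix : ∀ a ∈ R, π (α a) = π a := habel R hRα fun a ha b _ => hRc a ha b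
  have hunit : ∀ a : W, π a ≠ 0 := fun a h0 => by
    have h1 : π a * π a⁻¹ = 1 := by rw [← map_mul, mul_inv_cancel, map_one]
    rw [h0, zero_mul] at h1
    exact zero_ne_one h1
  -- distinct classes are independent
  have hindep : ∀ (ι : Type) [DecidableEq ι] (I : Finset ι) (f : ι → W) (c : ι → Module.End k M),
      (∀ i ∈ I, ∀ v, c i * π v = π v * c i) → (∀ i ∈ I, ∀ j ∈ I, i ≠ j → (f i)⁻¹ * f j ∉ R) →
      (∑ i ∈ I, c i * π (f i)) = 0 → ∀ i ∈ I, c i * π (f i) = 0 := by
    intro ι _ I
    induction I using Finset.induction_on with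
    | empty => intro f c _ _ _ i hi; simp at hi
    | insert i0 I hi0 ih =>
      intro f c hc hne hsum
      have hrest : ∀ j ∈ I, c j * π (f j) = 0 := by
        intro j hj
        have hji : i0 ≠ j := fun e => hi0 (e ▸ hj)
        obtain ⟨v, hv⟩ := not_forall.1 (hne i0 (Finset.mem_insert_self _ _) j (Finset.mem_insert_of_mem hj) hji)
        choose ε hε using fun i : ι => show ∃ ε : k, π ⁅v, f i⁆ = ε • 1 by
          rcases hsign _ (d.comm_mem v (f i)) with h | h
          · exact ⟨1, by rw [h, one_smul]⟩
          · exact ⟨-1, by rw [h, neg_one_smul]⟩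
        have hεne : ε j ≠ ε i0 := by
          intro e
          apply hv
          have h1 : π ⁅v, f i0⁆ = π ⁅v, f j⁆ := by rw [hε, hε, e]
          have h2 : π (⁅v, f i0⁆⁻¹ * ⁅v, f j⁆) = 1 := by
            rw [map_mul, ← h1, ← map_mul, inv_mul_cancel, map_one]
          have h3 : ⁅v, f i0⁆⁻¹ * ⁅v, f j⁆ = f i0 * ⁅v, (f i0)⁻¹ * f j⁆ * (f i0)⁻¹ := by
            simp only [commutatorElement_def]; group
          rw [h3, ← d.central _ (d.comm_mem v _) (f i0), mul_inv_cancel_right] at h2
          rw [← commutatorElement_inv]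
          calc π (⁅v, (f i0)⁻¹ * f j⁆⁻¹) = π (⁅v, (f i0)⁻¹ * f j⁆⁻¹) * π ⁅v, (f i0)⁻¹ * f j⁆ := by
                rw [h2, mul_one]
            _ = 1 := by rw [← map_mul, inv_mul_cancel, map_one]
        have hterm : ∀ i ∈ insert i0 I, π v * (c i * π (f i)) * π v⁻¹ = ε i • (c i * π (f i)) := by
          intro i hi
          rw [← mul_assoc (π v), ← hc i hi v, mul_assoc (c i), ← map_mul, mul_assoc (c i), ← map_mul,
            show v * f i * v⁻¹ = ⁅v, f i⁆ * f i by simp only [commutatorElement_def]; group, map_mul, hε,
            smul_mul_assoc, one_mul, mul_smul_comm]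
        have hsum' : ∑ i ∈ I, ((ε i - ε i0) • c i) * π (f i) = 0 := by
          have h1 : ∑ i ∈ insert i0 I, (ε i - ε i0) • (c i * π (f i)) = 0 := by
            simp only [sub_smul, Finset.sum_sub_distrib]
            rw [← Finset.smul_sum, hsum, smul_zero, sub_zero, Finset.sum_congr rfl fun i hi => (hterm i hi).symm,
              ← Finset.sum_mul, ← Finset.mul_sum, hsum, mul_zero, zero_mul]
          rw [Finset.sum_insert hi0, sub_self, zero_smul, zero_add] at h1
          simpa [smul_mul_assoc] using h1
        have h2 := ih f (fun i => (ε i - ε i0) • c i)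
          (fun i hi w => by rw [smul_mul_assoc, mul_smul_comm, hc i (Finset.mem_insert_of_mem hi) w])
          (fun i hi i' hi' => hne i (Finset.mem_insert_of_mem hi) i' (Finset.mem_insert_of_mem hi'))
          hsum' j hj
        rw [smul_mul_assoc] at h2
        exact (smul_eq_zero.1 h2).resolve_left (sub_ne_zero.2 hεne)
      intro i hi
      rcases Finset.mem_insert.1 hi with rfl | hi
      · rw [Finset.sum_insert hi0, Finset.sum_eq_zero hrest, add_zero] at hsum
        exact hsum
      · exact hrest i hi
  -- classes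
  haveI hRn : R.Normal := ⟨fun a ha g v => by
    rw [show g * a * g⁻¹ = ⁅g, a⁆ * a by simp only [commutatorElement_def]; group]
    exact R.mul_mem (hUR (d.comm_mem g a)) ha v⟩
  let c : W → W ⧸ R := QuotientGroup.mk
  have hαc : ∀ x y, c x = c y → c (α x) = c (α y) := fun x y h => QuotientGroup.eq.2 (by
    rw [← map_inv, ← map_mul]; exact hRα _ (QuotientGroup.eq.1 h))
  have hclassfix : ∀ x, c (α x) = c x → π (α x) = π x := by
    intro x hx
    set a := (α x)⁻¹ * x
    have ha : a ∈ R := QuotientGroup.eq.1 hx
    -- `x ↦ π (x⁻¹ α x)` is constant along the orbit and has order dividing `p`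
    have hpow : ∀ (n : ℕ) (y : W), e ^ n * π y = π ((α ^ n) y) * e ^ n := by
      intro n
      induction n with
      | zero => intro y; simp
      | succ n ih =>
        intro y
        rw [pow_succ' e, mul_assoc, ih, ← mul_assoc, heπ, mul_assoc, pow_succ', MulAut.mul_apply]
    have hiter : ∀ n, π ((α ^ n) x) * π a ^ n = π x := by
      intro n
      induction n with
      | zero => simp
      | succ n ih =>
        have h1 : π ((α ^ n) ((α x) * a)) = π ((α ^ (n + 1)) x) * π a := by
          have hfixn : π ((α ^ n) a) = π a := by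
            clear ih
            induction n with
            | zero => rfl
            | succ m ihm =>
              have hm : ∀ j : ℕ, (α ^ j) a ∈ R := by
                intro j
                induction j with
                | zero => exact ha
                | succ j ihj => rw [pow_succ', MulAut.mul_apply]; exact hRα _ ihj
              rw [pow_succ', MulAut.mul_apply, hRfix _ (hm m), ihm]
          rw [map_mul, map_mul, pow_succ, MulAut.mul_apply, hfixn]
        rw [mul_inv_cancel_left] at h1
        calc π ((α ^ (n + 1)) x) * π a ^ (n + 1) = π ((α ^ (n + 1)) x) * π a * π a ^ n := by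
              rw [mul_assoc, ← pow_succ']
          _ = π x := by rw [← h1, ih]
    have hep := hpow p x
    rw [pow_char_of_sq_zero he, one_mul, mul_one] at hep
    have h3 := hiter p
    rw [← hep] at h3
    have h4 : π a ^ p = 1 := by
      calc π a ^ p = π x⁻¹ * π x * π a ^ p := by rw [← map_mul, inv_mul_cancel, map_one, one_mul]
        _ = π x⁻¹ * (π x * π a ^ p) := by rw [mul_assoc]
        _ = 1 := by rw [h3, ← map_mul, inv_mul_cancel, map_one]
    have h5 : π a = 1 := by
      obtain ⟨n, hn⟩ := d.two a
      have h6 : π a ^ (2 ^ n) = 1 := by rw [← map_pow, hn, map_one]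
      exact orderOf_eq_one_iff.1 (Nat.eq_one_of_dvd_coprimes
        (Nat.Coprime.pow_right n ((Nat.coprime_primes hp'.out Nat.prime_two).2 hp))
        (orderOf_dvd_of_pow_eq_one h4) (orderOf_dvd_of_pow_eq_one h6))
    calc π (α x) = π (α x) * π a := by rw [h5, mul_one]
      _ = π x := by rw [← map_mul, mul_inv_cancel_left]
  intro x
  refine hclassfix x ?_
  by_contra hmv
  have hperiod : ∀ y, c ((α ^ p) y) = c y := fun y => QuotientGroup.eq.2 fun v => by
    have hpow : ∀ (n : ℕ), e ^ n * π y = π ((α ^ n) y) * e ^ n := by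
      intro n
      induction n with
      | zero => simp
      | succ n ih => rw [pow_succ' e, mul_assoc, ih, ← mul_assoc, heπ, mul_assoc, pow_succ', MulAut.mul_apply]
    have h1 := hpow p
    rw [pow_char_of_sq_zero he, one_mul, mul_one] at h1
    have h2 : π (((α ^ p) y)⁻¹ * y) = 1 := by
      rw [map_mul, h1, ← map_mul, inv_mul_cancel, map_one]
    rw [commutatorElement_def, map_mul, map_mul, map_mul, h2, one_mul]
    have h3 : π (((α ^ p) y)⁻¹ * y)⁻¹ = 1 := by
      calc π (((α ^ p) y)⁻¹ * y)⁻¹ = π (((α ^ p) y)⁻¹ * y)⁻¹ * π (((α ^ p) y)⁻¹ * y) := by rw [h2, mul_one]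
        _ = 1 := by rw [← map_mul, inv_mul_cancel, map_one]
    rw [h3, mul_one, ← map_mul, mul_inv_cancel, map_one]
  have hdist : ∀ i j, i < j → j < p → c ((α ^ i) x) ≠ c ((α ^ j) x) := by
    intro i j hij hjp e0
    let β : W ⧸ R → W ⧸ R := Quotient.map' α fun a b hab => by
      rw [QuotientGroup.leftRel_apply] at hab ⊢
      rw [← map_inv, ← map_mul]; exact hRα _ hab
    have hβ : ∀ n, β^[n] (c x) = c ((α ^ n) x) := by
      intro n
      induction n with
      | zero => rfl
      | succ n ih => rw [Function.iterate_succ_apply', ih, pow_succ', MulAut.mul_apply]; rfl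
    have hp1 : Function.IsPeriodicPt β p (c x) := by
      show β^[p] (c x) = c x
      rw [hβ, hperiod]
    have hij' : Function.IsPeriodicPt β (j - i) (c x) := by
      have h1 : β^[p - i] (c ((α ^ i) x)) = β^[p - i] (c ((α ^ j) x)) := by rw [e0]
      rw [← hβ, ← hβ, ← Function.iterate_add_apply, ← Function.iterate_add_apply,
        Nat.sub_add_cancel (by omega : i ≤ p), show p - i + j = (j - i) + p by omega,
        Function.iterate_add_apply, hp1.eq] at h1
      exact h1.symm
    have hg := hp1.gcd hij'
    rw [show p.gcd (j - i) = 1 from hp'.out.coprime_iff_not_dvd.2 fun hd => by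
      have := Nat.le_of_dvd (by omega) hd; omega] at hg
    exact hmv (show β (c x) = c x from hg)
  rcases Nat.lt_or_ge p 4 with hp4 | hp4
  swap
  · have h3 : π ((α ^ 3) x) - (3 : k) • π ((α ^ 2) x) + (3 : k) • π ((α ^ 1) x) - π ((α ^ 0) x) = 0 := by
      have e3 : (α ^ 3) x = α (α (α x)) := rfl
      have e2 : (α ^ 2) x = α (α x) := rfl
      have e1 : (α ^ 1) x = α x := rfl
      have e0 : (α ^ 0) x = x := rfl
      rw [e3, e2, e1, e0, hα2 (α x), hα2 x, hα x]
      have hadd : ∀ A B, T (A + B) = T A + T B := fun A B => by simp only [T]; noncomm_ring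
      have hsmul : ∀ (a : k) A, T (a • A) = a • T A := fun a A => by
        simp only [T, smul_mul_assoc, mul_smul_comm, smul_sub]
      have hT0 : T (T (T (π x))) = 0 := by
        rw [hTT (π x), hsmul]
        have : T (N * π x * N) = 0 := by
          show N * (N * π x * N) - N * π x * N * N - N * (N * π x * N) * N = 0
          rw [← mul_assoc N (N * π x) N, ← mul_assoc N N, hNN]
          simp [mul_assoc, hNN]
        rw [this, smul_zero]
      simp only [hadd, hT0]
      module
    let cf : ℕ → Module.End k M := fun i =>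
      if i = 0 then -1 else if i = 1 then (3 : k) • 1 else if i = 2 then -((3 : k) • 1) else 1
    have h4 := hindep ℕ (Finset.range 4) (fun i => (α ^ i) x) cf
      (fun i _ v => by simp only [cf]; split_ifs <;> simp)
      (fun i hi j hj hij hmem => by
        simp only [Finset.mem_range] at hi hj
        rcases lt_or_gt_of_ne hij with h | h
        · exact hdist i j h (by omega) (QuotientGroup.eq.2 hmem)
        · exact hdist j i h (by omega) (QuotientGroup.eq.2 hmem).symm)
      (by simp only [Finset.sum_range_succ, Finset.sum_range_zero, cf]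
          refine Eq.trans ?_ h3
          simp only [if_true, OfNat.ofNat_ne_zero, one_ne_zero, if_false, Nat.reduceEqDiff, neg_mul, one_mul,
            smul_mul_assoc]
          abel) 3 (by simp)
    simp [cf, hunit] at h4
  · have hp3 : p = 3 := by have := hp'.out.two_le; omega
    subst hp3
    haveI : CharP k 3 := ‹CharP k 3›
    have hsum : ∀ y, π y + π (α y) + π (α (α y)) = -(2 : k) • (N * π y * N) := by
      intro y
      rw [hα2, hα, ← hTT]
      have h3 : (3 : k) = 0 := by exact_mod_cast CharP.cast_eq_zero k 3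
      linear_combination (norm := module) h3 • (π y + T (π y))
    have hprod : ∀ y z, (π y + π (α y) + π (α (α y))) * (π z + π (α z) + π (α (α z))) = 0 := by
      intro y z
      rw [hsum, hsum, smul_mul_smul_comm,
        show N * π y * N * (N * π z * N) = N * π y * (N * N) * (π z * N) by noncomm_ring, hNN]
      simp
    have hQcomm : ∀ a b : W ⧸ R, a * b = b * a := by
      intro a b
      induction a using QuotientGroup.induction_on with
      | _ a =>
      induction b using QuotientGroup.induction_on with
      | _ b =>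
      refine QuotientGroup.eq.2 (hUR ?_)
      rw [show (a * b)⁻¹ * (b * a) = ⁅b⁻¹, a⁻¹⁆ by simp only [commutatorElement_def]; group]
      exact d.comm_mem _ _
    have hQsq : ∀ a : W ⧸ R, a * a = 1 := by
      intro a
      induction a using QuotientGroup.induction_on with
      | _ a => exact (QuotientGroup.eq_one_iff (a * a)).2 (hUR (by rw [← pow_two]; exact d.sq_mem a))
    have hper : ∀ y, c (α (α (α y))) = c y := hperiod
    -- differences of moved classes lie in one orbit
    have hd2 : ∀ y, c y * c (α (α y)) = c (α (α (y * α y))) := by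
      intro y
      show c y * c (α (α y)) = c (α (α (y * α y)))
      rw [map_mul, map_mul, show c (α (α y) * α (α (α y))) = c (α (α y)) * c (α (α (α y))) from rfl, hper,
        hQcomm]
    have hone : ∀ y, c (α y) ≠ c y → ∃ i < 3, c (y * α y) = c ((α ^ i) (x * α x)) := by
      intro y hy
      have hdy : ∀ i j, i < j → j < 3 → c ((α ^ i) y) ≠ c ((α ^ j) y) := by
        intro i j hij hj e0
        interval_cases j <;> interval_cases i
        · exact hy e0.symm
        · exact hy ((hαc _ _ e0).trans (hper y)) 
        · exact hy (((hper y).symm.trans (hαc _ _ (hαc _ _ e0))).trans (hper (α y))).symm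
      have huniq : ¬ ∀ i j, i < 3 → j < 3 → c ((α ^ i) y * (α ^ j) x) = c (y * x) → i = 0 ∧ j = 0 := by
        intro hu
        have h1 : ∑ q ∈ Finset.range 3 ×ˢ Finset.range 3, π ((α ^ q.1) y * (α ^ q.2) x) = 0 := by
          rw [Finset.sum_product]
          simp only [map_mul, ← Finset.mul_sum, ← Finset.sum_mul]
          simp only [Finset.sum_range_succ, Finset.sum_range_zero, zero_add]
          exact hprod y x
        let key : W ⧸ R → Prop := fun _ => True
        let reps : Finset (W ⧸ R) :=
          (Finset.range 3 ×ˢ Finset.range 3).image fun q => c ((α ^ q.1) y * (α ^ q.2) x)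
        let coef : W ⧸ R → Module.End k M := fun Q =>
          ∑ q ∈ (Finset.range 3 ×ˢ Finset.range 3).filter (fun q => c ((α ^ q.1) y * (α ^ q.2) x) = Q),
            π ((α ^ q.1) y * (α ^ q.2) x * Q.out⁻¹)
        have hcf : ∀ Q q, c ((α ^ (q : ℕ × ℕ).1) y * (α ^ q.2) x) = Q →
            (α ^ q.1) y * (α ^ q.2) x * Q.out⁻¹ ∈ R := fun Q q hq => by
          have h2 : (Q.out)⁻¹ * ((α ^ q.1) y * (α ^ q.2) x) ∈ R :=
            QuotientGroup.eq.1 ((Quotient.out_eq Q).trans hq.symm)
          exact hRn.mem_comm h2
        have hsum0 : ∑ Q ∈ reps, coef Q * π Q.out = 0 := by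
          rw [← h1, ← Finset.sum_fiberwise_of_maps_to (g := fun q : ℕ × ℕ => c ((α ^ q.1) y * (α ^ q.2) x))
            (t := reps) (fun q hq => Finset.mem_image_of_mem _ hq)]
          refine Finset.sum_congr rfl fun Q _ => ?_
          simp only [coef, Finset.sum_mul, ← map_mul, inv_mul_cancel_right]
        have hQ0 : c (y * x) ∈ reps := Finset.mem_image.2 ⟨(0, 0), by simp, rfl⟩
        have h5 := hindep (Fin (Nat.card (W ⧸ R))) (reps.map (Finite.equivFin (W ⧸ R)).toEmbedding)
          (fun i => ((Finite.equivFin (W ⧸ R)).symm i).out) (fun i => coef ((Finite.equivFin (W ⧸ R)).symm i))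
          (fun i _ v => by
            simp only [coef, Finset.sum_mul, Finset.mul_sum]
            exact Finset.sum_congr rfl fun q hq => hRc _ (hcf _ q (Finset.mem_filter.1 hq).2) v)
          (fun i _ j _ hij hmem => hij ((Finite.equivFin (W ⧸ R)).symm.injective
            ((Quotient.out_eq _).symm.trans ((QuotientGroup.eq.2 hmem).trans (Quotient.out_eq _)))))
          (by rw [Finset.sum_map]; simpa using hsum0)
          (Finite.equivFin (W ⧸ R) (c (y * x))) (Finset.mem_map.2 ⟨_, hQ0, rfl⟩)
        simp only [Equiv.symm_apply_apply] at h5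
        have hfil : (Finset.range 3 ×ˢ Finset.range 3).filter
            (fun q => c ((α ^ q.1) y * (α ^ q.2) x) = c (y * x)) = {(0, 0)} := by
          ext ⟨i, j⟩
          simp only [Finset.mem_filter, Finset.mem_product, Finset.mem_range, Finset.mem_singleton, Prod.mk.injEq]
          exact ⟨fun h => hu i j h.1.1 h.1.2 h.2, fun ⟨a, b⟩ => by subst a; subst b; exact ⟨by omega, rfl⟩⟩
        simp only [coef] at h5
        rw [hfil, Finset.sum_singleton, ← map_mul, inv_mul_cancel_right] at h5
        exact hunit _ h5
      push Not at huniq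
      obtain ⟨i, j, hi, hj, hij, hne0⟩ := huniq
      have hij' : c y * c ((α ^ i) y) = c x * c ((α ^ j) x) := by
        have h6 : c ((α ^ i) y) * c ((α ^ j) x) = c y * c x := hij
        calc c y * c ((α ^ i) y) = c y * (c ((α ^ i) y) * c ((α ^ j) x)) * c ((α ^ j) x) := by
              rw [mul_assoc, mul_assoc (c ((α ^ i) y)), hQsq, mul_one]
          _ = c x * c ((α ^ j) x) := by rw [h6, ← mul_assoc, hQsq, one_mul]
      have hi0 : i ≠ 0 := fun h0 => by
        subst h0
        rw [show (α ^ 0) y = y from rfl, hQsq] at hij'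
        refine hdist 0 j (Nat.pos_of_ne_zero (hne0 rfl)) hj ?_
        calc c ((α ^ 0) x) = c x * (c x * c ((α ^ j) x)) := by rw [← hij', mul_one]; rfl
          _ = c ((α ^ j) x) := by rw [← mul_assoc, hQsq, one_mul]
      have hj0 : j ≠ 0 := fun h0 => by
        subst h0
        rw [show (α ^ 0) x = x from rfl, hQsq] at hij'
        exact hdy 0 i (Nat.pos_of_ne_zero hi0) hi (by
          calc c ((α ^ 0) y) = c y * (c ((α ^ i) y) * c ((α ^ i) y)) := by rw [hQsq, mul_one]; rfl
            _ = c ((α ^ i) y) := by rw [← mul_assoc, hij', one_mul])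
      have hshift : ∀ {a b : W}, c a = c b → ∀ n, c ((α ^ n) a) = c ((α ^ n) b) := fun {a b} h n => by
        induction n with
        | zero => exact h
        | succ n ih => rw [pow_succ', MulAut.mul_apply, MulAut.mul_apply]; exact hαc _ _ ih
      obtain rfl | rfl : i = 1 ∨ i = 2 := by omega
      all_goals obtain rfl | rfl : j = 1 ∨ j = 2 := by omega
      · exact ⟨0, by omega, hij'⟩
      · exact ⟨2, by omega, hij'.trans (hd2 x)⟩
      · refine ⟨1, by omega, ?_⟩
        have h7 := hshift ((hd2 y).symm.trans hij') 1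
        exact (hper _).symm.trans h7
      · refine ⟨0, by omega, ?_⟩
        have h7 := hshift (((hd2 y).symm.trans hij').trans (hd2 x)) 1
        exact ((hper _).symm.trans h7).trans (hper _)
    -- the orbit of the automorphism of order `r` is too short
    have hr2 : r ≠ 2 := ne_two_of_nontrivial d (x := x) fun e0 => hmv (by rw [e0, map_one])
    have hfixc : ∀ a, c (τ a) = c a → a ∈ R := fun a h => by
      obtain ⟨b, hb, hab⟩ := d.cop.fixed_in_coset hRτ (g := a) (QuotientGroup.eq.1 h.symm)
      have := R.mul_mem (hUR (d.fixed_mem b hb)) (R.inv_mem hab)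
      rwa [mul_inv_rev, inv_inv, mul_inv_cancel_left] at this
    let β : W ⧸ R → W ⧸ R := Quotient.map' τ fun a b hab => by
      rw [QuotientGroup.leftRel_apply] at hab ⊢
      rw [← map_inv, ← map_mul]; exact hRτ _ hab
    let d0 := x * α x
    have hd0 : c d0 ≠ c 1 := fun h => hmv (by
      have h8 : c x * c (α x) = 1 := h
      calc c (α x) = c x * c x * c (α x) := by rw [hQsq, one_mul]
        _ = c x := by rw [mul_assoc, h8, mul_one])
    have hβn : ∀ n a, β^[n] (c a) = c ((τ ^ n) a) := by
      intro n
      induction n with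
      | zero => exact fun a => rfl
      | succ n ih => intro a; rw [Function.iterate_succ_apply', ih, pow_succ', MulAut.mul_apply]; rfl
    have hper_r : Function.IsPeriodicPt β r (c d0) := by
      show β^[r] (c d0) = c d0
      rw [hβn, d.cop.pow_eq]; rfl
    have hnfix : β (c d0) ≠ c d0 := fun h => hd0 ((QuotientGroup.eq_one_iff d0).2 (hfixc d0 h))
    have hinj : ∀ i j, i < j → j < r → c ((τ ^ i) d0) ≠ c ((τ ^ j) d0) := by
      intro i j hij hj e0
      have h1 : Function.IsPeriodicPt β (j - i) (c d0) := by
        have h2 : β^[r - i] (c ((τ ^ i) d0)) = β^[r - i] (c ((τ ^ j) d0)) := by rw [e0]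
        rw [← hβn, ← hβn, ← Function.iterate_add_apply, ← Function.iterate_add_apply,
          Nat.sub_add_cancel (by omega : i ≤ r), show r - i + j = (j - i) + r by omega,
          Function.iterate_add_apply, hper_r.eq] at h2
        exact h2.symm
      have hg := hper_r.gcd h1
      rw [show r.gcd (j - i) = 1 from d.cop.prime.coprime_iff_not_dvd.2 fun hd => by
        have := Nat.le_of_dvd (by omega) hd; omega] at hg
      exact hnfix (show β (c d0) = c d0 from hg)
    have hin : ∀ n, ∃ i < 3, c ((τ ^ n) d0) = c ((α ^ i) d0) := by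
      intro n
      have hcomm : ∀ m a, (τ ^ m) (α a) = α ((τ ^ m) a) := by
        intro m
        induction m with
        | zero => exact fun a => rfl
        | succ m ih => intro a; rw [pow_succ', MulAut.mul_apply, MulAut.mul_apply, ih, ← hατ]
      have hmv' : c (α ((τ ^ n) x)) ≠ c ((τ ^ n) x) := by
        intro h
        have h1 : β^[n] (c (α x)) = β^[n] (c x) := by rw [hβn, hβn, hcomm]; exact h
        have hb : Function.Injective β := by
          intro a b
          induction a using QuotientGroup.induction_on with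
          | _ a =>
          induction b using QuotientGroup.induction_on with
          | _ b =>
          intro hab
          refine QuotientGroup.eq.2 (hRτ.mem_iff.1 ?_)
          rw [map_mul, map_inv]
          exact (QuotientGroup.eq.1 hab : _)
        exact hmv (hb.iterate n h1)
      obtain ⟨i, hi, he0⟩ := hone _ hmv'
      refine ⟨i, hi, ?_⟩
      rw [← he0, map_mul, hcomm]
    choose idx hidx hidx2 using hin
    have hle : r ≤ 3 := by
      have h1 : Set.InjOn idx ↑(Finset.range r) := by
        intro a ha b hb hab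
        simp only [Finset.coe_range, Set.mem_Iio] at ha hb
        rcases lt_trichotomy a b with h | h | h
        · exact absurd ((hidx2 a).trans (hab ▸ (hidx2 b).symm)) (hinj a b h hb)
        · exact h
        · exact absurd ((hidx2 b).trans (hab.symm ▸ (hidx2 a).symm)) (hinj b a h ha)
      have h2 := Finset.card_le_card_of_injOn (t := Finset.range 3) idx
        (fun n _ => Finset.mem_range.2 (hidx n)) h1
      simpa using h2
    have := d.cop.prime.two_le
    omega

/-- A quadratic operator centralises the image of the two-group. -/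
theorem quad_trivial {M : Type v} [AddCommGroup M] [Module k M] [FiniteDimensional k M]
    (π : W →* Module.End k M) (e S : Module.End k M) (he : (e - 1) * (e - 1) = 0)
    (heπ : ∀ x, e * π x = π (α x) * e) (hS : Function.Injective S) (hSπ : ∀ x, S * π x = π (τ x) * S)
    (heS : e * S = S * e) : ∀ x, π (α x) = π x := by
  suffices H : ∀ (n : ℕ) {M : Type v} [AddCommGroup M] [Module k M] [FiniteDimensional k M],
      Module.finrank k M ≤ n → ∀ (π : W →* Module.End k M) (e S : Module.End k M), (e - 1) * (e - 1) = 0 →
      (∀ x, e * π x = π (α x) * e) → Function.Injective S → (∀ x, S * π x = π (τ x) * S) → e * S = S * e →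
      ∀ x, π (α x) = π x from H _ le_rfl π e S he heπ hS hSπ heS
  intro n
  induction n with
  | zero =>
    intro M _ _ _ hn π e S _ _ _ _ _ x
    haveI : Subsingleton M := Module.finrank_zero_iff.1 (Nat.le_zero.1 hn)
    exact LinearMap.ext fun v => Subsingleton.elim _ _
  | succ n ih =>
    intro M _ _ _ hn π e S he heπ hS hSπ heS x
    by_cases hirr : ∀ Z : Submodule k M, (∀ x, ∀ v ∈ Z, π x v ∈ Z) → (∀ v ∈ Z, e v ∈ Z) → (∀ v ∈ Z, S v ∈ Z) →
        Z = ⊥ ∨ Z = ⊤
    · rcases subsingleton_or_nontrivial M with hM | hM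
      · exact LinearMap.ext fun v => Subsingleton.elim _ _
      · exact quad_trivial_irr hp hrp d α hατ π e S he heπ hS hSπ heS hirr x
    simp only [not_forall, not_or] at hirr
    obtain ⟨Z, hZπ, hZe, hZS, hbot, htop⟩ := hirr
    let π1 : W →* Module.End k Z :=
      { toFun := fun y => (π y).restrict (hZπ y)
        map_one' := LinearMap.ext fun v => Subtype.ext (by simp)
        map_mul' := fun y z => LinearMap.ext fun v => Subtype.ext (by simp) }
    let π2 : W →* Module.End k (M ⧸ Z) :=
      { toFun := fun y => Z.mapQ Z (π y) (hZπ y)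
        map_one' := Submodule.linearMap_qext _ (LinearMap.ext fun v => by simp)
        map_mul' := fun y z => Submodule.linearMap_qext _ (LinearMap.ext fun v => by simp) }
    have hlt1 : Module.finrank k Z ≤ n := by
      have := Submodule.finrank_lt htop; omega
    have hlt2 : Module.finrank k (M ⧸ Z) ≤ n := by
      have h1 := Z.finrank_quotient_add_finrank
      have h2 : Module.finrank k Z ≠ 0 := fun e0 => hbot (Submodule.finrank_eq_zero.1 e0)
      omega
    have h1 := ih hlt1 π1 (e.restrict hZe) (S.restrict hZS)
      (LinearMap.ext fun v => Subtype.ext (by simpa using LinearMap.congr_fun he (v : M)))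
      (fun y => LinearMap.ext fun v => Subtype.ext (LinearMap.congr_fun (heπ y) (v : M)))
      (fun a b hab => Subtype.ext (hS (congrArg Subtype.val hab)))
      (fun y => LinearMap.ext fun v => Subtype.ext (LinearMap.congr_fun (hSπ y) (v : M)))
      (LinearMap.ext fun v => Subtype.ext (LinearMap.congr_fun heS (v : M))) x
    have hS2 : Function.Injective (Z.mapQ Z S hZS) := by
      refine LinearMap.injective_iff_surjective.2 fun w => ?_
      induction w using Submodule.Quotient.induction_on with
      | _ w =>
        obtain ⟨v, rfl⟩ := LinearMap.injective_iff_surjective.1 hS w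
        exact ⟨Submodule.Quotient.mk v, rfl⟩
    have h2 := ih hlt2 π2 (Z.mapQ Z e hZe) (Z.mapQ Z S hZS)
      (Submodule.linearMap_qext _ (LinearMap.ext fun v => by
        simpa using congrArg (Submodule.Quotient.mk (p := Z)) (LinearMap.congr_fun he v)))
      (fun y => Submodule.linearMap_qext _ (LinearMap.ext fun v =>
        congrArg (Submodule.Quotient.mk (p := Z)) (LinearMap.congr_fun (heπ y) v)))
      hS2
      (fun y => Submodule.linearMap_qext _ (LinearMap.ext fun v =>
        congrArg (Submodule.Quotient.mk (p := Z)) (LinearMap.congr_fun (hSπ y) v)))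
      (Submodule.linearMap_qext _ (LinearMap.ext fun v =>
        congrArg (Submodule.Quotient.mk (p := Z)) (LinearMap.congr_fun heS v))) x
    set z := x⁻¹ * α x
    have hz1 : ∀ v ∈ Z, π z v = v := fun v hv => by
      show π (x⁻¹ * α x) v = v
      rw [map_mul, Module.End.mul_apply, show π (α x) v = π x v from congrArg Subtype.val (LinearMap.congr_fun h1 ⟨v, hv⟩),
        ← Module.End.mul_apply, ← map_mul, inv_mul_cancel, map_one, Module.End.one_apply]
    have hz2 : ∀ v, π z v - v ∈ Z := fun v => by
      have h3 : π (α x) v - π x v ∈ Z :=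
        (Submodule.Quotient.eq Z).1 (LinearMap.congr_fun h2 (Submodule.Quotient.mk v) : _)
      have h4 := hZπ x⁻¹ _ h3
      rw [map_sub, ← Module.End.mul_apply, ← map_mul, ← Module.End.mul_apply, ← map_mul, inv_mul_cancel,
        map_one, Module.End.one_apply] at h4
      exact h4
    have hsq : (π z - 1) * (π z - 1) = 0 := LinearMap.ext fun v => by
      simp only [Module.End.mul_apply, LinearMap.sub_apply, Module.End.one_apply, LinearMap.zero_apply]
      rw [hz1 _ (hz2 v), sub_self]
    obtain ⟨j, hj⟩ := d.two z
    have hz : π z = 1 := orderOf_eq_one_iff.1 (Nat.eq_one_of_dvd_coprimes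
      (Nat.Coprime.pow_right j ((Nat.coprime_primes hp'.out Nat.prime_two).2 hp))
      (orderOf_dvd_of_pow_eq_one (pow_char_of_sq_zero hsq))
      (orderOf_dvd_of_pow_eq_one (by rw [← map_pow, hj, map_one])))
    calc π (α x) = π x * π z := by rw [← map_mul, mul_inv_cancel_left]
      _ = π x := by rw [hz, mul_one]

end CfsgLib.HHShultGen
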