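import Mathlib
import Cfsg.Agent.ZJ.ConjModule
import Cfsg.Agent.HHShultGen.Core
import Cfsg.Agent.HHShultGen.Helpers
import Cfsg.Agent.HHShult.Weights

/-!
An element quadratic on a normal `p`-subgroup centralises the moved two-group modulo the centraliser of that
subgroup.
-/

set_option autoImplicit false
set_option linter.style.haveILetI false
set_option linter.unusedSectionVars false

namespace CfsgLib.HHShultGen

open Subgroup CfsgLib.HHShult
open scoped commutatorElement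

variable {G : Type*} [Group G] [Finite G]

/-- A moved two-group `W` acting on a stable `p`-group `A` inside a `p`-group `T` with displacements in `A`. -/
structure TwoData (σ : MulAut G) (r p : ℕ) (W T A : Subgroup G) : Prop where
  hp2 : p ≠ 2
  hrp : r ≠ p
  wmg : MovedGroup σ r 2 W
  tp : IsPGroup p T
  ts : Stable σ T
  aT : A ≤ T
  tA : T ≤ normalizer (A : Set G)
  wA : W ≤ normalizer (A : Set G)
  tM : T ≤ normalizer ((A ⊔ W : Subgroup G) : Set G)
  movedT : moved σ T ≤ A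
  fix : ∀ w ∈ W, w ∈ centralizer (A : Set G) → σ w = w

namespace TwoData

variable {σ : MulAut G} {r p : ℕ} [hp' : Fact p.Prime] {W T A : Subgroup G} (d : TwoData σ r p W T A)
include d

theorem eq_one_of_mem {x : G} (hA : x ∈ A) (hW : x ∈ W) : x = 1 := by
  haveI : Fact (Nat.Prime 2) := ⟨Nat.prime_two⟩
  exact inf_eq_bot_of_isPGroup d.hp2 (d.tp.to_le d.aT) d.wmg.isP hA hW

theorem conj_mem {g a : G} (hg : g ∈ normalizer (A : Set G)) (ha : a ∈ A) : g * a * g⁻¹ ∈ A :=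
  (mem_normalizer_iff.1 hg a).1 ha

theorem proj_unique {x : G} {u v : W} (hu : x * (u : G)⁻¹ ∈ A) (hv : x * (v : G)⁻¹ ∈ A) : u = v := by
  have h1 := mul_mem (inv_mem hv) hu
  rw [show (x * (v : G)⁻¹)⁻¹ * (x * (u : G)⁻¹) = (v : G) * (u : G)⁻¹ by group] at h1
  exact Subtype.ext (mul_inv_eq_one.1 (d.eq_one_of_mem h1 (mul_mem v.2 (inv_mem u.2)))).symm

theorem exists_proj {x : G} (hx : x ∈ A ⊔ W) : ∃ w : W, x * (w : G)⁻¹ ∈ A := by
  have hx' : x ∈ ((A ⊔ W : Subgroup G) : Set G) := hx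
  rw [coe_mul_of_right_le_normalizer_left _ _ d.wA] at hx'
  obtain ⟨a, ha, w, hw, e⟩ := hx'
  exact ⟨⟨w, hw⟩, by rw [← e]; simpa using ha⟩

/-- The automorphism of `W` induced by an element of `T`. -/
theorem exists_alpha {z : G} (hz : z ∈ T) :
    ∃ α : MulAut W, ∀ w : W, z * w * z⁻¹ * ((α w : W) : G)⁻¹ ∈ A := by
  choose f hf using fun w : W => d.exists_proj ((mem_normalizer_iff.1 (d.tM hz) _).1 (mem_sup_right w.2))
  have hmul : ∀ u v : W, f (u * v) = f u * f v := fun u v => by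
    refine d.proj_unique (hf (u * v)) ?_
    have h1 := A.mul_mem (hf u) (d.conj_mem (d.wA (f u).2) (hf v))
    rwa [show z * (u : G) * z⁻¹ * (f u : G)⁻¹ * ((f u : G) * (z * (v : G) * z⁻¹ * (f v : G)⁻¹) * (f u : G)⁻¹) =
      z * ((u * v : W) : G) * z⁻¹ * ((f u * f v : W) : G)⁻¹ by simp only [Subgroup.coe_mul]; group] at h1
  have hinj : Function.Injective (MonoidHom.mk' f hmul) := (injective_iff_map_eq_one _).2 fun u hu => by
    have h1 := hf u
    rw [show f u = 1 from hu, OneMemClass.coe_one, inv_one, mul_one] at h1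
    exact Subtype.ext (d.eq_one_of_mem ((mem_normalizer_iff.1 (d.tA hz) _).2 h1) u.2)
  exact ⟨MulEquiv.ofBijective (MonoidHom.mk' f hmul) (Finite.injective_iff_bijective.1 hinj), hf⟩

theorem alpha_commute {z : G} (hz : z ∈ T) {α : MulAut W}
    (hα : ∀ w : W, z * w * z⁻¹ * ((α w : W) : G)⁻¹ ∈ A) (hAs : Stable σ A) {τ : MulAut W}
    (hτ : ∀ w : W, ((τ w : W) : G) = σ w) (w : W) : α (τ w) = τ (α w) := by
  refine d.proj_unique (hα (τ w)) ?_
  rw [hτ, hτ]
  have ha : z⁻¹ * σ z ∈ A := d.movedT (mem_moved hz)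
  have h1 := hAs _ (hα w)
  rw [map_mul, map_mul, map_mul, map_inv, map_inv] at h1
  set a := z⁻¹ * σ z
  have e : σ z = z * a := by simp [a]
  rw [e] at h1
  have h2 : σ (w : G) * a * (σ (w : G))⁻¹ * a⁻¹ ∈ A :=
    A.mul_mem (d.conj_mem (d.wA (d.wmg.stable w w.2)) ha) (A.inv_mem ha)
  have h5 : z * (σ (w : G) * (a * σ (w : G) * a⁻¹)⁻¹) * z⁻¹ ∈ A := by
    refine d.conj_mem (d.tA hz) ?_
    rw [show σ (w : G) * (a * σ (w : G) * a⁻¹)⁻¹ = σ (w : G) * a * (σ (w : G))⁻¹ * a⁻¹ by group]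
    exact h2
  have h6 := A.mul_mem h5 h1
  rwa [show z * (σ (w : G) * (a * σ (w : G) * a⁻¹)⁻¹) * z⁻¹ *
      (z * a * σ (w : G) * (z * a)⁻¹ * (σ ((α w : W) : G))⁻¹) = z * σ (w : G) * z⁻¹ * (σ ((α w : W) : G))⁻¹ by
    group] at h6

/-- One factor. -/
theorem factor_step (hAs : Stable σ A) {z : G} (hz : z ∈ T) {α : MulAut W}
    (hα : ∀ w : W, z * w * z⁻¹ * ((α w : W) : G)⁻¹ ∈ A) {B B' : Subgroup G} (hB'B : B' ≤ B)
    (hTB : T ≤ normalizer (B : Set G)) (hWB : W ≤ normalizer (B : Set G))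
    (hTB' : T ≤ normalizer (B' : Set G)) (hWB' : W ≤ normalizer (B' : Set G))
    (hBB' : B ≤ normalizer (B' : Set G)) (hab : ∀ a ∈ B, ∀ b ∈ B, ⁅a, b⁆ ∈ B') (hpow : ∀ b ∈ B, b ^ p ∈ B')
    (hAB : ∀ a ∈ A, ∀ b ∈ B, ⁅a, b⁆ ∈ B')
    (hq : ⁅⁅B, zpowers z⁆, zpowers z⁆ ≤ B') (w : W) {b : G} (hb : b ∈ B) :
    ⁅((α w : W) : G) * (w : G)⁻¹, b⁆ ∈ B' := by
  classical
  haveI : NeZero r := ⟨d.wmg.cop.prime.ne_zero⟩
  haveI : Fact (Nat.Prime 2) := ⟨Nat.prime_two⟩
  let N : Subgroup G := normalizer (B' : Set G) ⊓ normalizer (B : Set G)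
  let K : Subgroup N := B'.subgroupOf N
  haveI : K.Normal := by
    refine ⟨fun x hx g => ?_⟩
    show (g : G) * x * (g : G)⁻¹ ∈ B'
    exact (mem_normalizer_iff.1 g.2.1 _).1 hx
  let f : N →* N ⧸ K := QuotientGroup.mk' K
  let Vb : Subgroup (N ⧸ K) := (B.subgroupOf N).map f
  haveI hVn : Vb.Normal := by
    haveI : (B.subgroupOf N).Normal := ⟨fun x hx g => (mem_normalizer_iff.1 g.2.2 _).1 hx⟩
    exact Subgroup.Normal.map inferInstance f (QuotientGroup.mk'_surjective K)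
  have hV : Cfsg.IsElementaryAbelian p Vb := by
    refine ⟨⟨⟨?_⟩⟩, ?_⟩
    · rintro ⟨_, x, hx, rfl⟩ ⟨_, y, hy, rfl⟩
      refine Subtype.ext ?_
      show f x * f y = f y * f x
      rw [← commutatorElement_eq_one_iff_mul_comm, ← map_commutatorElement]
      exact (QuotientGroup.eq_one_iff _).2 (hab _ hx _ hy)
    · rintro _ ⟨x, hx, rfl⟩
      rw [← map_pow]
      exact (QuotientGroup.eq_one_iff _).2 (hpow _ hx)
  let ρM : N →* Module.End (ZMod p) (ZJ.ElabMod Vb hV) :=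
    (ZJ.conjEnd hV).comp (f.codRestrict _ fun x => by rw [normalizer_eq_top_iff.2 hVn]; exact mem_top _)
  have hρ1 : ∀ x : N, ρM x = 1 ↔ ∀ b ∈ B, ⁅(x : G), b⁆ ∈ B' := by
    intro x
    show ZJ.conjEnd hV ⟨f x, _⟩ = 1 ↔ _
    rw [ZJ.conjEnd_eq_one_iff, Subgroup.mem_centralizer_iff]
    constructor
    · intro hc b hb
      have h1 := hc (f ⟨b, hBB' hb, le_normalizer hb⟩) ⟨_, hb, rfl⟩
      have h2 : f ⁅x, ⟨b, hBB' hb, le_normalizer hb⟩⁆ = 1 := by
        rw [map_commutatorElement, commutatorElement_eq_one_iff_mul_comm]; exact h1.symm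
      exact ((QuotientGroup.eq_one_iff _).1 h2 : _)
    · rintro hc _ ⟨⟨b, hbN⟩, hb, rfl⟩
      refine (commutatorElement_eq_one_iff_mul_comm.1 ?_).symm
      rw [← map_commutatorElement]
      exact (QuotientGroup.eq_one_iff _).2 (hc b hb)
  have hWN : W ≤ N := le_inf hWB' hWB
  have hAN : A ≤ N := le_inf (d.aT.trans hTB') (d.aT.trans hTB)
  have hzN : z ∈ N := ⟨hTB' hz, hTB hz⟩
  have hA1 : ∀ x : N, (x : G) ∈ A → ρM x = 1 := fun x hx => (hρ1 x).2 fun b hb => hAB _ hx b hb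
  have hmodA : ∀ x y : N, (x : G) * (y : G)⁻¹ ∈ A → ρM x = ρM y := fun x y hxy => by
    rw [show x = (x * y⁻¹) * y by group, map_mul, hA1 _ hxy, one_mul]
  let τ : MulAut W := MulEquiv.ofBijective
    ((σ.toMonoidHom.comp W.subtype).codRestrict W fun y => d.wmg.stable y y.2)
    (Finite.injective_iff_bijective.1 fun a b e => Subtype.ext (σ.injective (congrArg Subtype.val e)))
  have hτ : ∀ w : W, ((τ w : W) : G) = σ w := fun w => rfl
  have hατ : ∀ w : W, α (τ w) = τ (α w) := d.alpha_commute hz hα hAs hτ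
  have hατn : ∀ (n : ℕ) (w : W), α ((τ ^ n) w) = (τ ^ n) (α w) := fun n => by
    induction n with
    | zero => exact fun w => rfl
    | succ n ih => intro w; rw [pow_succ', MulAut.mul_apply, MulAut.mul_apply, hατ, ih]
  have hτr : τ ^ r = 1 := (d.wmg.cop.restrict W τ hτ).pow_eq
  have hτmod : ∀ n : ℕ, τ ^ (n % r) = τ ^ n := fun n => by
    conv_rhs => rw [← Nat.mod_add_div n r, pow_add, pow_mul, hτr, one_pow, mul_one]
  let ι : W →* N := inclusion hWN
  let π : W →* Module.End (ZMod p) (Fin r → ZJ.ElabMod Vb hV) :=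
    { toFun := fun w => LinearMap.pi fun i : Fin r => (ρM (ι ((τ ^ (i : ℕ)) w))).comp (LinearMap.proj i)
      map_one' := LinearMap.ext fun v => funext fun i => by
        show ρM (ι ((τ ^ (i : ℕ)) 1)) (v i) = v i
        rw [map_one, map_one, map_one]; rfl
      map_mul' := fun u w => LinearMap.ext fun v => funext fun i => by
        show ρM (ι ((τ ^ (i : ℕ)) (u * w))) (v i) = ρM (ι ((τ ^ (i : ℕ)) u)) (ρM (ι ((τ ^ (i : ℕ)) w)) (v i))
        rw [map_mul, map_mul, map_mul]; rfl }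
  let e : Module.End (ZMod p) (Fin r → ZJ.ElabMod Vb hV) :=
    LinearMap.pi fun i : Fin r => (ρM ⟨z, hzN⟩).comp (LinearMap.proj i)
  let S : Module.End (ZMod p) (Fin r → ZJ.ElabMod Vb hV) :=
    LinearMap.pi fun i : Fin r => LinearMap.proj (i + 1)
  have he : (e - 1) * (e - 1) = 0 := by
    have hq' : ⁅⁅Vb, zpowers (f ⟨z, hzN⟩)⁆, zpowers (f ⟨z, hzN⟩)⁆ = ⊥ := by
      rw [← MonoidHom.map_zpowers, ← map_commutator, ← map_commutator, Subgroup.map_eq_bot_iff]
      intro x hx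
      rw [QuotientGroup.ker_mk']
      refine hq ?_
      have h1 : (x : G) ∈ (⁅⁅B.subgroupOf N, zpowers (⟨z, hzN⟩ : N)⁆, zpowers (⟨z, hzN⟩ : N)⁆).map N.subtype :=
        ⟨x, hx, rfl⟩
      rw [map_commutator, map_commutator, MonoidHom.map_zpowers] at h1
      exact commutator_mono (commutator_mono (map_comap_le _ _) le_rfl) le_rfl h1
    have h1 := ZJ.conjEnd_quadratic hV ⟨f ⟨z, hzN⟩, by rw [normalizer_eq_top_iff.2 hVn]; exact mem_top _⟩ hq'
    refine LinearMap.ext fun v => funext fun i => ?_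
    exact LinearMap.congr_fun h1 (v i)
  have heπ : ∀ x, e * π x = π (α x) * e := fun x => LinearMap.ext fun v => funext fun i => by
    show ρM ⟨z, hzN⟩ (ρM (ι ((τ ^ (i : ℕ)) x)) (v i)) = ρM (ι ((τ ^ (i : ℕ)) (α x))) (ρM ⟨z, hzN⟩ (v i))
    rw [← Module.End.mul_apply, ← Module.End.mul_apply, ← map_mul, ← map_mul]
    refine LinearMap.congr_fun (hmodA _ _ ?_) _
    rw [← hατn]
    have h1 := hα ((τ ^ (i : ℕ)) x)
    show z * (((τ ^ (i : ℕ)) x : W) : G) * (((α ((τ ^ (i : ℕ)) x) : W) : G) * z)⁻¹ ∈ A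
    rwa [mul_inv_rev, ← mul_assoc]
  have hS : Function.Injective S := fun u v huv => funext fun i => by
    have h1 := congrFun huv (i - 1)
    simp only [S, LinearMap.pi_apply, LinearMap.proj_apply, sub_add_cancel] at h1
    exact h1
  have hSπ : ∀ x, S * π x = π (τ x) * S := fun x => LinearMap.ext fun v => funext fun i => by
    show ρM (ι ((τ ^ ((i + 1 : Fin r) : ℕ)) x)) (v (i + 1)) = ρM (ι ((τ ^ (i : ℕ)) (τ x))) (v (i + 1))
    rw [Fin.val_add, hτmod, pow_add, Fin.val_one', hτmod, pow_one, MulAut.mul_apply]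
  have heS : e * S = S * e := LinearMap.ext fun v => funext fun i => rfl
  have hd : CoreData τ r ((fixedPart σ W).subgroupOf W) :=
    { cop := d.wmg.cop.restrict W τ hτ
      two := d.wmg.isP
      fixed_mem := fun x hx => ⟨x.2, (congrArg Subtype.val hx : _)⟩
      fix := fun x hx => Subtype.ext hx.2
      central := fun x hx y => Subtype.ext (d.wmg.fixedPart_central hx y.2)
      sq := fun x hx => Subtype.ext (d.wmg.pow_eq_one hx)
      sq_mem := fun x => d.wmg.pow_mem_fixedPart x.2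
      comm_mem := fun x y => d.wmg.comm_mem_fixedPart x.2 y.2 }
  have key := quad_trivial (k := ZMod p) (p := p) d.hp2 d.hrp hd α hατ π e S he heπ hS hSπ heS w
  have h0 : ρM (ι (α w)) = ρM (ι w) := LinearMap.ext fun m => by
    have h1 := congrFun (LinearMap.congr_fun key fun _ => m) (0 : Fin r)
    exact h1
  have h2 : ρM (ι (α w) * (ι w)⁻¹) = 1 := by
    rw [map_mul, h0, ← map_mul, mul_inv_cancel, map_one]
  exact (hρ1 _).1 h2 b hb

end TwoData

end CfsgLib.HHShultGen
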