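import Mathlib
import Cfsg.Agent.HHShultGen.Factor
import Cfsg.Agent.HHShultGen.Split
import Cfsg.Agent.ZJ.Constrained

/-!
When the centraliser of `A` in `W` is fixed, `W` normalises the centre of the Thompson subgroup of `T`.
-/

set_option autoImplicit false
set_option linter.style.haveILetI false
set_option linter.unusedSectionVars false

namespace CfsgLib.HHShultGen

open Subgroup CfsgLib.HHShult
open scoped commutatorElement

variable {G : Type*} [Group G] [Finite G]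

namespace TwoData

variable {σ : MulAut G} {r p : ℕ} [hp' : Fact p.Prime] {W T A : Subgroup G} (d : TwoData σ r p W T A)
include d

/-- An element quadratic on a `p`-subgroup normalised by `T` and `W` acts on `W` trivially modulo its centraliser. -/
theorem quad_centralize (hAs : Stable σ A) {z : G} (hz : z ∈ T) {α : MulAut W}
    (hα : ∀ w : W, z * w * z⁻¹ * ((α w : W) : G)⁻¹ ∈ A) (B : Subgroup G) (hB : IsPGroup p B)
    (hTB : T ≤ normalizer (B : Set G)) (hWB : W ≤ normalizer (B : Set G))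
    (hq : ⁅⁅B, zpowers z⁆, zpowers z⁆ = ⊥) (w : W) {b : G} (hb : b ∈ B) :
    Commute (((α w : W) : G) * (w : G)⁻¹) b := by
  classical
  obtain ⟨n, hn⟩ : ∃ n, Nat.card B = n := ⟨_, rfl⟩
  induction n using Nat.strong_induction_on generalizing B b with
  | _ n ih =>
    subst hn
    by_cases hB0 : B = ⊥
    · rw [hB0, Subgroup.mem_bot] at hb; rw [hb]; exact Commute.one_right _
    obtain ⟨B', hB'⟩ := (Set.toFinite {H : Subgroup G | H < B ∧ T ≤ normalizer (H : Set G) ∧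
      W ≤ normalizer (H : Set G)}).exists_maximal ⟨⊥, bot_lt_iff_ne_bot.2 hB0,
        fun g _ => mem_normalizer_iff.2 fun y => by simp, fun g _ => mem_normalizer_iff.2 fun y => by simp⟩
    obtain ⟨hlt, hTB', hWB'⟩ := hB'.prop
    -- normalisers of `B'`
    have hAB : A ≤ normalizer (B : Set G) := d.aT.trans hTB
    have hAB' : A ≤ normalizer (B' : Set G) := d.aT.trans hTB'
    set P := B ⊔ A
    have hP : IsPGroup p P := hB.to_sup_of_normal_left' (d.tp.to_le d.aT) hAB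
    have hdesc : ∀ H : Subgroup G, B' ≤ H → H ≤ B → T ≤ normalizer (H : Set G) → W ≤ normalizer (H : Set G) →
        H ≠ B' → H = B := fun H h1 h2 h3 h4 h5 => by
      by_contra hne
      exact h5 (le_antisymm (hB'.le_of_ge ⟨lt_of_le_of_ne h2 hne, h3, h4⟩ h1) h1)
    -- `B'` is normal in `B`
    have hBB' : B ≤ normalizer (B' : Set G) := by
      let H := B ⊓ normalizer (B' : Set G)
      have hkey : ∀ g, g ∈ normalizer (B : Set G) → g ∈ normalizer (B' : Set G) → g ∈ normalizer (H : Set G) :=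
        fun g h1 h2 => mem_normalizer_iff.2 fun x => by
          refine and_congr (mem_normalizer_iff.1 h1 x) ?_
          constructor
          · intro hx; exact mul_mem (mul_mem h2 hx) ((normalizer (B' : Set G)).inv_mem h2)
          · intro hx
            have := mul_mem (mul_mem ((normalizer (B' : Set G)).inv_mem h2) hx) h2
            rwa [show g⁻¹ * (g * x * g⁻¹) * g = x by group] at this
      refine (hdesc H (le_inf hlt.le le_normalizer) inf_le_left (fun g hg => hkey g (hTB hg) (hTB' hg))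
        (fun g hg => hkey g (hWB hg) (hWB' hg)) fun e => ?_).ge.trans inf_le_right
      haveI := hB.isNilpotent
      have hsub : B'.subgroupOf B < ⊤ := lt_top_iff_ne_top.2 fun e' =>
        hlt.not_ge (subgroupOf_eq_top.1 e')
      obtain ⟨⟨x, hx⟩, hxn, hxB⟩ := SetLike.exists_of_lt (Group.normalizerCondition_of_isNilpotent _ hsub)
      refine hxB (e.le ⟨hx, mem_normalizer_iff.2 fun y => ?_⟩)
      constructor
      · intro hy
        exact ((mem_normalizer_iff.1 hxn ⟨y, hlt.le hy⟩).1 hy : _)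
      · intro hy
        have hyB : y ∈ B := by
          have := B.mul_mem (B.mul_mem (B.inv_mem hx) (hlt.le hy : x * y * x⁻¹ ∈ B)) hx
          rwa [show x⁻¹ * (x * y * x⁻¹) * x = y by group] at this
        exact (mem_normalizer_iff.1 hxn ⟨y, hyB⟩).2 hy
    have hPB' : P ≤ normalizer (B' : Set G) := sup_le hBB' hAB'
    have hcl : ∀ {g x : G}, g ∈ normalizer (B' : Set G) → x ∈ B' → g * x * g⁻¹ ∈ B' := fun hg hx =>
      (mem_normalizer_iff.1 hg _).1 hx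
    -- the elements central modulo `B'`
    let H : Subgroup G :=
      { carrier := {b | b ∈ B ∧ ∀ x ∈ P, ⁅b, x⁆ ∈ B'}
        one_mem' := ⟨B.one_mem, fun x _ => by rw [commutatorElement_one_left]; exact B'.one_mem⟩
        mul_mem' := fun {a b} ha hb => ⟨B.mul_mem ha.1 hb.1, fun x hx => by
          rw [show ⁅a * b, x⁆ = a * ⁅b, x⁆ * a⁻¹ * ⁅a, x⁆ by simp only [commutatorElement_def]; group]
          exact B'.mul_mem (hcl (hBB' ha.1) (hb.2 x hx)) (ha.2 x hx)⟩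
        inv_mem' := fun {a} ha => ⟨B.inv_mem ha.1, fun x hx => by
          rw [show ⁅a⁻¹, x⁆ = a⁻¹ * ⁅a, x⁆⁻¹ * a⁻¹⁻¹ by simp only [commutatorElement_def]; group]
          exact hcl (inv_mem (hBB' ha.1)) (B'.inv_mem (ha.2 x hx))⟩ }
    have hnP : ∀ g, g ∈ normalizer (B : Set G) → g ∈ normalizer (A : Set G) → g ∈ normalizer (P : Set G) :=
      fun g h1 h2 => mem_normalizer_sup h1 h2
    have hHn : ∀ g, g ∈ normalizer (B : Set G) → g ∈ normalizer (A : Set G) → g ∈ normalizer (B' : Set G) →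
        ∀ b ∈ H, g * b * g⁻¹ ∈ H := fun g h1 h2 h3 b hb =>
      ⟨(mem_normalizer_iff.1 h1 b).1 hb.1, fun x hx => by
        have h4 : g⁻¹ * x * g ∈ P := by simpa using (mem_normalizer_iff.1 (inv_mem (hnP g h1 h2)) x).1 hx
        rw [show ⁅g * b * g⁻¹, x⁆ = g * ⁅b, g⁻¹ * x * g⁆ * g⁻¹ by simp only [commutatorElement_def]; group]
        exact hcl h3 (hb.2 _ h4)⟩
    have hHn' : ∀ g, g ∈ normalizer (B : Set G) → g ∈ normalizer (A : Set G) → g ∈ normalizer (B' : Set G) →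
        g ∈ normalizer (H : Set G) := fun g h1 h2 h3 => mem_normalizer_iff.2 fun x =>
      ⟨hHn g h1 h2 h3 x, fun hx => by
        have h4 := hHn g⁻¹ (inv_mem h1) (inv_mem h2) (inv_mem h3) _ hx
        rwa [show g⁻¹ * (g * x * g⁻¹) * g⁻¹⁻¹ = x by group] at h4⟩
    have hHB : H = B := by
      refine hdesc H (fun x hx => ⟨hlt.le hx, fun y hy => ?_⟩) (fun x hx => hx.1)
        (fun g hg => hHn' g (hTB hg) (d.tA hg) (hTB' hg)) (fun g hg => hHn' g (hWB hg) (d.wA hg) (hWB' hg)) ?_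
      · rw [show ⁅x, y⁆ = x * (y * x⁻¹ * y⁻¹) by simp only [commutatorElement_def]; group]
        exact B'.mul_mem hx (hcl (hPB' hy) (B'.inv_mem hx))
      intro e
      obtain ⟨b0, hb0, hb0'⟩ := SetLike.exists_of_lt hlt
      haveI := hP.isNilpotent
      obtain ⟨m, hm⟩ := Group.IsNilpotent.nilpotent' (G := P)
      have hex : ∃ j, ∃ x : P, x ∈ Subgroup.upperCentralSeries P j ∧ (x : G) ∈ B ∧ (x : G) ∉ B' :=
        ⟨m, ⟨b0, mem_sup_left hb0⟩, by rw [hm]; exact mem_top _, hb0, hb0'⟩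
      obtain ⟨x, hxj, hxB, hxB'⟩ := Nat.find_spec hex
      refine hxB' (e.le ⟨hxB, fun y hy => ?_⟩)
      obtain ⟨j, hj⟩ : ∃ j, Nat.find hex = j + 1 := ⟨Nat.find hex - 1, by
        have : Nat.find hex ≠ 0 := fun e => by
          rw [e, Subgroup.upperCentralSeries_zero, Subgroup.mem_bot] at hxj
          exact hxB' (by rw [hxj]; exact B'.one_mem)
        omega⟩
      rw [hj] at hxj
      have h1 := Subgroup.mem_upperCentralSeries_succ_iff.1 hxj ⟨y, hy⟩
      have hyB : y ∈ normalizer (B : Set G) := (sup_le le_normalizer hAB : P ≤ _) hy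
      have h2 : ⁅(x : G), y⁆ ∈ B := by
        rw [show ⁅(x : G), y⁆ = (x : G) * (y * (x : G)⁻¹ * y⁻¹) by simp only [commutatorElement_def]; group]
        exact B.mul_mem hxB ((mem_normalizer_iff.1 hyB _).1 (B.inv_mem hxB))
      by_contra hno
      exact Nat.find_min hex (show j < Nat.find hex by omega)
        ⟨x * ⟨y, hy⟩ * x⁻¹ * (⟨y, hy⟩ : P)⁻¹, h1, h2, hno⟩
    have hab : ∀ a ∈ B, ∀ c ∈ B, ⁅a, c⁆ ∈ B' := fun a ha c hc => (hHB.ge ha : a ∈ H).2 c (mem_sup_left hc)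
    have hAc : ∀ a ∈ A, ∀ c ∈ B, ⁅a, c⁆ ∈ B' := fun a ha c hc => by
      rw [← commutatorElement_inv]; exact B'.inv_mem ((hHB.ge hc : c ∈ H).2 a (mem_sup_right ha))
    -- the exponent
    haveI hBn : (B'.subgroupOf B).Normal := (normal_subgroupOf_iff_le_normalizer hlt.le).2 hBB'
    have hcomm : ∀ a c : B ⧸ B'.subgroupOf B, Commute a c := fun a c => by
      induction a using QuotientGroup.induction_on with
      | _ a =>
        induction c using QuotientGroup.induction_on with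
        | _ c =>
          rw [← commutatorElement_eq_one_iff_commute, ← QuotientGroup.mk'_apply, ← QuotientGroup.mk'_apply,
            ← map_commutatorElement, QuotientGroup.mk'_apply, QuotientGroup.eq_one_iff]
          exact hab _ a.2 _ c.2
    let H2 : Subgroup G :=
      { carrier := {b | ∃ hb : b ∈ B, ((⟨b, hb⟩ : B) : B ⧸ B'.subgroupOf B) ^ p = 1}
        one_mem' := ⟨B.one_mem, one_pow p⟩
        mul_mem' := fun {a c} ha hc => ⟨B.mul_mem ha.1 hc.1, by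
          rw [show (⟨a * c, B.mul_mem ha.1 hc.1⟩ : B) = ⟨a, ha.1⟩ * ⟨c, hc.1⟩ from rfl, QuotientGroup.mk_mul,
            (hcomm _ _).mul_pow, ha.2, hc.2, one_mul]⟩
        inv_mem' := fun {a} ha => ⟨B.inv_mem ha.1, by
          rw [show (⟨a⁻¹, B.inv_mem ha.1⟩ : B) = (⟨a, ha.1⟩ : B)⁻¹ from rfl, QuotientGroup.mk_inv, inv_pow, ha.2,
            inv_one]⟩ }
    have hmem2 : ∀ b, b ∈ H2 ↔ b ∈ B ∧ b ^ p ∈ B' := fun b =>
      ⟨fun ⟨hb, h2⟩ => ⟨hb, by rw [← QuotientGroup.mk_pow, QuotientGroup.eq_one_iff] at h2; exact h2⟩,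
        fun ⟨hb, h2⟩ => ⟨hb, by rw [← QuotientGroup.mk_pow, QuotientGroup.eq_one_iff]; exact h2⟩⟩
    have hH2n : ∀ g, g ∈ normalizer (B : Set G) → g ∈ normalizer (B' : Set G) → g ∈ normalizer (H2 : Set G) :=
      fun g h1 h2 => mem_normalizer_iff.2 fun x => by
        rw [hmem2, hmem2, conj_pow]
        exact and_congr (mem_normalizer_iff.1 h1 x) (mem_normalizer_iff.1 h2 _)
    have hH2 : H2 = B := by
      refine hdesc H2 (fun x hx => (hmem2 x).2 ⟨hlt.le hx, B'.pow_mem hx p⟩) (fun x hx => ((hmem2 x).1 hx).1)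
        (fun g hg => hH2n g (hTB hg) (hTB' hg)) (fun g hg => hH2n g (hWB hg) (hWB' hg)) ?_
      intro e
      obtain ⟨b0, hb0, hb0'⟩ := SetLike.exists_of_lt hlt
      have hex : ∃ i, b0 ^ p ^ i ∈ B' := by
        obtain ⟨i, hi⟩ := pow_prime_pow_of_mem hB hb0
        exact ⟨i, by rw [hi]; exact B'.one_mem⟩
      obtain ⟨i, hi⟩ : ∃ i, Nat.find hex = i + 1 := ⟨Nat.find hex - 1, by
        have : Nat.find hex ≠ 0 := fun e => hb0' (by
          have h1 := Nat.find_spec hex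
          rwa [e, pow_zero, pow_one] at h1)
        omega⟩
      refine Nat.find_min hex (show i < Nat.find hex by omega) (e.le ((hmem2 _).2 ⟨B.pow_mem hb0 _, ?_⟩))
      rw [← pow_mul, ← pow_succ, ← hi]; exact Nat.find_spec hex
    have hpow : ∀ c ∈ B, c ^ p ∈ B' := fun c hc => ((hmem2 c).1 (hH2.ge hc)).2
    -- conclusion
    set δ := ((α w : W) : G) * (w : G)⁻¹
    have h1 : ⁅δ, b⁆ ∈ B' :=
      d.factor_step hAs hz hα hlt.le hTB hWB hTB' hWB' hBB' hab hpow hAc (by rw [hq]; exact bot_le) w hb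
    have hqB' : ⁅⁅B', zpowers z⁆, zpowers z⁆ = ⊥ :=
      le_bot_iff.1 ((commutator_mono (commutator_mono hlt.le le_rfl) le_rfl).trans hq.le)
    have h2 : Commute δ ⁅δ, b⁆ :=
      ih _ (Solvable.card_lt_of_lt hlt) B' (hB.to_le hlt.le) hTB' hWB' hqB' h1 rfl
    refine commute_of_commute_comm h2 ?_
    haveI : Fact (Nat.Prime 2) := ⟨Nat.prime_two⟩
    exact (orderOf_coprime_of_pow d.hp2 (pow_prime_pow_of_mem hB (hlt.le h1))
      (pow_prime_pow_of_mem d.wmg.isP (mul_mem (α w).2 (W.inv_mem w.2)))).symm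

/-- A quadratic element on `A` centralises `W` modulo `A`. -/
theorem quad_commutator (hAs : Stable σ A) {z : G} (hz : z ∈ T) (hq : ⁅⁅A, zpowers z⁆, zpowers z⁆ = ⊥) {w : G}
    (hw : w ∈ W) : z * w * z⁻¹ * w⁻¹ ∈ A := by
  obtain ⟨α, hα⟩ := d.exists_alpha hz
  have hδc : ∀ u : W, ((α u : W) : G) * (u : G)⁻¹ ∈ centralizer (A : Set G) := fun u =>
    mem_centralizer_iff.2 fun a ha =>
      (d.quad_centralize hAs hz hα A (d.tp.to_le d.aT) d.tA d.wA hq u ha).eq.symm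
  have hδU : ∀ u : W, ((α u : W) : G) * (u : G)⁻¹ ∈ fixedPart σ W := fun u =>
    ⟨mul_mem (α u).2 (W.inv_mem u.2), d.fix _ (mul_mem (α u).2 (W.inv_mem u.2)) (hδc u)⟩
  let E : Subgroup W :=
    { carrier := {u | α u = u}
      one_mem' := map_one α
      mul_mem' := fun {a b} ha hb => by
        show α (a * b) = a * b
        rw [map_mul, show α a = a from ha, show α b = b from hb]
      inv_mem' := fun {a} ha => by show α a⁻¹ = a⁻¹; rw [map_inv, show α a = a from ha] }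
  have hE : ∀ u : W, (u : G) ∈ fixedPart σ W → α u = u := by
    have hle : ⁅W, W⁆ ≤ E.map W.subtype := commutator_le.2 fun a ha b hb => by
      refine ⟨⁅(⟨a, ha⟩ : W), ⟨b, hb⟩⁆, ?_, by rw [map_commutatorElement]; rfl⟩
      show α ⁅(⟨a, ha⟩ : W), ⟨b, hb⟩⁆ = ⁅(⟨a, ha⟩ : W), ⟨b, hb⟩⁆
      rw [map_commutatorElement]
      refine Subtype.ext ?_
      show ⁅((α ⟨a, ha⟩ : W) : G), ((α ⟨b, hb⟩ : W) : G)⁆ = ⁅a, b⁆
      have h1 := hδU ⟨a, ha⟩
      have h2 := hδU ⟨b, hb⟩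
      rw [show ((α ⟨a, ha⟩ : W) : G) = ((α ⟨a, ha⟩ : W) : G) * a⁻¹ * a by group,
        show ((α ⟨b, hb⟩ : W) : G) = ((α ⟨b, hb⟩ : W) : G) * b⁻¹ * b by group,
        d.wmg.comm_mul_left h1.1 ha (mul_mem h2.1 hb),
        commutatorElement_eq_one_iff_mul_comm.2 (d.wmg.fixedPart_central h1 (mul_mem h2.1 hb)), one_mul,
        d.wmg.comm_mul_right ha h2.1 hb,
        commutatorElement_eq_one_iff_mul_comm.2 (d.wmg.fixedPart_central h2 ha).symm, one_mul]
    intro u hu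
    obtain ⟨v, hv, e⟩ := hle (d.wmg.fixed_le_commutator hu.1 hu.2)
    rw [show u = v from Subtype.ext e.symm]
    exact hv
  set δ : W := α ⟨w, hw⟩ * (⟨w, hw⟩ : W)⁻¹
  have hαδ : α δ = δ := hE δ (hδU ⟨w, hw⟩)
  have hpow : ∀ n : ℕ, z ^ n * w * (z ^ n)⁻¹ * ((δ ^ n * ⟨w, hw⟩ : W) : G)⁻¹ ∈ A := by
    intro n
    induction n with
    | zero => simp
    | succ n ih =>
      have h1 := A.mul_mem (d.conj_mem (d.tA hz) ih) (hα (δ ^ n * ⟨w, hw⟩))
      rw [map_mul, map_pow, hαδ, show α ⟨w, hw⟩ = δ * ⟨w, hw⟩ by simp [δ], ← mul_assoc (δ ^ n) δ, ← pow_succ] at h1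
      rw [pow_succ' z]
      convert h1 using 1
      group
  obtain ⟨i, hi⟩ := pow_prime_pow_of_mem d.tp hz
  have h1 := hpow (p ^ i)
  rw [hi, one_mul, inv_one, mul_one, Subgroup.coe_mul, mul_inv_rev, mul_inv_cancel_left, inv_mem_iff] at h1
  have h2 := d.eq_one_of_mem h1 (δ ^ p ^ i).2
  haveI : Fact (Nat.Prime 2) := ⟨Nat.prime_two⟩
  have hδ1 : (δ : G) = 1 := eq_one_of_pow_pow (p := 2) (q := p) (fun e => d.hp2 e.symm)
    ⟨1, by rw [pow_one]; exact d.wmg.pow_eq_one (hδU ⟨w, hw⟩)⟩ ⟨i, by rw [← SubmonoidClass.coe_pow]; exact h2⟩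
  have h3 := hα ⟨w, hw⟩
  rw [show α ⟨w, hw⟩ = δ * ⟨w, hw⟩ by simp [δ], Subgroup.coe_mul, hδ1, one_mul] at h3
  exact h3

/-- `W` normalises the centre of the Thompson subgroup of `T`. -/
theorem normalizes_center (hAs : Stable σ A) :
    W ≤ normalizer (Cfsg.centerThompsonAOf T : Set G) := by
  classical
  let Y : Subgroup G := T ⊔ W
  have hTY : T ≤ Y := le_sup_left
  have hWY : W ≤ Y := le_sup_right
  have hAY : A ≤ Y := d.aT.trans hTY
  have hYprod : ∀ x ∈ Y, ∃ t ∈ T, ∃ w ∈ W, x = t * w := by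
    intro x hx
    have hx1 : x ∈ T ⊔ (A ⊔ W) := (sup_le_sup_left le_sup_right T : T ⊔ W ≤ _) hx
    have hx' : x ∈ ((T ⊔ (A ⊔ W) : Subgroup G) : Set G) := hx1
    rw [coe_mul_of_left_le_normalizer_right _ _ d.tM] at hx'
    obtain ⟨t, ht, m, hm, rfl⟩ := hx'
    obtain ⟨w, hw⟩ := d.exists_proj hm
    exact ⟨t * (m * (w : G)⁻¹), mul_mem ht (d.aT hw), w, w.2, by group⟩
  haveI : Fact (Nat.Prime 2) := ⟨Nat.prime_two⟩
  have hcard : Nat.card Y = Nat.card T * Nat.card W := card_of_product hTY hWY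
    (fun x hx hx' => inf_eq_bot_of_isPGroup d.hp2 d.tp d.wmg.isP hx hx') hYprod
  let TY : Subgroup Y := T.subgroupOf Y
  have hTYp : IsPGroup p TY := d.tp.of_equiv (subgroupOfEquivOfLe hTY).symm
  have hidx : ¬ p ∣ TY.index := by
    intro hd
    have h1 := TY.card_mul_index
    rw [Nat.card_congr (subgroupOfEquivOfLe hTY).toEquiv, hcard] at h1
    rw [Nat.eq_of_mul_eq_mul_left Nat.card_pos h1] at hd
    obtain ⟨n, hn⟩ := d.wmg.isP.exists_card_eq
    rw [hn] at hd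
    exact d.hp2 ((Nat.prime_dvd_prime_iff_eq hp'.out Nat.prime_two).1 (hp'.out.dvd_of_dvd_pow hd))
  let S : Sylow p Y := hTYp.toSylow hidx
  let Q : Subgroup Y → Prop := fun H => IsMulCommutative H
  have hQ : ZJ.Admissible Q := ZJ.admissible_abelian
  set Z := ZJ.famCenter Q (S : Subgroup Y) with hZdef
  have hZT : Z ≤ TY := ZJ.famCenter_le hQ _
  have hTn : TY ≤ normalizer (Z : Set Y) :=
    le_trans (le_normalizer : TY ≤ normalizer (TY : Set Y)) (ZJ.normalizer_le_famCenter hQ _)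
  have hZcomm : ∀ a ∈ Z, ∀ b ∈ Z, a * b = b * a := fun a ha b hb => ZJ.famCenter_comm hQ ha hb
  -- the elements of `T` centralising `W` modulo `A`
  let K : Subgroup G :=
    { carrier := {y | y ∈ T ∧ ∀ w ∈ W, y * w * y⁻¹ * w⁻¹ ∈ A}
      one_mem' := ⟨T.one_mem, fun w _ => by simp⟩
      mul_mem' := fun {a b} ha hb => ⟨T.mul_mem ha.1 hb.1, fun w hw => by
        have h1 := A.mul_mem (d.conj_mem (d.tA ha.1) (hb.2 w hw)) (ha.2 w hw)
        rwa [show a * (b * w * b⁻¹ * w⁻¹) * a⁻¹ * (a * w * a⁻¹ * w⁻¹) = a * b * w * (a * b)⁻¹ * w⁻¹ by group] at h1⟩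
      inv_mem' := fun {a} ha => ⟨T.inv_mem ha.1, fun w hw => by
        have h1 := d.conj_mem (d.tA (T.inv_mem ha.1)) (A.inv_mem (ha.2 w hw))
        rwa [show a⁻¹ * (a * w * a⁻¹ * w⁻¹)⁻¹ * a⁻¹⁻¹ = a⁻¹ * w * a⁻¹⁻¹ * w⁻¹ by group] at h1⟩ }
  have hAK : A ≤ K := fun a ha => ⟨d.aT ha, fun w hw => by
    rw [show a * w * a⁻¹ * w⁻¹ = a * (w * a⁻¹ * w⁻¹) by group]
    exact A.mul_mem ha (d.conj_mem (d.wA hw) (A.inv_mem ha))⟩
  have hKW : ∀ w ∈ W, ∀ y ∈ K, w * y * w⁻¹ ∈ K := fun w hw y hy => by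
    have e : w * y * w⁻¹ = (y * w * y⁻¹ * w⁻¹)⁻¹ * y := by group
    rw [e]
    exact K.mul_mem (K.inv_mem (hAK (hy.2 w hw))) hy
  have hKT : ∀ t ∈ T, ∀ y ∈ K, t * y * t⁻¹ ∈ K := fun t ht y hy => ⟨T.mul_mem (T.mul_mem ht hy.1) (T.inv_mem ht),
    fun w hw => by
      have hm : t⁻¹ * w * t ∈ A ⊔ W := by simpa using (mem_normalizer_iff.1 (inv_mem (d.tM ht)) w).1 (mem_sup_right hw)
      obtain ⟨v, hv⟩ := d.exists_proj hm
      set a := t⁻¹ * w * t * (v : G)⁻¹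
      have h1 : y * (t⁻¹ * w * t) * y⁻¹ * (t⁻¹ * w * t)⁻¹ ∈ A := by
        rw [show t⁻¹ * w * t = a * (v : G) by simp [a],
          show y * (a * (v : G)) * y⁻¹ * (a * (v : G))⁻¹ = y * a * y⁻¹ * ((y * v * y⁻¹ * (v : G)⁻¹) * a⁻¹) by group]
        exact A.mul_mem (d.conj_mem (d.tA hy.1) hv) (A.mul_mem (hy.2 v v.2) (A.inv_mem hv))
      have h2 := d.conj_mem (d.tA ht) h1
      rwa [show t * (y * (t⁻¹ * w * t) * y⁻¹ * (t⁻¹ * w * t)⁻¹) * t⁻¹ = t * y * t⁻¹ * w * (t * y * t⁻¹)⁻¹ * w⁻¹ by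
        group] at h2⟩
  have hKY : ∀ g ∈ Y, ∀ y ∈ K, g * y * g⁻¹ ∈ K := fun g hg y hy => by
    obtain ⟨t, ht, w, hw, rfl⟩ := hYprod g hg
    rw [show t * w * y * (t * w)⁻¹ = t * (w * y * w⁻¹) * t⁻¹ by group]
    exact hKT t ht _ (hKW w hw y hy)
  let KY : Subgroup Y := K.subgroupOf Y
  haveI hKn : KY.Normal := ⟨fun y hy g => hKY g g.2 y hy⟩
  have hAYn : ∀ g ∈ Y, g ∈ normalizer (A : Set G) := fun g hg => by
    obtain ⟨t, ht, w, hw, rfl⟩ := hYprod g hg
    exact mul_mem (d.tA ht) (d.wA hw)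
  -- `Z` lies there
  have hZK : Z ≤ KY := by
    intro z hz
    refine ⟨hZT hz, fun w hw => d.quad_commutator hAs (hZT hz) ?_ hw⟩
    refine le_bot_iff.1 ?_
    have h1 : ⁅A, zpowers (z : G)⁆ ≤ Z.map Y.subtype := commutator_le.2 fun a ha y hy => by
      obtain ⟨j, rfl⟩ := hy
      refine ⟨⁅(⟨a, hAY ha⟩ : Y), z ^ j⁆, ?_, by
        rw [map_commutatorElement, map_zpow]; rfl⟩
      rw [commutatorElement_def]
      exact Z.mul_mem ((mem_normalizer_iff.1 (hTn (d.aT ha : (⟨a, hAY ha⟩ : Y) ∈ TY)) _).1 (Z.zpow_mem hz j))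
        (Z.inv_mem (Z.zpow_mem hz j))
    refine (commutator_mono h1 (le_refl _)).trans (le_of_eq ?_)
    rw [commutator_eq_bot_iff_le_centralizer]
    rintro _ ⟨x, hx, rfl⟩
    refine mem_centralizer_iff.2 fun y hy => ?_
    obtain ⟨j, rfl⟩ := hy
    exact congrArg Subtype.val (hZcomm _ (Z.zpow_mem hz j) _ hx)
  have hst : ∀ (B : Subgroup Y) [B.Normal], IsPGroup p B →
      B ≤ normalClosure ((B ⊓ Z : Subgroup Y) : Set Y) → ∀ A₁ ∈ ZJ.fam Q (S : Subgroup Y), ∀ a ∈ A₁,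
      ⁅⁅B, zpowers a⁆, zpowers a⁆ = ⊥ → ZJ.PCoreMod p (centralizer (B : Set Y)) a := by
    intro B hBn hB _ A₁ hA₁ a ha hq
    set C := centralizer (B : Set Y)
    have haT : (a : G) ∈ T := hA₁.2.1 ha
    let AY : Subgroup Y := A.subgroupOf Y
    haveI hAn : AY.Normal := ⟨fun x hx g => (mem_normalizer_iff.1 (hAYn g g.2) x).1 hx⟩
    let L : Subgroup Y := AY ⊔ C
    haveI : L.Normal := Subgroup.sup_normal AY C
    -- commutators with `W`
    have hcom : ∀ w : Y, (w : G) ∈ W → a * w * a⁻¹ * w⁻¹ ∈ L := by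
      intro w hw
      obtain ⟨α, hα⟩ := d.exists_alpha haT
      set B' := B.map Y.subtype
      have hBY : Y ≤ normalizer (B' : Set G) := fun g hg => mem_normalizer_iff.2 fun x => by
        constructor
        · rintro ⟨b, hb, rfl⟩
          exact ⟨_, hBn.conj_mem b hb ⟨g, hg⟩, rfl⟩
        · rintro ⟨b, hb, e⟩
          refine ⟨_, hBn.conj_mem b hb ⟨g, hg⟩⁻¹, ?_⟩
          show g⁻¹ * (b : G) * g⁻¹⁻¹ = x
          rw [show (b : G) = g * x * g⁻¹ from e]; group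
      have hq' : ⁅⁅B', zpowers (a : G)⁆, zpowers (a : G)⁆ = ⊥ := by
        rw [show zpowers (a : G) = (zpowers a).map Y.subtype from (MonoidHom.map_zpowers Y.subtype a).symm,
          ← map_commutator, ← map_commutator, hq, Subgroup.map_bot]
      have h1 := fun b (hb : b ∈ B') => d.quad_centralize hAs haT hα B' (hB.map _) (hTY.trans hBY) (hWY.trans hBY)
        hq' ⟨w, hw⟩ hb
      have hδC : (⟨((α ⟨w, hw⟩ : W) : G) * (w : G)⁻¹, mul_mem (hWY (α ⟨w, hw⟩).2) (inv_mem w.2)⟩ : Y) ∈ C :=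
        mem_centralizer_iff.2 fun b hb => Subtype.ext ((h1 _ ⟨b, hb, rfl⟩).eq.symm)
      have hA' : (⟨(a : G) * w * (a : G)⁻¹ * ((α ⟨w, hw⟩ : W) : G)⁻¹, hAY (hα ⟨w, hw⟩)⟩ : Y) ∈ AY := hα ⟨w, hw⟩
      have h2 := L.mul_mem (mem_sup_left hA') (mem_sup_right hδC)
      convert h2 using 1
      refine Subtype.ext ?_
      show (a : G) * w * (a : G)⁻¹ * (w : G)⁻¹ = _ * _ * _ * _ * (_ * _)
      group
    -- the normal subgroup
    let D : Subgroup Y :=
      { carrier := {y | y ∈ TY ⊔ L ∧ ∀ w : Y, (w : G) ∈ W → y * w * y⁻¹ * w⁻¹ ∈ L}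
        one_mem' := ⟨one_mem _, fun w _ => by simp⟩
        mul_mem' := fun {x y} hx hy => ⟨mul_mem hx.1 hy.1, fun w hw => by
          have h1 := L.mul_mem ((inferInstance : L.Normal).conj_mem _ (hy.2 w hw) x) (hx.2 w hw)
          rwa [show x * (y * w * y⁻¹ * w⁻¹) * x⁻¹ * (x * w * x⁻¹ * w⁻¹) = x * y * w * (x * y)⁻¹ * w⁻¹ by group]
            at h1⟩
        inv_mem' := fun {x} hx => ⟨inv_mem hx.1, fun w hw => by
          have h1 := (inferInstance : L.Normal).conj_mem _ (L.inv_mem (hx.2 w hw)) x⁻¹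
          rwa [show x⁻¹ * (x * w * x⁻¹ * w⁻¹)⁻¹ * x⁻¹⁻¹ = x⁻¹ * w * x⁻¹⁻¹ * w⁻¹ by group] at h1⟩ }
    refine ⟨D, ⟨fun y hy g => ?_⟩, ⟨mem_sup_left (show a ∈ TY from haT), hcom⟩, fun x hx => ?_⟩
    · obtain ⟨t, ht, u, hu, e⟩ := hYprod g g.2
      have hg : g = ⟨t, hTY ht⟩ * ⟨u, hWY hu⟩ := Subtype.ext e
      have key : ⟨u, hWY hu⟩ * y * (⟨u, hWY hu⟩ : Y)⁻¹ ∈ D := by
        rw [show ⟨u, hWY hu⟩ * y * (⟨u, hWY hu⟩ : Y)⁻¹ = (y * ⟨u, hWY hu⟩ * y⁻¹ * (⟨u, hWY hu⟩ : Y)⁻¹)⁻¹ * y by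
          group]
        have hl := L.inv_mem (hy.2 ⟨u, hWY hu⟩ hu)
        refine D.mul_mem ⟨mem_sup_right hl, fun w _ => ?_⟩ hy
        generalize (y * ⟨u, hWY hu⟩ * y⁻¹ * (⟨u, hWY hu⟩ : Y)⁻¹)⁻¹ = l at hl ⊢
        rw [show l * w * l⁻¹ * w⁻¹ = l * (w * l⁻¹ * w⁻¹) by group]
        exact L.mul_mem hl ((inferInstance : L.Normal).conj_mem _ (L.inv_mem hl) w)
      set y' := ⟨u, hWY hu⟩ * y * (⟨u, hWY hu⟩ : Y)⁻¹
      have ht' : (⟨t, hTY ht⟩ : Y) ∈ TY ⊔ L := mem_sup_left (show (⟨t, hTY ht⟩ : Y) ∈ TY from ht)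
      rw [hg, show ⟨t, hTY ht⟩ * ⟨u, hWY hu⟩ * y * ((⟨t, hTY ht⟩ : Y) * ⟨u, hWY hu⟩)⁻¹ =
        ⟨t, hTY ht⟩ * y' * (⟨t, hTY ht⟩ : Y)⁻¹ by simp only [y']; group]
      refine ⟨mul_mem (mul_mem ht' key.1) (inv_mem ht'), fun w hw => ?_⟩
      have hm : t⁻¹ * (w : G) * t ∈ A ⊔ W := by
        simpa using (mem_normalizer_iff.1 (inv_mem (d.tM ht)) (w : G)).1 (mem_sup_right hw)
      obtain ⟨v, hv⟩ := d.exists_proj hm
      set tY : Y := ⟨t, hTY ht⟩
      set c : Y := tY⁻¹ * w * tY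
      set vY : Y := ⟨v, hWY v.2⟩
      have hca : c * vY⁻¹ ∈ L := mem_sup_left (show c * vY⁻¹ ∈ AY from hv)
      have h1 : y' * c * y'⁻¹ * c⁻¹ ∈ L := by
        rw [show y' * c * y'⁻¹ * c⁻¹ = y' * (c * vY⁻¹) * y'⁻¹ * ((y' * vY * y'⁻¹ * vY⁻¹) * (c * vY⁻¹)⁻¹) by group]
        exact L.mul_mem ((inferInstance : L.Normal).conj_mem _ hca y')
          (L.mul_mem (key.2 vY v.2) (L.inv_mem hca))
      have h2 := (inferInstance : L.Normal).conj_mem _ h1 tY
      rwa [show tY * (y' * c * y'⁻¹ * c⁻¹) * tY⁻¹ = tY * y' * tY⁻¹ * w * (tY * y' * tY⁻¹)⁻¹ * w⁻¹ by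
        simp only [c]; group] at h2
    · haveI : C.Normal := inferInstance
      have hle : TY ⊔ L ≤ TY ⊔ C := sup_le le_sup_left (sup_le
        ((fun z hz => mem_sup_left (show z ∈ TY from d.aT hz)) : AY ≤ TY ⊔ C) le_sup_right)
      have hx' : x ∈ ((TY ⊔ C : Subgroup Y) : Set Y) := hle hx.1
      rw [coe_mul_of_left_le_normalizer_right TY C (by rw [normalizer_eq_top_iff.2 ‹C.Normal›]; exact le_top)] at hx'
      obtain ⟨t, ht, c, hc, rfl⟩ := hx'
      obtain ⟨i, hi⟩ := pow_prime_pow_of_mem hTYp ht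
      refine ⟨i, ?_⟩
      rw [← QuotientGroup.eq_one_iff]
      show ((t * c : Y) : Y ⧸ C) ^ p ^ i = 1
      rw [QuotientGroup.mk_mul, (QuotientGroup.eq_one_iff c).2 hc, mul_one, ← QuotientGroup.mk_pow, hi,
        QuotientGroup.mk_one]
  have hn := ZJ.inf_famCenter_normal_of d.hp2 hQ S (S : Subgroup Y) (ZJ.stronglyClosed_self S) hst KY hKn
    (hTYp.to_le fun x hx => hx.1)
  rw [← hZdef, inf_eq_right.2 hZK] at hn
  have hmap : Cfsg.centerThompsonAOf T = Z.map Y.subtype := by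
    rw [hZdef, ZJ.famCenter_abelian_eq,
      ← ZJ.centerThompsonAOf_map Y.subtype (S : Subgroup Y) fun x _ hx => Subtype.ext hx]
    exact congrArg Cfsg.centerThompsonAOf (map_subgroupOf_eq_of_le hTY).symm
  rw [hmap]
  exact (le_trans hWY ((Subgroup.range_subtype Y).ge)).trans (fun g hg => by
    obtain ⟨g, rfl⟩ := hg
    exact le_normalizer_map Y.subtype ⟨g, by rw [normalizer_eq_top_iff.2 hn]; exact mem_top g, rfl⟩)

end TwoData

/-- The centre of the abelian Thompson subgroup: stable, non-trivial, normalised by the normaliser. -/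
theorem centerThompsonA_facts {p : ℕ} [Fact p.Prime] {σ : MulAut G} {T : Subgroup G} (hTs : Stable σ T)
    (hT : IsPGroup p T) (hT1 : T ≠ ⊥) :
    Stable σ (Cfsg.centerThompsonAOf T) ∧ Cfsg.centerThompsonAOf T ≠ ⊥ ∧ Cfsg.centerThompsonAOf T ≤ T ∧
      normalizer (T : Set G) ≤ normalizer (Cfsg.centerThompsonAOf T : Set G) := by
  rw [← ZJ.famCenter_abelian_eq]
  have hQ : ZJ.Admissible (fun A : Subgroup G => IsMulCommutative A) := ZJ.admissible_abelian
  refine ⟨fun x hx => ?_, ?_, ZJ.famCenter_le hQ T, ZJ.normalizer_le_famCenter hQ T⟩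
  · have h1 := (ZJ.famCenter_map hQ σ T).le ⟨x, hx, rfl⟩
    rwa [hTs.map_eq] at h1
  · intro e
    set Zt := T ⊓ centralizer (T : Set G)
    have hle : Zt ≤ ZJ.famCenter (fun A : Subgroup G => IsMulCommutative A) T := by
      refine le_sInf fun B hB => ?_
      haveI : IsMulCommutative B := hB.1
      have hcomm : ∀ a ∈ (B : Set G) ∪ (Zt : Set G), ∀ b ∈ (B : Set G) ∪ (Zt : Set G), a * b = b * a := by
        rintro a (ha | ha) b (hb | hb)
        · exact congrArg Subtype.val (hB.1.is_comm.comm (⟨a, ha⟩ : B) ⟨b, hb⟩)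
        · exact mem_centralizer_iff.1 hb.2 a (hB.2.1 ha)
        · exact (mem_centralizer_iff.1 ha.2 b (hB.2.1 hb)).symm
        · exact mem_centralizer_iff.1 hb.2 a ha.1
      have h1 : IsMulCommutative (closure ((B : Set G) ∪ (Zt : Set G))) := isMulCommutative_closure hcomm
      rw [← Subgroup.sup_eq_closure] at h1
      have h2 := hB.2.2 (B ⊔ Zt) h1 (sup_le hB.2.1 inf_le_left)
      exact le_sup_right.trans (eq_of_le_of_card_ge le_sup_left h2).ge
    rw [e, le_bot_iff] at hle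
    haveI : Nontrivial T := (Subgroup.nontrivial_iff_ne_bot T).2 hT1
    haveI := hT.center_nontrivial
    obtain ⟨⟨z, hz⟩, hz1⟩ := exists_ne (1 : center T)
    refine hz1 (Subtype.ext (Subtype.ext ?_))
    have hzt : (z : G) ∈ Zt := ⟨z.2, mem_centralizer_iff.2 fun v hv =>
      congrArg Subtype.val (mem_center_iff.1 hz ⟨v, hv⟩)⟩
    rw [hle, Subgroup.mem_bot] at hzt
    exact hzt

end CfsgLib.HHShultGen
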