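import Mathlib
import Cfsg.Agent.HHShultGen.CaseOne
import Cfsg.Agent.HHShultGen.CaseTwo
import Cfsg.Agent.HHShult.LemmaB

/-!
An automorphism of prime order without fixed vectors in odd characteristic: the displacements form a `p`-group
extended by a two-group.
-/

set_option autoImplicit false
set_option linter.style.haveILetI false
set_option linter.unusedSectionVars false

namespace CfsgLib.HHShultGen

open Subgroup CfsgLib.HHShult Module
open scoped commutatorElement

universe u v w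

namespace GCex

variable {G : Type*} [Group G] [Finite G] {σ : MulAut G} {r : ℕ}
variable {k : Type*} [Field k] {V : Type*} [AddCommGroup V] [Module k V]
variable {p : ℕ} [hp' : Fact p.Prime] [CharP k p] [IsAlgClosed k] [FiniteDimensional k V]
variable {ρ : G →* Module.End k V} {φ : Module.End k V} (h : GCex σ r p ρ φ)
include h

/-- A proper stable overgroup of `W` has no further displacements. -/
theorem moved_eq (S : Sylow 2 G) (hS : Stable σ (S : Subgroup G)) {Y : Subgroup G} (hY : Stable σ Y) (hne : Y ≠ ⊤)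
    (hWY : moved σ (S : Subgroup G) ≤ Y) : moved σ Y = moved σ (S : Subgroup G) := by
  classical
  haveI : Fact (Nat.Prime 2) := ⟨Nat.prime_two⟩
  set W := moved σ (S : Subgroup G) with hW
  have hWs : Stable σ W := stable_moved hS
  have hWm : moved σ W = W := h.cop.moved_moved hS
  have hWmg : MovedGroup σ r 2 W := h.toBase.movedGroup h.toBase.two_ne S.isPGroup' hS
  by_contra hcon
  -- a first candidate
  obtain ⟨A0, hA0, hA0s, hWA0, hsup0, -, -⟩ := h.exists_split_over S hS hY hne hWY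
  rw [← hW] at hWA0 hsup0
  have hA0Y : A0 ⊔ W ≠ ⊤ := fun e => hne (top_le_iff.1 (e ▸ (hsup0.ge.trans (moved_le hY))))
  have hA0m : moved σ A0 ≠ ⊥ := fun e => hcon (by
    refine le_antisymm ?_ ((h.cop.moved_moved hS).ge.trans (moved_mono hWY))
    rw [← h.cop.moved_moved hY]
    refine moved_le_iff.2 fun x hx => ?_
    have hx' : x ∈ ((A0 ⊔ W : Subgroup G) : Set G) := hsup0.le hx
    rw [coe_mul_of_right_le_normalizer_left _ _ hWA0] at hx'
    obtain ⟨a, ha, w, hw, rfl⟩ := hx'
    show (a * w)⁻¹ * σ (a * w) ∈ W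
    rw [disp_fixed_mul (moved_eq_bot.1 e a ha)]
    exact mul_mem (inv_mem hw) (hWs w hw))
  obtain ⟨T, ⟨hTp, hTs, hTm, hTW⟩, hmax⟩ := Set.exists_max_image
    {T : Subgroup G | IsPGroup p T ∧ Stable σ T ∧ moved σ T ≠ ⊥ ∧ T ⊔ W ≠ ⊤} (fun T => Nat.card T) (Set.toFinite _)
    ⟨A0, hA0, hA0s, hA0m, hA0Y⟩
  have hY0s : Stable σ (T ⊔ W) := hTs.sup hWs
  obtain ⟨A, hA, hAs, hWA, hsup, hAn, hall⟩ := h.exists_split_over S hS hY0s hTW le_sup_right
  rw [← hW] at hWA hsup
  have hTn : T ≤ normalizer (A : Set G) := fun g hg => hAn g (le_normalizer_moved hY0s (mem_sup_left hg))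
  have hbig : ∀ A' : Subgroup G, IsPGroup p A' → Stable σ A' → T ≤ normalizer (A' : Set G) →
      (T ⊔ A') ⊔ W ≠ ⊤ → A' ≤ T := fun A' hA' hA's hn hne' => by
    have h1 := hmax (T ⊔ A') ⟨hTp.to_sup_of_normal_right' hA' hn, hTs.sup hA's,
      ne_bot_of_le_ne_bot hTm (moved_mono le_sup_left), hne'⟩
    exact le_sup_right.trans (eq_of_le_of_card_ge le_sup_left h1).ge
  have hAT : A ≤ T := hbig A hA hAs hTn fun e => hTW (top_le_iff.1 (e.ge.trans (sup_le (sup_le le_sup_left
    (le_sup_left.trans (hsup.ge.trans (moved_le hY0s)))) le_sup_right)))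
  have hTA : moved σ T ≤ A := fun x hx =>
    hall x (moved_mono le_sup_left hx) (pow_prime_pow_of_mem hTp (moved_le hTs hx))
  have hA1 : A ≠ ⊥ := ne_bot_of_le_ne_bot hTm hTA
  have hNA : normalizer (A : Set G) ≠ ⊤ := fun e => by
    haveI : A.Normal := normalizer_eq_top_iff.1 e
    exact hA1 (h.toBase.eq_bot_of_normal hA hAs)
  have hnormA : ∀ g ∈ normalizer (A : Set G), g ∈ normalizer ((A ⊔ W : Subgroup G) : Set G) := by
    intro g hg
    have hNs := hAs.normalizer
    obtain ⟨A', hA', hA's, hWA', hsup', hA'n, -⟩ := h.exists_split_over S hS hNs hNA hWA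
    rw [← hW] at hWA' hsup'
    have hle : A' ≤ T := hbig A' hA' hA's (fun t ht => hA'n t (le_normalizer_moved hNs (hTn ht))) fun e =>
      hNA (top_le_iff.1 (e.ge.trans (sup_le (sup_le hTn
        (le_sup_left.trans (hsup'.ge.trans (moved_le hNs)))) hWA)))
    have e : moved σ (normalizer (A : Set G)) = A ⊔ W := by
      rw [← hsup]
      refine le_antisymm ?_ ((h.cop.moved_moved hY0s).ge.trans (moved_mono ?_))
      · rw [← h.cop.moved_moved hNs, hsup']
        exact moved_mono (sup_le (hle.trans le_sup_left) le_sup_right)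
      · exact (moved_le hY0s).trans (sup_le hTn hWA)
    rw [← e]
    exact le_normalizer_moved hNs hg
  obtain ⟨P, hPs, hTP⟩ := h.cop.le_stable_sylow hTp hTs
  have hTPne : T ≠ (P : Subgroup G) := fun e =>
    hTW (h.eq_top_of_sylow_le S hS hY0s le_sup_right P hPs (e ▸ le_sup_left))
  have hup : ∃ R : Subgroup G, IsPGroup p R ∧ Stable σ R ∧ T < R ∧ R ≤ normalizer (T : Set G) := by
    refine ⟨(P : Subgroup G) ⊓ normalizer (T : Set G), P.isPGroup'.to_le inf_le_left, hPs.inf hTs.normalizer, ?_,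
      inf_le_right⟩
    refine lt_of_le_of_ne (le_inf hTP le_normalizer) fun e => ?_
    haveI := P.isPGroup'.isNilpotent
    have hlt : T.subgroupOf (P : Subgroup G) < ⊤ :=
      lt_top_iff_ne_top.2 fun e' => hTPne (le_antisymm hTP (subgroupOf_eq_top.1 e'))
    obtain ⟨⟨x, hx⟩, hxn, hxT⟩ := SetLike.exists_of_lt (Group.normalizerCondition_of_isNilpotent _ hlt)
    refine hxT (e.ge ⟨hx, mem_normalizer_iff.2 fun y => ?_⟩)
    constructor
    · intro hy
      exact ((mem_normalizer_iff.1 hxn ⟨y, hTP hy⟩).1 hy : _)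
    · intro hy
      have hyP : y ∈ (P : Subgroup G) := by
        have := (P : Subgroup G).mul_mem ((P : Subgroup G).mul_mem (inv_mem hx) (hTP hy : x * y * x⁻¹ ∈ _)) hx
        rwa [show x⁻¹ * (x * y * x⁻¹) * x = y by group] at this
      exact (mem_normalizer_iff.1 hxn ⟨y, hyP⟩).2 hy
  have c : Crux σ r p ρ φ W T A :=
    { gcex := h
      wmg := hWmg
      conjW := fun Q hQ hQs => h.moved_two_le_conj S hS hQ hQs
      tp := hTp
      ts := hTs
      tmoved := hTm
      tW := hTW
      tmax := fun T' h1 h2 h3 h4 => hmax T' ⟨h1, h2, h3, h4⟩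
      apg := hA
      as := hAs
      aT := hAT
      tA := hTn
      wA := hWA
      movedT := hTA
      normA := hnormA
      up := hup }
  by_cases hW1 : moved σ (wzero W A) = ⊥
  swap
  · exact c.caseOne hW1
  have hfix := moved_eq_bot.1 hW1
  have d : TwoData σ r p W T A :=
    { hp2 := h.toBase.hp
      hrp := h.prime_ne
      wmg := hWmg
      tp := hTp
      ts := hTs
      aT := hAT
      tA := hTn
      wA := hWA
      tM := fun g hg => hnormA g (hTn hg)
      movedT := hTA
      fix := fun w hw hwA => hfix w ⟨hw, hwA⟩ }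
  have hT1 : T ≠ ⊥ := ne_bot_of_le_ne_bot hA1 hAT
  obtain ⟨hXs, hX1, hXT, hXn⟩ := centerThompsonA_facts hTs hTp hT1
  obtain ⟨R, hR, hRs, hTR, hRn⟩ := hup
  have hWX := d.normalizes_center hAs
  have hNX : normalizer (Cfsg.centerThompsonAOf T : Set G) ≠ ⊤ := fun e => by
    haveI : (Cfsg.centerThompsonAOf T).Normal := normalizer_eq_top_iff.1 e
    exact hX1 (h.toBase.eq_bot_of_normal (hTp.to_le hXT) hXs)
  have h1 := hmax R ⟨hR, hRs, ne_bot_of_le_ne_bot hTm (moved_mono hTR.le),
    fun e => hNX (top_le_iff.1 (e.ge.trans (sup_le (hRn.trans hXn) hWX)))⟩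
  exact absurd h1 (not_le.2 (Solvable.card_lt_of_lt hTR))

theorem endgame : Endgame σ r p where
  fixed_of_odd := fun hqp hq2 _ hQ hQs _ hx => h.toBase.fixed_of_odd hqp hq2 hQ hQs hx
  index_fixed_dvd := fun S hS P => by
    have e : (fixedPart σ (moved σ (S : Subgroup G))).relIndex (moved σ (S : Subgroup G)) =
        (fixedSubgroup σ).relIndex (S : Subgroup G) := by
      rw [relIndex_fixed_of_moved_le h.cop hS (moved_le hS) le_rfl]
      show (moved σ (S : Subgroup G) ⊓ fixedSubgroup σ).relIndex _ = _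
      rw [inf_comm, inf_relIndex_right]
    rw [e]
    exact (h.index_dvd_rel P S).trans (Nat.mul_dvd_mul_right (relIndex_dvd_card _ _) _)
  center_ne_top := h.center_ne_top
  exists_conf := by
    haveI : Fact (Nat.Prime 2) := ⟨Nat.prime_two⟩
    obtain ⟨S, hS⟩ := h.cop.exists_sylow 2
    exact h.toBase.exists_conf_of h.dvd_card (fun z hz => h.center_fixed hz)
      (fun N hN hNs hNne => @GCex.normal_le_center G _ _ σ r k _ V _ _ p hp' _ _ _ ρ φ h N hN hNs hNne)
      S hS (h.moved_ne_bot S hS) fun Y hY hne hWY => h.moved_eq S hS hY hne hWY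

theorem false : False := h.endgame.false

end GCex

variable {p r : ℕ} [hp' : Fact p.Prime] {k : Type w} [Field k]

theorem hasPTwo_of_isPGroup_two {G : Type u} [Group G] {M : Subgroup G} (hM : IsPGroup 2 M) : HasPTwo p M :=
  ⟨⊥, bot_le, IsPGroup.of_bot, fun g _ => mem_normalizer_iff.2 fun y => by simp,
    fun x hx => (hM ⟨x, hx⟩).imp fun i hi => Subgroup.mem_bot.2 (congrArg Subtype.val hi)⟩

/-- The image of the group on a module. -/
theorem pull {G : Type u} [Group G] [Finite G] {σ : MulAut G} {M : Type v} [AddCommGroup M] [Module k M]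
    {ρ' : G →* Module.End k M} {φ' : Module.End k M} (hf : FixFree σ r ρ' φ')
    (H : ∀ {Q : Type u} [Group Q] [Finite Q] {τ : MulAut Q} (ρ0 : Q →* Module.End k M), Nat.card Q ≤ Nat.card G →
      Function.Injective ρ0 → FixFree τ r ρ0 φ' → HasPTwo p (moved τ (⊤ : Subgroup Q))) :
    ∃ P : Subgroup G, (∀ x ∈ P, ∃ i : ℕ, ρ' (x ^ p ^ i) = 1) ∧
      moved σ (⊤ : Subgroup G) ≤ normalizer (P : Set G) ∧
      ∀ x ∈ moved σ (⊤ : Subgroup G), ∃ i : ℕ, x ^ 2 ^ i ∈ P := by
  let σ' : MulAut (G ⧸ ρ'.ker) := QuotientGroup.congr ρ'.ker ρ'.ker σ hf.stable_ker.map_eq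
  have hσ' : ∀ x : G, σ' (x : G ⧸ ρ'.ker) = ((σ x : G) : G ⧸ ρ'.ker) := fun _ => rfl
  have hσn : ∀ (i : ℕ) (x : G), (σ' ^ i) (x : G ⧸ ρ'.ker) = (((σ ^ i) x : G) : G ⧸ ρ'.ker) := by
    intro i
    induction i with
    | zero => intro x; rfl
    | succ i ihi => intro x; rw [pow_succ', pow_succ', MulAut.mul_apply, MulAut.mul_apply, ihi, hσ']
  have hdvd : Nat.card (G ⧸ ρ'.ker) ∣ Nat.card G := Subgroup.card_quotient_dvd_card _
  have h1 : Function.Injective (QuotientGroup.lift ρ'.ker ρ' le_rfl) := (injective_iff_map_eq_one _).2 fun y =>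
    QuotientGroup.induction_on y fun x hx => (QuotientGroup.eq_one_iff x).2 (MonoidHom.mem_ker.2 hx)
  have h2 : CopAut σ' r := ⟨hf.cop.prime, MulEquiv.ext fun y => QuotientGroup.induction_on y fun x => by
        rw [hσn, hf.cop.pow_eq]; rfl, fun hd => hf.cop.cop (hd.trans hdvd)⟩
  have h3 : FixFree σ' r (QuotientGroup.lift ρ'.ker ρ' le_rfl) φ' := ⟨h2, fun y => QuotientGroup.induction_on y
        fun x => by rw [hσ', QuotientGroup.lift_mk, QuotientGroup.lift_mk]; exact hf.compat x, hf.pow_eq, hf.fixed⟩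
  obtain ⟨P, -, hP, hPn, htwo⟩ := H (Q := G ⧸ ρ'.ker) (τ := σ') (QuotientGroup.lift ρ'.ker ρ' le_rfl)
    (Nat.le_of_dvd Nat.card_pos hdvd) h1 h3
  have hmap : moved σ (⊤ : Subgroup G) ≤ (moved σ' (⊤ : Subgroup (G ⧸ ρ'.ker))).comap (QuotientGroup.mk' _) :=
    moved_le_iff.2 fun g _ => by
      show ((g⁻¹ * σ g : G) : G ⧸ ρ'.ker) ∈ moved σ' (⊤ : Subgroup (G ⧸ ρ'.ker))
      rw [QuotientGroup.mk_mul, QuotientGroup.mk_inv, ← hσ']
      exact mem_moved (mem_top _)
  refine ⟨P.comap (QuotientGroup.mk' _), fun x hx => ?_, fun g hg => ?_, fun x hx => ?_⟩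
  · obtain ⟨i, hi⟩ := hP ⟨_, hx⟩
    have h4 : ((x ^ p ^ i : G) : G ⧸ ρ'.ker) = 1 := congrArg Subtype.val hi
    exact ⟨i, (QuotientGroup.eq_one_iff _).1 h4⟩
  · refine mem_normalizer_iff.2 fun x => ?_
    have h4 := mem_normalizer_iff.1 (hPn (hmap hg)) ((x : G) : G ⧸ ρ'.ker)
    exact h4
  · obtain ⟨i, hi⟩ := htwo _ (hmap hx)
    exact ⟨i, hi⟩

theorem hasPTwo_aux [CharP k p] [IsAlgClosed k] (hp : p ≠ 2) (n : ℕ) :
    ∀ {G : Type u} [Group G] [Finite G] {σ : MulAut G} {V : Type v} [AddCommGroup V] [Module k V]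
      [FiniteDimensional k V] (ρ : G →* Module.End k V) (φ : Module.End k V), Nat.card G + finrank k V ≤ n →
      Function.Injective ρ → FixFree σ r ρ φ → HasPTwo p (moved σ (⊤ : Subgroup G)) := by
  induction n using Nat.strong_induction_on with
  | _ n ih =>
  intro G _ _ σ V _ _ _ ρ φ hn hinj hff
  by_contra hnot
  refine GCex.false (k := k) (ρ := ρ) (φ := φ) ⟨⟨hp, hinj, hff, ?_⟩, ?_, fun h2 => hnot (hasPTwo_of_isPGroup_two h2)⟩
  · intro U hU hUφ
    by_contra hcon
    push Not at hcon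
    obtain ⟨hUbot, hUtop⟩ := hcon
    let φ1 : Module.End k U := φ.restrict hUφ
    let ρ1 : G →* Module.End k U :=
      { toFun := fun x => (ρ x).restrict (hU x)
        map_one' := LinearMap.ext fun v => Subtype.ext (by simp)
        map_mul' := fun x y => LinearMap.ext fun v => Subtype.ext (by simp) }
    let φ2 : Module.End k (V ⧸ U) := U.mapQ U φ hUφ
    let ρ2 : G →* Module.End k (V ⧸ U) :=
      { toFun := fun x => U.mapQ U (ρ x) (hU x)
        map_one' := Submodule.linearMap_qext _ (LinearMap.ext fun v => by simp)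
        map_mul' := fun x y => Submodule.linearMap_qext _ (LinearMap.ext fun v => by simp) }
    have hpow1 : ∀ i : ℕ, ∀ v : U, (((φ1 ^ i) v : U) : V) = (φ ^ i) v := by
      intro i
      induction i with
      | zero => intro v; rfl
      | succ i ihi => intro v; rw [pow_succ', pow_succ', Module.End.mul_apply, Module.End.mul_apply, ← ihi]; rfl
    have hpow2 : ∀ i : ℕ, ∀ v : V, (φ2 ^ i) (Submodule.Quotient.mk v) = Submodule.Quotient.mk ((φ ^ i) v) := by
      intro i
      induction i with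
      | zero => intro v; rfl
      | succ i ihi => intro v; rw [pow_succ', pow_succ', Module.End.mul_apply, Module.End.mul_apply, ihi]; rfl
    have hsurj : ∀ u : U, ∃ u' : U, φ1 u' - u' = u := by
      refine LinearMap.surjective_of_injective (f := φ1 - 1) ((injective_iff_map_eq_zero _).2 fun v hv => ?_)
      exact Subtype.ext (hff.fixed _ (congrArg Subtype.val (sub_eq_zero.1 hv)))
    have hf1 : FixFree σ r ρ1 φ1 :=
      ⟨hff.cop, fun x => LinearMap.ext fun v => Subtype.ext (LinearMap.congr_fun (hff.compat x) (v : V)),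
        LinearMap.ext fun v => Subtype.ext (by rw [hpow1, hff.pow_eq]; rfl),
        fun v hv => Subtype.ext (hff.fixed _ (congrArg Subtype.val hv))⟩
    have hf2 : FixFree σ r ρ2 φ2 := by
      refine ⟨hff.cop, fun x => Submodule.linearMap_qext _ (LinearMap.ext fun v => ?_),
        Submodule.linearMap_qext _ (LinearMap.ext fun v => ?_), fun v => ?_⟩
      · exact congrArg Submodule.Quotient.mk (LinearMap.congr_fun (hff.compat x) v)
      · show (φ2 ^ r) (Submodule.Quotient.mk v) = Submodule.Quotient.mk v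
        rw [hpow2, hff.pow_eq]; rfl
      · induction v using Submodule.Quotient.induction_on with
        | _ v =>
          intro hv
          obtain ⟨u', hu'⟩ := hsurj ⟨φ v - v, (Submodule.Quotient.eq U).1 hv⟩
          have h2 : φ (v - (u' : V)) = v - u' := by
            have h3 : φ (u' : V) - u' = φ v - v := congrArg Subtype.val hu'
            rw [map_sub, sub_eq_sub_iff_sub_eq_sub, ← h3]
          rw [Submodule.Quotient.mk_eq_zero, sub_eq_zero.1 (hff.fixed _ h2)]
          exact u'.2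
    have hquot : ∀ {M : Type v} [AddCommGroup M] [Module k M] [FiniteDimensional k M] (ρ' : G →* Module.End k M)
        (φ' : Module.End k M), finrank k M < finrank k V → FixFree σ r ρ' φ' →
        ∃ P : Subgroup G, (∀ x ∈ P, ∃ i : ℕ, ρ' (x ^ p ^ i) = 1) ∧
          moved σ (⊤ : Subgroup G) ≤ normalizer (P : Set G) ∧
          ∀ x ∈ moved σ (⊤ : Subgroup G), ∃ i : ℕ, x ^ 2 ^ i ∈ P := fun {M} _ _ _ ρ' φ' hlt hf =>
      pull hf fun {Q} _ _ {τ} ρ0 hcard h0 h1 =>
        ih _ (show Nat.card Q + finrank k M < n by omega) ρ0 φ' le_rfl h0 h1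
    obtain ⟨P1, hP1, hP1n, hP1two⟩ := hquot ρ1 φ1 (Submodule.finrank_lt hUtop) hf1
    obtain ⟨P2, hP2, hP2n, hP2two⟩ := hquot ρ2 φ2 (by
      have h1 := U.finrank_quotient_add_finrank
      have h2 : finrank k U ≠ 0 := fun e => hUbot (Submodule.finrank_eq_zero.1 e)
      omega) hf2
    set M := moved σ (⊤ : Subgroup G)
    refine hnot ⟨M ⊓ (P1 ⊓ P2), inf_le_left, fun x => ?_, fun g hg => ?_, fun x hx => ?_⟩
    · obtain ⟨x, -, hx1, hx2⟩ := x
      obtain ⟨i, hi⟩ := hP1 x hx1
      obtain ⟨j, hj⟩ := hP2 _ (P2.pow_mem hx2 (p ^ i))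
      refine ⟨i + j + 1, Subtype.ext (hinj ?_)⟩
      show ρ (x ^ p ^ (i + j + 1)) = ρ 1
      have hi' : ρ1 ((x ^ p ^ i) ^ p ^ j) = 1 := by rw [map_pow, hi, one_pow]
      rw [map_one, show x ^ p ^ (i + j + 1) = ((x ^ p ^ i) ^ p ^ j) ^ p by
        rw [← pow_mul, ← pow_mul, pow_succ, pow_add, mul_assoc], map_pow]
      refine pow_eq_one_of_sq_zero (p := p) (LinearMap.ext fun v => ?_)
      set y := (x ^ p ^ i) ^ p ^ j
      have hmem : ρ y v - v ∈ U := (Submodule.Quotient.eq U).1 (LinearMap.congr_fun hj (Submodule.Quotient.mk v) : _)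
      rw [Module.End.mul_apply, LinearMap.sub_apply, LinearMap.sub_apply, Module.End.one_apply, Module.End.one_apply,
        LinearMap.zero_apply, sub_eq_zero]
      exact congrArg Subtype.val (LinearMap.congr_fun hi' ⟨_, hmem⟩)
    · refine mem_normalizer_iff.2 fun x => and_congr (mem_normalizer_iff.1 (le_normalizer hg) x) ?_
      exact and_congr (mem_normalizer_iff.1 (hP1n hg) x) (mem_normalizer_iff.1 (hP2n hg) x)
    · obtain ⟨i, hi⟩ := hP1two x hx
      obtain ⟨j, hj⟩ := hP2two x hx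
      refine ⟨i + j, M.pow_mem hx _, ?_, ?_⟩
      · rw [pow_add, pow_mul]; exact P1.pow_mem hi _
      · rw [pow_add, mul_comm, pow_mul]; exact P2.pow_mem hj _
  · intro Y hY hne
    have hlt : Nat.card Y < Nat.card G := lt_of_le_of_ne (Nat.le_of_dvd Nat.card_pos Y.card_subgroup_dvd_card)
      fun e => hne (Subgroup.eq_top_of_card_eq Y e)
    let τ : MulAut Y := MulEquiv.ofBijective ((σ.toMonoidHom.comp Y.subtype).codRestrict Y fun y => hY y y.2)
      (Finite.injective_iff_bijective.1 fun a b e => Subtype.ext (σ.injective (congrArg Subtype.val e)))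
    have hf : FixFree τ r (ρ.comp Y.subtype) φ :=
      ⟨hff.cop.restrict Y τ fun _ => rfl, fun y => hff.compat y, hff.pow_eq, hff.fixed⟩
    obtain ⟨P, hPle, hP, hPn, htwo⟩ := ih _ (show Nat.card Y + finrank k V < n by omega) (ρ.comp Y.subtype) φ le_rfl
      (hinj.comp Subtype.coe_injective) hf
    have hmap : moved σ Y ≤ (moved τ (⊤ : Subgroup Y)).map Y.subtype := moved_le_iff.2 fun y hy =>
      ⟨(⟨y, hy⟩ : Y)⁻¹ * τ ⟨y, hy⟩, mem_moved (mem_top _), rfl⟩
    have hle : (moved τ (⊤ : Subgroup Y)).map Y.subtype ≤ moved σ Y :=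
      map_le_iff_le_comap.2 (moved_le_iff.2 fun y _ => mem_moved y.2)
    refine ⟨P.map Y.subtype, (map_mono hPle).trans hle, hP.map _, ?_, fun x hx => ?_⟩
    · exact hmap.trans ((map_mono hPn).trans (le_normalizer_map _))
    · obtain ⟨y, hy, rfl⟩ := hmap hx
      obtain ⟨i, hi⟩ := htwo y hy
      exact ⟨i, y ^ 2 ^ i, hi, map_pow _ _ _⟩

/-- An automorphism of prime order acting compatibly without fixed vectors in odd characteristic: the
displacements form a `p`-group extended by a two-group. -/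
theorem hasPTwo_of_fixFree [CharP k p] [IsAlgClosed k] (hp : p ≠ 2) {G : Type u} [Group G] [Finite G]
    {σ : MulAut G} {V : Type v} [AddCommGroup V] [Module k V] [FiniteDimensional k V] (ρ : G →* Module.End k V)
    (φ : Module.End k V) (hinj : Function.Injective ρ) (hff : FixFree σ r ρ φ) :
    HasPTwo p (moved σ (⊤ : Subgroup G)) :=
  hasPTwo_aux hp _ ρ φ le_rfl hinj hff

end CfsgLib.HHShultGen
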