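import Mathlib
import Cfsg.Prelude.Def_Transfer
import Cfsg.Agent.HHShultGen.Final
import Cfsg.Agent.KGroup.TISquares

/-!
The displacements of an automorphism of prime order without fixed vectors on an irreducible module form a
special two-group.
-/

set_option autoImplicit false
set_option linter.style.haveILetI false
set_option linter.unusedSectionVars false

namespace CfsgLib.HHShultGen

open Subgroup CfsgLib.HHShult
open scoped commutatorElement TensorProduct

universe u v w

section

variable {G : Type*} [Group G] [Finite G] {σ : MulAut G} {r : ℕ}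

/-- A moved two-group is special. -/
theorem isSpecial_of_movedGroup {W : Subgroup G} (h : MovedGroup σ r 2 W) : Cfsg.IsSpecial 2 W := by
  haveI : Fact (Nat.Prime 2) := ⟨Nat.prime_two⟩
  have hcen : ∀ x : W, x ∈ center W ↔ (x : G) ∈ fixedPart σ W := fun x => by
    refine ⟨fun hx => ⟨x.2, h.central_fixed x.2 fun w hw => ?_⟩, fun hx => mem_center_iff.2 fun y => Subtype.ext ?_⟩
    · exact congrArg Subtype.val (mem_center_iff.1 hx ⟨w, hw⟩).symm
    · exact (h.fixedPart_central hx y.2).symm
  have h1 : frattini W ≤ center W := by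
    intro x hx
    have h2 : frattini (W ⧸ center W) = ⊥ := CfsgLib.TISet.frattini_eq_bot_of_sq fun g =>
      QuotientGroup.induction_on g fun y => by
        rw [← QuotientGroup.mk_pow, QuotientGroup.eq_one_iff, hcen]
        exact h.pow_mem_fixedPart y.2
    have h3 := frattini_le_comap_frattini_of_surjective (QuotientGroup.mk'_surjective (center W)) hx
    rw [h2, MonoidHom.comap_bot, QuotientGroup.ker_mk'] at h3
    exact h3
  have h2 : center W ≤ commutator W := by
    intro x hx
    have h3 := h.fixed_le_commutator x.2 ((hcen x).1 hx).2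
    rw [← map_subtype_commutator] at h3
    obtain ⟨y, hy, e⟩ := h3
    rwa [← show y = x from Subtype.ext e]
  have h3 : commutator W ≤ frattini W := by
    have hsq : ∀ q : W ⧸ frattini W, q * q = 1 := fun q => QuotientGroup.induction_on q fun y => by
      rw [← QuotientGroup.mk_mul, QuotientGroup.eq_one_iff, ← pow_two]
      exact CfsgLib.TISquares.sq_mem_frattini h.isP y
    refine commutator_le.2 fun a _ b _ => ?_
    rw [← QuotientGroup.eq_one_iff, ← QuotientGroup.mk'_apply (N := frattini W), map_commutatorElement,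
      commutatorElement_eq_one_iff_mul_comm]
    set a' := QuotientGroup.mk' (frattini W) a
    set b' := QuotientGroup.mk' (frattini W) b
    have hinv : ∀ q : W ⧸ frattini W, q⁻¹ = q := fun q => inv_eq_of_mul_eq_one_right (hsq q)
    calc a' * b' = (a' * b')⁻¹ := (hinv _).symm
      _ = b'⁻¹ * a'⁻¹ := mul_inv_rev a' b'
      _ = b' * a' := by rw [hinv, hinv]
  exact ⟨h.isP, le_antisymm h1 (h2.trans h3), le_antisymm (h3.trans h1) h2⟩

theorem isSpecial_of_mulEquiv {A B : Type u} [Group A] [Group B] (e : A ≃* B) (h : Cfsg.IsSpecial 2 A) :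
    Cfsg.IsSpecial 2 B := by
  obtain ⟨h1, h2, h3⟩ := h
  have hF : (frattini A).map e.toMonoidHom = frattini B := by
    refine le_antisymm (map_le_iff_le_comap.2 (frattini_le_comap_frattini_of_surjective e.surjective))
      fun b hb => ⟨e.symm b, ?_, e.apply_symm_apply b⟩
    exact frattini_le_comap_frattini_of_surjective (φ := e.symm.toMonoidHom) e.symm.surjective hb
  have hC : (center A).map e.toMonoidHom = center B := by
    ext b
    obtain ⟨a, rfl⟩ := e.surjective b
    rw [mem_map_equiv, e.symm_apply_apply, mem_center_iff, mem_center_iff]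
    exact ⟨fun ha b => by obtain ⟨c, rfl⟩ := e.surjective b; rw [← map_mul, ← map_mul, ha c],
      fun ha c => e.injective (by rw [map_mul, map_mul, ha])⟩
  refine ⟨h1.of_equiv e, by rw [← hF, h2, hC], ?_⟩
  rw [commutator_def, ← hC, ← h3, commutator_def, Subgroup.map_commutator,
    Subgroup.map_top_of_surjective _ e.surjective]

end

/-- The theorem over an arbitrary field, for the displacements. -/
theorem moved_top_special {G : Type u} [Group G] [Finite G] {σ : MulAut G} {r p : ℕ} [hp' : Fact p.Prime]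
    {k : Type w} [Field k] [CharP k p] {V : Type v} [AddCommGroup V] [Module k V] [FiniteDimensional k V]
    (ρ : G →* Module.End k V) (φ : Module.End k V) (hinj : Function.Injective ρ) (hff : FixFree σ r ρ φ)
    (hrk : (r : k) ≠ 0)
    (hno : ∀ A : Subgroup G, A.Normal → Stable σ A → IsPGroup p A → A = ⊥) :
    moved σ (⊤ : Subgroup G) = ⊥ ∨ ((∃ m : ℕ, r = 2 ^ m + 1) ∧ MovedGroup σ r 2 (moved σ (⊤ : Subgroup G))) := by
  classical
  haveI : Fact (Nat.Prime 2) := ⟨Nat.prime_two⟩
  let K := AlgebraicClosure k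
  haveI : CharP K p := charP_of_injective_algebraMap (algebraMap k K).injective p
  let bc : Module.End k V →ₐ[k] Module.End K (K ⊗[k] V) := Module.End.baseChangeHom k K V
  have hbc : Function.Injective bc := LinearMap.baseChangeHom_injective k V K
  let ρK : G →* Module.End K (K ⊗[k] V) := bc.toRingHom.toMonoidHom.comp ρ
  let φK : Module.End K (K ⊗[k] V) := bc φ
  have hinjK : Function.Injective ρK := hbc.comp hinj
  have hrK : (r : K) ≠ 0 := fun e => hrk ((algebraMap k K).injective (by rw [map_natCast, e, map_zero]))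
  have hffK : FixFree σ r ρK φK := by
    refine ⟨hff.cop, fun x => ?_, ?_, fun v hv => ?_⟩
    · show bc φ * bc (ρ x) = bc (ρ (σ x)) * bc φ
      rw [← map_mul, ← map_mul, hff.compat]
    · show bc φ ^ r = 1
      rw [← map_pow, hff.pow_eq, map_one]
    · have h1 := congrArg bc hff.sum_eq_zero
      rw [map_sum, map_zero] at h1
      have h2 := LinearMap.congr_fun h1 v
      have hn : ∀ i : ℕ, (φK ^ i) v = v := fun i => by
        induction i with
        | zero => rfl
        | succ i ih => rw [pow_succ, Module.End.mul_apply, hv, ih]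
      rw [LinearMap.sum_apply, Finset.sum_congr rfl fun i _ => (show (bc (φ ^ i)) v = v by rw [map_pow]; exact hn i),
        Finset.sum_const, Finset.card_range, ← Nat.cast_smul_eq_nsmul K, LinearMap.zero_apply] at h2
      exact (smul_eq_zero.1 h2).resolve_left hrK
  set M := moved σ (⊤ : Subgroup G) with hM
  have htop : Stable σ (⊤ : Subgroup G) := fun _ _ => mem_top _
  haveI hMn : M.Normal := normalizer_eq_top_iff.1 (top_le_iff.1 (le_normalizer_moved htop))
  have hMs : Stable σ M := stable_moved htop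
  have hcast : ∀ q : ℕ, q.Prime → q ≠ p → (q : K) ≠ 0 := fun q hq hqp h0 =>
    hqp ((Nat.prime_dvd_prime_iff_eq hp'.out hq).1 ((CharP.cast_eq_zero_iff K p q).1 h0)).symm
  have hmv : ∀ (q : ℕ) [Fact q.Prime], q ≠ p → ∀ Q : Subgroup G, IsPGroup q Q → Stable σ Q →
      MovedGroup σ r q (moved σ Q) := fun q hq hqp Q hQ hQs =>
    { cop := hff.cop
      hq := hq.out
      isP := hQ.to_le (moved_le hQs)
      stable := stable_moved hQs
      mvd := hff.cop.moved_moved hQs
      abel := fun A hA hAs hAc _ ha => by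
        refine hffK.abelian_fixed hinjK A hAs hAc ?_ ha
        obtain ⟨n, hn⟩ := (hQ.to_le (hA.trans (moved_le hQs))).exists_card_eq
        rw [hn, Nat.cast_pow]
        exact pow_ne_zero n (hcast q hq.out hqp) }
  have h2 : IsPGroup 2 M := by
    by_cases hp2 : p = 2
    · obtain ⟨S, hS⟩ := hff.cop.exists_sylow 2
      have hodd : ∀ q : ℕ, q.Prime → q ∣ Nat.card G → q ≠ 2 → ∀ Q : Subgroup G, IsPGroup q Q → Stable σ Q →
          ∀ x ∈ Q, σ x = x := by
        intro q hq _ hq2 Q hQ hQs x hx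
        haveI := Fact.mk hq
        have hqp : q ≠ p := hp2 ▸ hq2
        exact moved_eq_bot.1 ((hmv q hqp Q hQ hQs).eq_bot_of_odd hffK hinjK (hcast q hq hqp) hq2) x hx
      refine S.isPGroup'.to_le (moved_le_iff.2 fun g _ => ?_)
      obtain ⟨c, hc, hcg⟩ := hff.cop.exists_fixed_sylow_two S hodd g
      rw [show g⁻¹ * σ g = (c⁻¹ * g)⁻¹ * σ (c⁻¹ * g) by rw [map_mul, map_inv, hc]; group]
      exact mul_mem (inv_mem hcg) (hS _ hcg)
    · obtain ⟨A, hAM, hA, -, htwo⟩ := hasPTwo_of_fixFree (p := p) hp2 ρK φK hinjK hffK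
      have hall : ∀ x ∈ M, (∃ i, x ^ p ^ i = 1) → x ∈ A := by
        intro x hx ⟨i, hi⟩
        obtain ⟨j, hj⟩ := htwo x hx
        obtain ⟨n, hn⟩ := exists_pow_eq_self_of_coprime (n := 2 ^ j) (x := x)
          (Nat.Coprime.coprime_dvd_right (orderOf_dvd_of_pow_eq_one hi)
            (((Nat.coprime_primes Nat.prime_two hp'.out).2 fun e => hp2 e.symm).pow j i))
        rw [← hn]
        exact pow_mem hj n
      have hAn : A.Normal := ⟨fun x hx g => by
        obtain ⟨i, hi⟩ := pow_prime_pow_of_mem hA hx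
        exact hall _ (hMn.conj_mem x (hAM hx) g) ⟨i, by rw [conj_pow, hi, mul_one, mul_inv_cancel]⟩⟩
      have hAs : Stable σ A := fun x hx => by
        obtain ⟨i, hi⟩ := pow_prime_pow_of_mem hA hx
        exact hall _ (hMs x (hAM hx)) ⟨i, by rw [← map_pow, hi, map_one]⟩
      intro x
      obtain ⟨i, hi⟩ := htwo x x.2
      rw [hno A hAn hAs hA, Subgroup.mem_bot] at hi
      exact ⟨i, Subtype.ext hi⟩
  by_cases hp2 : p = 2
  · exact Or.inl (hno M hMn hMs (hp2 ▸ h2))
  refine or_iff_not_imp_left.2 fun hne => ?_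
  have hMG : MovedGroup σ r 2 M := by
    have h3 := hmv 2 (fun e => hp2 e.symm) M h2 hMs
    rwa [hff.cop.moved_moved htop] at h3
  obtain ⟨m, d, -, -⟩ := hffK.exists_signData hMG hinjK (hcast 2 Nat.prime_two fun e => hp2 e.symm) hne
  exact ⟨⟨m, d.r_eq⟩, hMG⟩

theorem shult_special {X : Type u} [Group X] [Finite X] (G R : Subgroup X) [G.Normal] (hX : G ⊔ R = ⊤) (r : ℕ)
    (hr : r.Prime) (hR : Nat.card R = r) (hcop : ¬ r ∣ Nat.card G)
    {k : Type w} [Field k] {p : ℕ} [Fact p.Prime] [CharP k p] {V : Type v} [AddCommGroup V] [Module k V]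
    [FiniteDimensional k V] [Nontrivial V]
    (ρ : X →* Module.End k V) (hfaith : Function.Injective ρ)
    (hirr : ∀ W : Submodule k V, (∀ x : X, W.map (ρ x) ≤ W) → W = ⊥ ∨ W = ⊤)
    (hfix : ∀ v : V, (∀ x ∈ R, ρ x v = v) → v = 0) :
    ⁅G, R⁆ = ⊥ ∨ ((∃ m : ℕ, r = 2 ^ m + 1) ∧ ¬ IsMulCommutative ↥⁅G, R⁆ ∧ Cfsg.IsSpecial 2 ↥⁅G, R⁆) := by
  classical
  haveI := Fact.mk hr
  haveI : IsCyclic R := isCyclic_of_prime_card hR
  obtain ⟨⟨g, hgR⟩, hgen⟩ := IsCyclic.exists_generator (α := R)
  have hRz : ∀ x ∈ R, ∃ n : ℕ, g ^ n = x := fun x hx => by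
    obtain ⟨n, hn⟩ := (Submonoid.mem_powers_iff _ _).1 (mem_powers_iff_mem_zpowers.2 (hgen ⟨x, hx⟩))
    exact ⟨n, congrArg Subtype.val hn⟩
  have hgr : g ^ r = 1 := by
    have h1 := pow_card_eq_one' (G := R) (x := ⟨g, hgR⟩)
    rw [hR] at h1
    exact congrArg Subtype.val h1
  let σ : MulAut G := MulAut.conjNormal g
  have hσ : ∀ x : G, ((σ x : G) : X) = g * x * g⁻¹ := fun x => rfl
  have hσn : ∀ (n : ℕ) (x : G), (((σ ^ n) x : G) : X) = g ^ n * x * (g ^ n)⁻¹ := fun n x => by
    rw [← map_pow]; rfl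
  have hcopσ : CopAut σ r := ⟨hr, MulEquiv.ext fun x => Subtype.ext (by rw [hσn, hgr]; simp), hcop⟩
  have hff : FixFree σ r (ρ.comp G.subtype) (ρ g) :=
    { cop := hcopσ
      compat := fun x => by
        show ρ g * ρ (x : X) = ρ (g * x * g⁻¹) * ρ g
        rw [← map_mul, ← map_mul, inv_mul_cancel_right]
      pow_eq := by rw [← map_pow, hgr, map_one]
      fixed := fun v hv => hfix v fun x hx => by
        obtain ⟨n, rfl⟩ := hRz x hx
        rw [map_pow]
        induction n with
        | zero => rfl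
        | succ n ih => rw [pow_succ, Module.End.mul_apply, hv]; exact ih (R.pow_mem hgR n) }
  have hrk : (r : k) ≠ 0 := natCast_ne_zero_of_fixFree hr hff.pow_eq hff.fixed
  have hno : ∀ A : Subgroup G, A.Normal → Stable σ A → IsPGroup p A → A = ⊥ := by
    intro A hAn hAs hA
    set AX := A.map G.subtype
    have hAX : ∀ x : X, x ∈ normalizer (AX : Set X) := by
      have hG : G ≤ normalizer (AX : Set X) := fun x hx => mem_normalizer_iff.2 fun y => by
        constructor
        · rintro ⟨a, ha, rfl⟩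
          exact ⟨_, hAn.conj_mem a ha ⟨x, hx⟩, rfl⟩
        · rintro ⟨a, ha, e⟩
          refine ⟨_, hAn.conj_mem a ha ⟨x, hx⟩⁻¹, ?_⟩
          show x⁻¹ * (a : X) * x⁻¹⁻¹ = y
          rw [show (a : X) = x * y * x⁻¹ from e]; group
      have hg : g ∈ normalizer (AX : Set X) := mem_normalizer_iff.2 fun y => by
        constructor
        · rintro ⟨a, ha, rfl⟩
          exact ⟨σ a, hAs a ha, rfl⟩
        · rintro ⟨a, ha, e⟩
          obtain ⟨b, rfl⟩ := σ.surjective a
          refine ⟨b, hAs.mem_iff.1 ha, ?_⟩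
          have e' : g * (b : X) * g⁻¹ = g * y * g⁻¹ := e
          exact mul_left_cancel (mul_right_cancel e')
      have htop : (⊤ : Subgroup X) ≤ normalizer (AX : Set X) := hX ▸ sup_le hG fun x hx => by
        obtain ⟨n, rfl⟩ := hRz x hx
        exact pow_mem hg n
      exact fun x => htop (mem_top x)
    obtain ⟨w, hw⟩ := exists_ne (0 : V)
    obtain ⟨z, -, hz0, hz⟩ := CfsgLib.DefectZero.exists_fixed_ne_zero (hA.map G.subtype) (ρ.comp AX.subtype) ⊤
      (fun _ _ _ => Submodule.mem_top) (w := w) Submodule.mem_top hw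
    let F : Submodule k V :=
      { carrier := {v | ∀ y ∈ AX, ρ y v = v}
        add_mem' := fun {a b} ha hb y hy => by rw [map_add, ha y hy, hb y hy]
        zero_mem' := fun y _ => map_zero _
        smul_mem' := fun c v hv y hy => by rw [map_smul, hv y hy] }
    have hF : F = ⊤ := by
      refine (hirr F fun x => ?_).resolve_left ((Submodule.ne_bot_iff _).2 ⟨z, fun y hy => hz ⟨y, hy⟩, hz0⟩)
      rintro _ ⟨v, hv, rfl⟩ y hy
      have hy' : x⁻¹ * y * x ∈ AX := by simpa using (mem_normalizer_iff.1 (hAX x⁻¹) y).1 hy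
      rw [← Module.End.mul_apply, ← map_mul, show y * x = x * (x⁻¹ * y * x) by group, map_mul, Module.End.mul_apply,
        hv _ hy']
    refine (Subgroup.eq_bot_iff_forall A).2 fun a ha => Subtype.ext (hfaith ?_)
    rw [OneMemClass.coe_one, map_one]
    exact LinearMap.ext fun v => (show v ∈ F by rw [hF]; exact Submodule.mem_top) _ ⟨a, ha, rfl⟩
  set M := moved σ (⊤ : Subgroup G) with hM
  have hMX : M.map G.subtype = ⁅G, R⁆ := by
    refine le_antisymm (map_le_iff_le_comap.2 (moved_le_iff.2 fun x _ => ?_)) (commutator_le.2 fun a ha b hb => ?_)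
    · show ((x⁻¹ * σ x : G) : X) ∈ ⁅G, R⁆
      rw [Subgroup.coe_mul, InvMemClass.coe_inv, hσ,
        show (x : X)⁻¹ * (g * x * g⁻¹) = ⁅(x : X)⁻¹, g⁆ by simp only [commutatorElement_def]; group]
      exact commutator_mem_commutator (inv_mem x.2) hgR
    · obtain ⟨n, rfl⟩ := hRz b hb
      refine ⟨(⟨a, ha⟩ : G)⁻¹⁻¹ * (σ ^ n) (⟨a, ha⟩ : G)⁻¹, ?_, ?_⟩
      · generalize (⟨a, ha⟩ : G)⁻¹ = y
        clear hb
        induction n with
        | zero => simp
        | succ n ih =>
          rw [pow_succ', MulAut.mul_apply,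
            show y⁻¹ * σ ((σ ^ n) y) = y⁻¹ * (σ ^ n) y * (((σ ^ n) y)⁻¹ * σ ((σ ^ n) y)) by group]
          exact mul_mem ih (mem_moved (mem_top _))
      · show (((⟨a, ha⟩ : G)⁻¹⁻¹ * (σ ^ n) (⟨a, ha⟩ : G)⁻¹ : G) : X) = ⁅a, g ^ n⁆
        rw [Subgroup.coe_mul, hσn, inv_inv, InvMemClass.coe_inv]
        show a * (g ^ n * a⁻¹ * (g ^ n)⁻¹) = ⁅a, g ^ n⁆
        simp only [commutatorElement_def]; group
  rcases moved_top_special (p := p) (ρ.comp G.subtype) (ρ g) (hfaith.comp Subtype.coe_injective) hff hrk hno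
    with hb | ⟨hm, hMG⟩
  · left; rw [← hMX, show M = ⊥ from hb, Subgroup.map_bot]
  by_cases hb : M = ⊥
  · left; rw [← hMX, hb, Subgroup.map_bot]
  right
  let e : M ≃* ↥⁅G, R⁆ := (M.equivMapOfInjective G.subtype G.subtype_injective).trans (MulEquiv.subgroupCongr hMX)
  refine ⟨hm, fun hc => hb ?_, isSpecial_of_mulEquiv e (isSpecial_of_movedGroup hMG)⟩
  refine hMG.mvd.symm.trans (moved_eq_bot.2 ?_)
  refine hMG.abel M le_rfl hMG.stable fun a ha b hb => ?_
  have h1 := hc.is_comm.comm (e ⟨a, ha⟩) (e ⟨b, hb⟩)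
  rw [← map_mul, ← map_mul] at h1
  exact congrArg Subtype.val (e.injective h1)

end CfsgLib.HHShultGen
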